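import Cfsg.Agent.Lib.CIT.TwoNilp.RankThree
import Cfsg.Agent.Lib.Invol.TwoClasses

/-!
# Elementary abelian Sylow subgroups of order sixteen with small fixed-point-free automizer

Such a Sylow subgroup is normal modulo the odd core: otherwise a minimal normal subgroup is simple, its
involution centralizers are two-nilpotent, so it is a CIT group, and its several classes of involutions
give a normal subgroup inside an abelian centralizer.
-/

set_option autoImplicit false
set_option linter.style.haveILetI false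

open Subgroup

namespace CfsgLib.TwoNilp

universe u

variable {W : Type u} [Group W] [Finite W]

/-- The hypotheses: exponent two, order sixteen, free automizer with short orbits and no proper invariant
subgroup. -/
structure Sixteen (E : Sylow 2 W) : Prop where
  card : Nat.card (E : Subgroup W) = 16
  exp : ∀ e ∈ (E : Subgroup W), e * e = 1
  free : ∀ w ∈ normalizer ((E : Subgroup W) : Set W), ∀ e ∈ (E : Subgroup W), e ≠ 1 → w * e = e * w →
    ∀ x ∈ (E : Subgroup W), w * x = x * w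
  irr : ∀ w ∈ normalizer ((E : Subgroup W) : Set W), (∃ x ∈ (E : Subgroup W), w * x ≠ x * w) →
    ∀ D ≤ (E : Subgroup W), (∀ d ∈ D, w * d * w⁻¹ ∈ D) → D = ⊥ ∨ D = (E : Subgroup W)
  five : ∀ e ∈ (E : Subgroup W), ∃ s : Finset W, s.card ≤ 5 ∧
    ∀ w ∈ normalizer ((E : Subgroup W) : Set W), w * e * w⁻¹ ∈ s

theorem odd_card_pPrimeCore {H : Type u} [Group H] [Finite H] : Odd (Nat.card (Cfsg.pPrimeCore 2 H)) :=
  Nat.odd_iff.2 (Nat.two_dvd_ne_zero.1 (CfsgLib.Coprime.pPrimeCore_not_dvd Nat.prime_two))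

/-- The odd core of a normal subgroup of a group with trivial odd core is trivial. -/
theorem pPrimeCore_eq_bot_of_normal (hO : Cfsg.pPrimeCore 2 W = ⊥) (L : Subgroup W) [L.Normal] :
    Cfsg.pPrimeCore 2 ↥L = ⊥ := by
  have h1 := CfsgLib.Coprime.pPrimeCore_map_subtype_eq (G := W) Nat.prime_two L
  rw [hO, bot_inf_eq] at h1
  exact (Subgroup.map_eq_bot_iff_of_injective _ L.subtype_injective).1 h1

/-- A normal subgroup with trivial intersection with a Sylow two-subgroup has odd order. -/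
theorem not_two_dvd_of_disjoint (E : Sylow 2 W) {M : Subgroup W} (hn : M.Normal)
    (hd : M ⊓ (E : Subgroup W) = ⊥) : ¬ 2 ∣ Nat.card M := by
  haveI : Fact (Nat.Prime 2) := ⟨Nat.prime_two⟩
  intro h2
  obtain ⟨m, hm⟩ := exists_prime_orderOf_dvd_card' 2 h2
  have hp : IsPGroup 2 ↥(zpowers (m : W)) :=
    IsPGroup.of_card (n := 1) (by rw [Nat.card_zpowers, Subgroup.orderOf_coe, hm, pow_one])
  obtain ⟨g, hg⟩ := CfsgLib.Invol.exists_conj_le_sylow hp E
  have h1 : g * (m : W) * g⁻¹ ∈ M ⊓ (E : Subgroup W) := ⟨hn.conj_mem _ m.2 g, hg _ (mem_zpowers _)⟩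
  rw [hd, mem_bot, conj_eq_one_iff, OneMemClass.coe_eq_one] at h1
  rw [h1, orderOf_one] at hm
  omega

theorem Sixteen.normal_of_core_bot {E : Sylow 2 W} (h : Sixteen E) (hO : Cfsg.pPrimeCore 2 W = ⊥) :
    (E : Subgroup W).Normal := by
  haveI : Fact (Nat.Prime 2) := ⟨Nat.prime_two⟩
  have hcomm : ∀ a ∈ (E : Subgroup W), ∀ b ∈ (E : Subgroup W), a * b = b * a := fun a ha b hb => by
    have hinv : ∀ c ∈ (E : Subgroup W), c⁻¹ = c := fun c hc => inv_eq_of_mul_eq_one_right (h.exp c hc)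
    rw [← hinv _ (mul_mem ha hb), mul_inv_rev, hinv a ha, hinv b hb]
  have hEab : IsMulCommutative ↥(E : Subgroup W) := ⟨⟨fun a b => Subtype.ext (hcomm a a.2 b b.2)⟩⟩
  -- without a moving element the whole group is two-nilpotent
  have hnil : ∀ (L : Subgroup W), L.Normal → (E : Subgroup W) ≤ L →
      (∀ w ∈ normalizer ((E : Subgroup W) : Set W), w ∈ L → ∀ x ∈ (E : Subgroup W), w * x = x * w) →
      L = (E : Subgroup W) := by
    intro L hL hEL hno
    haveI := hL
    obtain ⟨P, N, hN, hc⟩ := CfsgLib.Fusion.hasNormalPComplement_of_normalizer_le_centralizer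
      (E.subtype hEL) fun w hw => mem_centralizer_iff.2 fun x hx => by
        have hwN : (w : W) ∈ normalizer ((E : Subgroup W) : Set W) := by
          refine mem_normalizer_iff.2 fun y => ⟨fun hy => ?_, fun hy => ?_⟩
          · exact (mem_normalizer_iff.1 hw ⟨y, hEL hy⟩).1 hy
          · have hyL : y ∈ L := by
              have := hL.conj_mem _ (hEL hy) ((w : W))⁻¹
              rwa [inv_inv, show (w : W)⁻¹ * ((w : W) * y * (w : W)⁻¹) * (w : W) = y by group] at this
            exact (mem_normalizer_iff.1 hw ⟨y, hyL⟩).2 hy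
        exact Subtype.ext (hno w hwN w.2 x hx).symm
    have hNodd := odd_card_of_isComplement hc
    haveI := hN
    have hNle : N ≤ Cfsg.pPrimeCore 2 ↥L := CfsgLib.Coprime.le_pPrimeCore_of_not_dvd Nat.prime_two
      (Nat.two_dvd_ne_zero.2 (Nat.odd_iff.1 hNodd))
    rw [pPrimeCore_eq_bot_of_normal hO L, le_bot_iff] at hNle
    have htop : (P : Subgroup ↥L) = ⊤ := by
      have := hc.sup_eq_top
      rwa [hNle, bot_sup_eq] at this
    have hLp : IsPGroup 2 ↥L := by
      have := P.isPGroup'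
      rw [htop] at this
      exact this.of_equiv topEquiv
    exact (E.is_maximal' hLp hEL)
  by_cases hmove : ∀ w ∈ normalizer ((E : Subgroup W) : Set W), ∀ x ∈ (E : Subgroup W), w * x = x * w
  · rw [← hnil ⊤ inferInstance le_top fun w hw _ => hmove w hw]
    infer_instance
  simp only [not_forall, exists_prop] at hmove
  obtain ⟨f, hf, x0, hx0, hfx⟩ := hmove
  have hge : ∀ M : Subgroup W, M.Normal → M ≠ ⊥ → (E : Subgroup W) ≤ M := by
    intro M hM hM1
    haveI := hM
    rcases h.irr f hf ⟨x0, hx0, hfx⟩ (M ⊓ (E : Subgroup W)) inf_le_right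
      (fun d hd => ⟨hM.conj_mem d hd.1 f, (mem_normalizer_iff.1 hf d).1 hd.2⟩) with e | e
    · refine absurd ?_ hM1
      rw [← le_bot_iff, ← hO]
      exact CfsgLib.Coprime.le_pPrimeCore_of_not_dvd Nat.prime_two (not_two_dvd_of_disjoint E hM e)
    · exact e ▸ inf_le_left
  -- a minimal normal subgroup
  have hne : ∃ n : ℕ, ∃ M : Subgroup W, M.Normal ∧ M ≠ ⊥ ∧ Nat.card M = n := ⟨_, ⊤, inferInstance, fun e => by
    have h1 := card_dvd_of_le (le_top : (E : Subgroup W) ≤ ⊤)
    rw [h.card, e, card_bot] at h1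
    norm_num at h1, rfl⟩
  classical
  obtain ⟨L, hL, hL1, hLc⟩ := Nat.find_spec hne
  have hLmin : ∀ M : Subgroup W, M.Normal → M ≤ L → M ≠ ⊥ → M = L := fun M hM hle hM1 =>
    eq_of_le_of_card_ge hle (hLc.le.trans (Nat.find_le ⟨M, hM, hM1, rfl⟩))
  haveI := hL
  have hEL := hge L hL hL1
  by_cases hLE : L = (E : Subgroup W)
  · exact hLE ▸ hL
  exfalso
  obtain ⟨w, hw, hwL, x1, hx1, hwx⟩ : ∃ w ∈ normalizer ((E : Subgroup W) : Set W), w ∈ L ∧
      ∃ x ∈ (E : Subgroup W), w * x ≠ x * w := by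
    by_contra hcon
    simp only [not_exists, not_and, ne_eq, not_not] at hcon
    exact hLE (hnil L hL hEL hcon)
  set EL : Sylow 2 ↥L := E.subtype hEL with hELdef
  have hmemEL : ∀ x : ↥L, x ∈ (EL : Subgroup ↥L) ↔ (x : W) ∈ (E : Subgroup W) := fun _ => Iff.rfl
  have hELcard : Nat.card (EL : Subgroup ↥L) = 16 := by
    rw [← h.card]; exact Nat.card_congr (subgroupOfEquivOfLe hEL).toEquiv
  haveI : Nontrivial ↥L := (nontrivial_iff_ne_bot L).2 hL1
  have hOL := pPrimeCore_eq_bot_of_normal hO L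
  -- `L` is simple
  haveI hLsimple : IsSimpleGroup ↥L := by
    refine ⟨fun M hM => ?_⟩
    by_contra hcon
    simp only [not_or] at hcon
    have hex : ∃ n : ℕ, ∃ M : Subgroup ↥L, M.Normal ∧ M ≠ ⊥ ∧ Nat.card M = n := ⟨_, M, hM, hcon.1, rfl⟩
    obtain ⟨M0, hM0, hM01, hM0c⟩ := Nat.find_spec hex
    have hM0min : ∀ N : Subgroup ↥L, N.Normal → N ≤ M0 → N ≠ ⊥ → N = M0 := fun N hN hle hN1 =>
      eq_of_le_of_card_ge hle (hM0c.le.trans (Nat.find_le ⟨N, hN, hN1, rfl⟩))
    have hM0top : M0 ≠ ⊤ := fun e => hcon.2 (eq_top_iff.2 (by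
      refine (eq_of_le_of_card_ge le_top ?_).ge
      rw [← e, hM0c]
      exact Nat.find_le ⟨M, hM, hcon.1, rfl⟩))
    -- every normal subgroup of `L` contains `E`
    have hgeL : ∀ N : Subgroup ↥L, N.Normal → N ≠ ⊥ → ∀ x : ↥L, (x : W) ∈ (E : Subgroup W) → x ∈ N := by
      intro N hN hN1 x hx
      haveI := hN
      rcases h.irr w hw ⟨x1, hx1, hwx⟩ (N.map L.subtype ⊓ (E : Subgroup W)) inf_le_right (fun d hd => by
          obtain ⟨n, hn, rfl⟩ := hd.1
          exact ⟨⟨⟨w, hwL⟩ * n * ⟨w, hwL⟩⁻¹, hN.conj_mem n hn _, rfl⟩, (mem_normalizer_iff.1 hw _).1 hd.2⟩)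
        with e | e
      · refine absurd ?_ hN1
        rw [← le_bot_iff, ← hOL]
        refine CfsgLib.Coprime.le_pPrimeCore_of_not_dvd Nat.prime_two (not_two_dvd_of_disjoint EL hN ?_)
        rw [eq_bot_iff]
        intro y hy
        have : (y : W) ∈ N.map L.subtype ⊓ (E : Subgroup W) := ⟨⟨y, hy.1, rfl⟩, hy.2⟩
        rw [e, mem_bot] at this
        exact mem_bot.2 (Subtype.ext this)
      · have : (x : W) ∈ N.map L.subtype ⊓ (E : Subgroup W) := by rw [e]; exact hx
        obtain ⟨n, hn, hnx⟩ := this.1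
        rwa [← Subtype.ext hnx]
    -- some conjugate differs
    by_cases hconj : ∀ g : W, ∀ x : ↥L, x ∈ M0 → (⟨g * x * g⁻¹, hL.conj_mem x x.2 g⟩ : ↥L) ∈ M0
    · have hn : (M0.map L.subtype).Normal := ⟨fun y hy g => by
        obtain ⟨x, hx, rfl⟩ := hy
        exact ⟨_, hconj g x hx, rfl⟩⟩
      have := hLmin _ hn (map_subtype_le M0) fun e => hM01
        ((Subgroup.map_eq_bot_iff_of_injective _ L.subtype_injective).1 e)
      refine hM0top (eq_top_iff.2 fun x _ => ?_)
      have hx : (x : W) ∈ M0.map L.subtype := by rw [this]; exact x.2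
      obtain ⟨m, hm, hmx⟩ := hx
      rwa [← Subtype.ext hmx]
    simp only [not_forall] at hconj
    obtain ⟨g, x, hx, hgx⟩ := hconj
    let c : ↥L →* ↥L := MonoidHom.mk' (fun y => ⟨g * (y : W) * g⁻¹, hL.conj_mem y y.2 g⟩)
      fun a b => Subtype.ext (by push_cast; group)
    have hcinj : Function.Injective c := fun a b e =>
      Subtype.ext (mul_left_cancel (mul_right_cancel (congrArg Subtype.val e)))
    have hcsurj : Function.Surjective c := Finite.surjective_of_injective hcinj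
    have hM1n : (M0.map c).Normal := hM0.map c hcsurj
    haveI := hM0; haveI := hM1n
    have hne : M0 ⊓ M0.map c ≠ M0 := fun e => by
      have hle : M0 ≤ M0.map c := e.ge.trans inf_le_right
      have := eq_of_le_of_card_ge hle (card_map_of_injective (K := M0) hcinj).le
      exact hgx (this.symm ▸ (⟨x, hx, rfl⟩ : c x ∈ M0.map c))
    have hbot : M0 ⊓ M0.map c = ⊥ := by
      by_contra hb
      exact hne (hM0min _ inferInstance inf_le_left hb)
    have hM11 : M0.map c ≠ ⊥ := fun e => hM01 ((Subgroup.map_eq_bot_iff_of_injective _ hcinj).1 e)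
    have hle : (EL : Subgroup ↥L) ≤ M0 ⊓ M0.map c := fun y hy =>
      ⟨hgeL M0 hM0 hM01 y hy, hgeL _ hM1n hM11 y hy⟩
    have := card_dvd_of_le hle
    rw [hbot, hELcard, card_bot] at this
    norm_num at this
  have hLnc : ¬ IsMulCommutative ↥L := fun hc => hwx (congrArg Subtype.val
    (hc.is_comm.comm (⟨w, hwL⟩ : ↥L) ⟨x1, hEL hx1⟩))
  -- the centralizers of involutions are two-nilpotent
  have hI : Nilp ↥L := by
    intro t ht
    obtain ⟨g, hg⟩ := CfsgLib.Invol.exists_conj_le_sylow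
      (IsPGroup.of_card (n := 1) (by rw [Nat.card_zpowers, ht, pow_one]) : IsPGroup 2 ↥(zpowers t)) EL
    have htE : ((g * t * g⁻¹ : ↥L) : W) ∈ (E : Subgroup W) := hg t (mem_zpowers t)
    set t' : ↥L := g * t * g⁻¹ with ht'
    have ht'1 : (t' : W) ≠ 1 := fun e => by
      have : t = 1 := by
        have e' : g * t * g⁻¹ = 1 := Subtype.ext e
        exact conj_eq_one_iff.1 e'
      rw [this, orderOf_one] at ht; omega
    set C := centralizer ({t'} : Set ↥L) with hC
    have hEC : (EL : Subgroup ↥L) ≤ C := fun y hy =>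
      mem_centralizer_singleton_iff.2 (Subtype.ext (hcomm _ hy _ htE))
    have hCnil : Cfsg.HasNormalPComplement 2 ↥C := by
      refine CfsgLib.Fusion.hasNormalPComplement_of_normalizer_le_centralizer (EL.subtype hEC)
        fun c hc => mem_centralizer_iff.2 fun y hy => ?_
      have hcN : (((c : ↥L)) : W) ∈ normalizer ((E : Subgroup W) : Set W) := by
        refine CfsgLib.Fusion.conjBy_eq_iff.1 (CfsgLib.Fusion.conjBy_eq_of_le
          (CfsgLib.Fusion.conjBy_le_iff.2 fun e he => ?_))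
        exact (mem_normalizer_iff.1 hc ⟨⟨e, hEL he⟩, hEC he⟩).1 he
      have hct : ((c : ↥L) : W) * (t' : W) = (t' : W) * ((c : ↥L) : W) :=
        congrArg Subtype.val (mem_centralizer_singleton_iff.1 c.2)
      exact Subtype.ext (Subtype.ext (h.free _ hcN _ htE ht'1 hct _ hy).symm)
    refine CfsgLib.Fusion.hasNormalPComplement_of_injective
      (MonoidHom.mk' (fun y : ↥(centralizer ({t} : Set ↥L)) => (⟨g * (y : ↥L) * g⁻¹,
        mem_centralizer_singleton_iff.2 (by
          rw [ht']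
          calc g * (y : ↥L) * g⁻¹ * (g * t * g⁻¹) = g * ((y : ↥L) * t) * g⁻¹ := by group
            _ = g * (t * (y : ↥L)) * g⁻¹ := by rw [mem_centralizer_singleton_iff.1 y.2]
            _ = _ := by group)⟩ : ↥C)) fun a b => Subtype.ext (by push_cast; group))
      (fun a b e => Subtype.ext (mul_left_cancel (mul_right_cancel (congrArg Subtype.val e)))) hCnil
  have hrank : ¬ Cfsg.PRankLE 2 2 ↥L := fun hr => by
    have := hr (EL : Subgroup ↥L) ⟨⟨fun a b => Subtype.ext (Subtype.ext (hcomm _ a.2 _ b.2))⟩⟩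
      fun a ha => Subtype.ext (by push_cast; rw [sq]; exact h.exp _ ha)
    rw [hELcard] at this
    norm_num at this
  have hcit := isCIT_of_rank hLnc hI hrank
  -- centralizers of involutions are conjugates of `EL`
  have hCpg : ∀ t : ↥L, orderOf t = 2 → IsPGroup 2 ↥(centralizer ({t} : Set ↥L)) := by
    intro t ht y
    obtain ⟨k, hk⟩ := CfsgLib.CIT.exists_pow_odd (y : ↥L)
    refine ⟨k, Subtype.ext ?_⟩
    push_cast
    exact hcit t _ ht hk ((Commute.pow_left
      (mem_centralizer_singleton_iff.1 y.2 : Commute (y : ↥L) t) _).eq)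
  have hCab : ∀ t : ↥L, orderOf t = 2 → ∀ a ∈ centralizer ({t} : Set ↥L), ∀ b ∈ centralizer ({t} : Set ↥L),
      a * b = b * a := by
    intro t ht a ha b hb
    obtain ⟨g, hg⟩ := CfsgLib.Invol.exists_conj_le_sylow (hCpg t ht) EL
    have e : g * a * g⁻¹ * (g * b * g⁻¹) = g * b * g⁻¹ * (g * a * g⁻¹) :=
      Subtype.ext (hcomm _ (hg a ha) _ (hg b hb))
    have e2 : g * (a * b) * g⁻¹ = g * (b * a) * g⁻¹ := by
      calc g * (a * b) * g⁻¹ = g * a * g⁻¹ * (g * b * g⁻¹) := by group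
        _ = g * b * g⁻¹ * (g * a * g⁻¹) := e
        _ = _ := by group
    exact mul_left_cancel (mul_right_cancel e2)
  have hCE : ∀ t : ↥L, t ∈ (EL : Subgroup ↥L) → orderOf t = 2 →
      centralizer ({t} : Set ↥L) = (EL : Subgroup ↥L) := fun t htE ht =>
    EL.is_maximal' (hCpg t ht) fun y hy => mem_centralizer_singleton_iff.2 (Subtype.ext (hcomm _ hy _ htE))
  haveI : Nontrivial ↥(EL : Subgroup ↥L) := Finite.one_lt_card_iff_nontrivial.1 (by rw [hELcard]; norm_num)
  obtain ⟨⟨t, htE⟩, ht1⟩ := exists_ne (1 : ↥(EL : Subgroup ↥L))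
  have ht : orderOf t = 2 := orderOf_eq_prime
    (Subtype.ext (by push_cast; rw [sq]; exact h.exp _ htE)) fun e => ht1 (Subtype.ext e)
  obtain ⟨s, hs5, hsmem⟩ := h.five (t : W) htE
  -- conjugates of `t` in `E`
  have hfus : ∀ y : ↥L, y ∈ (EL : Subgroup ↥L) → IsConj t y → (y : W) ∈ s := by
    intro y hy hty
    obtain ⟨g, rfl⟩ := isConj_iff.1 hty
    have hy2 : orderOf (g * t * g⁻¹) = 2 := by rw [CfsgLib.CIT.orderOf_conj_eq, ht]
    have hN : (g : W) ∈ normalizer ((E : Subgroup W) : Set W) := by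
      refine CfsgLib.Fusion.conjBy_eq_iff.1 (CfsgLib.Fusion.conjBy_eq_of_le
        (CfsgLib.Fusion.conjBy_le_iff.2 fun e he => ?_))
      have hmem : g * (⟨e, hEL he⟩ : ↥L) * g⁻¹ ∈ centralizer ({g * t * g⁻¹} : Set ↥L) := by
        refine mem_centralizer_singleton_iff.2 ?_
        have hc : (⟨e, hEL he⟩ : ↥L) * t = t * ⟨e, hEL he⟩ := Subtype.ext (hcomm _ he _ htE)
        calc g * ⟨e, hEL he⟩ * g⁻¹ * (g * t * g⁻¹) = g * (⟨e, hEL he⟩ * t) * g⁻¹ := by group
          _ = g * (t * ⟨e, hEL he⟩) * g⁻¹ := by rw [hc]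
          _ = _ := by group
      rw [hCE _ hy hy2] at hmem
      exact hmem
    exact hsmem _ hN
  obtain ⟨s0, hs0E, hs02, hs0⟩ : ∃ y : ↥L, y ∈ (EL : Subgroup ↥L) ∧ orderOf y = 2 ∧ ¬ IsConj t y := by
    by_contra hcon
    simp only [not_exists, not_and, not_not] at hcon
    have hsub : (((E : Subgroup W) : Set W) \ {1}) ⊆ (s : Set W) := fun e he =>
      hfus ⟨e, hEL he.1⟩ he.1 (hcon _ he.1 (orderOf_eq_prime (Subtype.ext (by
        push_cast; rw [sq]; exact h.exp _ he.1)) fun e' => he.2 (congrArg Subtype.val e')))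
    have h1 := Set.ncard_le_ncard hsub (Set.toFinite _)
    rw [Set.ncard_coe_finset, Set.ncard_sdiff_singleton_of_mem (one_mem _), ← Nat.card_coe_set_eq] at h1
    rw [show Nat.card ↥((E : Subgroup W) : Set W) = Nat.card (E : Subgroup W) from rfl, h.card] at h1
    omega
  -- the class of `s0` lies in `E`
  have hclass : ∀ g : ↥L, g * s0 * g⁻¹ ∈ (EL : Subgroup ↥L) := by
    intro g
    have hg2 : orderOf (g * s0 * g⁻¹) = 2 := by rw [CfsgLib.CIT.orderOf_conj_eq, hs02]
    obtain ⟨z, hz, hzt, hzs⟩ := CfsgLib.Invol.exists_invol_commute_both ht hg2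
      fun hc => hs0 (hc.trans (isConj_iff.2 ⟨g, rfl⟩).symm)
    rw [← hCE t htE ht]
    exact mem_centralizer_singleton_iff.2 (hCab z hz _ (mem_centralizer_singleton_iff.2 hzs.eq.symm)
      _ (mem_centralizer_singleton_iff.2 hzt.eq.symm))
  have hcl : Subgroup.normalClosure ({s0} : Set ↥L) ≤ (EL : Subgroup ↥L) :=
    (closure_le _).2 fun y hy => by
      obtain ⟨a, rfl, ha⟩ := Group.mem_conjugatesOfSet_iff.1 hy
      obtain ⟨g, rfl⟩ := isConj_iff.1 ha
      exact hclass g
  rcases (Subgroup.normalClosure_normal (s := ({s0} : Set ↥L))).eq_bot_or_eq_top with e | e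
  · have := Subgroup.subset_normalClosure (Set.mem_singleton s0)
    rw [e] at this
    rw [mem_bot.1 this, orderOf_one] at hs02
    omega
  · rw [e] at hcl
    exact hLnc ⟨⟨fun a b => Subtype.ext (hcomm _ (hcl (mem_top a)) _ (hcl (mem_top b)))⟩⟩

/-- The normalizer of the Sylow subgroup covers the quotient by the odd core. -/
theorem Sixteen.eq_top {E : Sylow 2 W} (h : Sixteen E) :
    Cfsg.pPrimeCore 2 W ⊔ normalizer ((E : Subgroup W) : Set W) = ⊤ := by
  haveI : Fact (Nat.Prime 2) := ⟨Nat.prime_two⟩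
  set K := Cfsg.pPrimeCore 2 W with hK
  haveI : K.Normal := by
    rw [hK, CfsgLib.Coprime.pPrimeCore_eq_piCore Nat.prime_two]; infer_instance
  have hKc : ¬ 2 ∣ Nat.card K := CfsgLib.Coprime.pPrimeCore_not_dvd Nat.prime_two
  set π := QuotientGroup.mk' K with hπ
  set E' : Sylow 2 (W ⧸ K) := E.mapSurjective (QuotientGroup.mk'_surjective K) with hE'
  have hE'c : (E' : Subgroup (W ⧸ K)) = (E : Subgroup W).map π := Sylow.coe_mapSurjective _ _
  have hinj : ∀ a ∈ (E : Subgroup W), π a = 1 → a = 1 := fun a ha e =>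
    CfsgLib.TwoNilp.eq_one_of_mem E.isPGroup' ha
      ((Nat.odd_iff.2 (Nat.two_dvd_ne_zero.1 hKc)).of_dvd_nat
        (Subgroup.orderOf_dvd_natCard K ((QuotientGroup.eq_one_iff a).1 e)))
  have hinj2 : ∀ a ∈ (E : Subgroup W), ∀ b ∈ (E : Subgroup W), π a = π b → a = b := fun a ha b hb e =>
    mul_inv_eq_one.1 (hinj _ (mul_mem ha (inv_mem hb)) (by rw [map_mul, map_inv, e, mul_inv_cancel]))
  -- elements of the normalizer lift
  have hlift : ∀ w' ∈ normalizer ((E' : Subgroup (W ⧸ K)) : Set (W ⧸ K)),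
      ∃ w ∈ normalizer ((E : Subgroup W) : Set W), π w = w' := fun w' hw' => by
    rw [hE'c] at hw'
    obtain ⟨n, hn, hnw⟩ := CfsgLib.Fusion.normalizer_map_le K hKc E.isPGroup' hw'
    exact ⟨n, hn, hnw⟩
  have hcl : ∀ w ∈ normalizer ((E : Subgroup W) : Set W), ∀ e ∈ (E : Subgroup W),
      π w * π e = π e * π w → w * e = e * w := fun w hw e he hc => by
    refine mul_inv_eq_iff_eq_mul.1 (hinj2 _ ((mem_normalizer_iff.1 hw e).1 he) _ he ?_)
    rw [map_mul, map_mul, map_inv, hc, mul_inv_cancel_right]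
  have h' : Sixteen E' := by
    refine ⟨?_, ?_, ?_, ?_, ?_⟩
    · rw [← h.card]
      refine (Nat.card_congr (Equiv.ofBijective (fun a : ↥(E : Subgroup W) =>
        (⟨π a, hE'c ▸ mem_map_of_mem π a.2⟩ : ↥(E' : Subgroup (W ⧸ K)))) ⟨fun a b e =>
          Subtype.ext (hinj2 a a.2 b b.2 (congrArg Subtype.val e)), fun b => ?_⟩)).symm
      have hb : (b : W ⧸ K) ∈ (E : Subgroup W).map π := hE'c ▸ b.2
      obtain ⟨a, ha, hab⟩ := hb
      exact ⟨⟨a, ha⟩, Subtype.ext hab⟩
    · intro e he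
      rw [hE'c] at he
      obtain ⟨a, ha, rfl⟩ := he
      rw [← map_mul, h.exp a ha, map_one]
    · intro w' hw' e he he1 hc x hx
      obtain ⟨w, hw, rfl⟩ := hlift w' hw'
      rw [hE'c] at he hx
      obtain ⟨a, ha, rfl⟩ := he
      obtain ⟨b, hb, rfl⟩ := hx
      rw [← map_mul, h.free w hw a ha (fun e => he1 (by rw [e, map_one])) (hcl w hw a ha hc) b hb, map_mul]
    · intro w' hw' hmv D hD hinv
      obtain ⟨w, hw, rfl⟩ := hlift w' hw'
      obtain ⟨x, hx, hxw⟩ := hmv
      rw [hE'c] at hx hD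
      obtain ⟨a, ha, rfl⟩ := hx
      rcases h.irr w hw ⟨a, ha, fun e => hxw (by rw [← map_mul, e, map_mul])⟩
        ((E : Subgroup W) ⊓ D.comap π) inf_le_left (fun d hd => ⟨(mem_normalizer_iff.1 hw d).1 hd.1, by
          show π (w * d * w⁻¹) ∈ D
          rw [map_mul, map_mul, map_inv]
          exact hinv _ hd.2⟩) with e | e
      · refine Or.inl (eq_bot_iff.2 fun y hy => ?_)
        obtain ⟨b, hb, rfl⟩ := hD hy
        have : b ∈ (E : Subgroup W) ⊓ D.comap π := ⟨hb, hy⟩
        rw [e, mem_bot] at this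
        rw [this, map_one]; exact one_mem _
      · refine Or.inr (le_antisymm (hE'c ▸ hD) ?_)
        rw [hE'c]
        rintro _ ⟨b, hb, rfl⟩
        have : b ∈ (E : Subgroup W) ⊓ D.comap π := by rw [e]; exact hb
        exact this.2
    · intro e he
      classical
      rw [hE'c] at he
      obtain ⟨a, ha, rfl⟩ := he
      obtain ⟨s, hs, hsm⟩ := h.five a ha
      refine ⟨s.image π, le_trans Finset.card_image_le hs, fun w' hw' => ?_⟩
      obtain ⟨w, hw, rfl⟩ := hlift w' hw'
      exact Finset.mem_image.2 ⟨_, hsm w hw, by rw [map_mul, map_mul, map_inv]⟩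
  have hn := h'.normal_of_core_bot (CfsgLib.Coprime.pPrimeCore_quotient_eq_bot Nat.prime_two)
  rw [eq_top_iff]
  intro w _
  obtain ⟨n, hn', hnw⟩ := hlift (π w) (mem_normalizer_iff.2 fun y =>
    ⟨fun hy => hn.conj_mem y hy _, fun hy => by
      have := hn.conj_mem _ hy (π w)⁻¹
      rwa [inv_inv, show (π w)⁻¹ * (π w * y * (π w)⁻¹) * π w = y by group] at this⟩)
  have hmem : w * n⁻¹ ∈ K := by
    refine (QuotientGroup.eq_one_iff _).1 ?_
    show π (w * n⁻¹) = 1
    rw [map_mul, map_inv, hnw, mul_inv_cancel]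
  have := mul_mem (mem_sup_left (T := normalizer ((E : Subgroup W) : Set W)) hmem) (mem_sup_right hn')
  rwa [inv_mul_cancel_right] at this

end CfsgLib.TwoNilp
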