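import Mathlib

/-!
# The arithmetic of five class functions of norm four
-/

set_option autoImplicit false

open Finset

namespace CfsgLib.TwoNilp

/-- Integer data of class functions with pairwise products three or four. -/
structure FiveTable (ι K : Type*) [Fintype ι] [Fintype K] [DecidableEq ι] where
  o : ι
  B : Finset ι
  o_mem : o ∈ B
  d : ι → ℤ
  v : ι → ℤ
  c : K → ι → ℤ
  d_o : d o = 1
  v_o : v o = 1
  d_pos : ∀ i, 0 < d i
  abs_v : ∀ i, |v i| ≤ d i
  ne_deg : ∀ i, i ≠ o → v i ≠ d i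
  card : Fintype.card K = 15
  c_o : ∀ k, c k o = 1
  c_B : ∀ k i, c k i ≠ 0 → i ∈ B
  norm : ∀ k, ∑ i, c k i * c k i = 4
  prod : ∀ k l, c k ≠ c l → ∑ i, c k i * c l i = 3
  fib : ∀ k, (univ.filter fun l => c l = c k).card = 3
  degsum : ∀ k, ∑ i, c k i * d i = 0
  valsum : ∀ k, ∑ i, c k i * v i = 0
  quad : ∀ k, ∑ i, (c k i : ℚ) * ((v i : ℚ) ^ 2 / (d i : ℚ)) = 0
  bound : ∑ i ∈ B, v i ^ 2 = 64
  cong64 : ∀ i ∈ B, (64 : ℤ) ∣ d i + 3 * v i + 4 * ∑ k, c k i
  cong16 : ∀ i, (16 : ℤ) ∣ d i - v i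

/-- Five or more three-sets meeting pairwise in two points have a common pair. -/
theorem exists_common_pair {α : Type*} [DecidableEq α] (𝒮 : Finset (Finset α)) (h5 : 5 ≤ 𝒮.card)
    (h3 : ∀ T ∈ 𝒮, T.card = 3) (h2 : ∀ T ∈ 𝒮, ∀ T' ∈ 𝒮, T ≠ T' → (T ∩ T').card = 2) :
    ∃ P : Finset α, P.card = 2 ∧ ∀ T ∈ 𝒮, P ⊆ T := by
  obtain ⟨A, hA, B, hB, hAB⟩ := one_lt_card.1 (show 1 < 𝒮.card by omega)
  set P := A ∩ B with hP
  have hPc : P.card = 2 := h2 A hA B hB hAB
  have hX : (A ∪ B).card = 4 := by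
    have := card_union_add_card_inter A B
    rw [h3 A hA, h3 B hB, ← hP, hPc] at this
    omega
  refine ⟨P, hPc, fun T hT => ?_⟩
  by_contra hPT
  have hsmall : ∀ V ∈ 𝒮, ¬ P ⊆ V → V ⊆ A ∪ B := by
    intro V hV hPV
    have hVA : V ≠ A := fun e => hPV (e ▸ inter_subset_left)
    have hVB : V ≠ B := fun e => hPV (e ▸ inter_subset_right)
    have h1 := h2 V hV A hA hVA
    have h1' := h2 V hV B hB hVB
    have hlt : (V ∩ A ∩ (V ∩ B)).card < 2 := by
      rw [show V ∩ A ∩ (V ∩ B) = V ∩ P by rw [hP]; ext; simp; tauto, ← hPc]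
      exact card_lt_card ⟨inter_subset_right, fun hsub => hPV (hsub.trans inter_subset_left)⟩
    have hu := card_union_add_card_inter (V ∩ A) (V ∩ B)
    rw [← inter_union_distrib_left] at hu
    exact inter_eq_left.1 (eq_of_subset_of_card_le inter_subset_left (by rw [h3 V hV]; omega))
  have hall : ∀ W ∈ 𝒮, W ⊆ A ∪ B := by
    intro W hW
    by_cases hPW : P ⊆ W
    swap
    · exact hsmall W hW hPW
    have hWT : W ≠ T := fun e => hPT (e ▸ hPW)
    have h1 := h2 W hW T hT hWT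
    by_contra hW'
    have hWP : W ∩ (A ∪ B) = P := by
      refine (eq_of_subset_of_card_le (subset_inter hPW (inter_subset_left.trans subset_union_left)) ?_).symm
      have : (W ∩ (A ∪ B)).card < W.card :=
        card_lt_card ⟨inter_subset_left, fun hsub => hW' (hsub.trans inter_subset_right)⟩
      rw [h3 W hW] at this
      omega
    have hsub : W ∩ T ⊆ P ∩ T := by
      intro a ha
      simp only [mem_inter] at ha ⊢
      refine ⟨?_, ha.2⟩
      rw [← hWP]
      exact mem_inter.2 ⟨ha.1, hsmall T hT hPT ha.2⟩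
    have : (P ∩ T).card < P.card :=
      card_lt_card ⟨inter_subset_left, fun hsub => hPT (hsub.trans inter_subset_right)⟩
    have := card_le_card hsub
    omega
  have hle : 𝒮.card ≤ ((A ∪ B).powersetCard 3).card :=
    card_le_card fun W hW => mem_powersetCard.2 ⟨hall W hW, h3 W hW⟩
  rw [card_powersetCard, hX, show Nat.choose 4 3 = 4 from rfl] at hle
  omega

namespace FiveTable

variable {ι K : Type*} [Fintype ι] [Fintype K] [DecidableEq ι] (D : FiveTable ι K)

/-- The distinct coefficient vectors. -/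
noncomputable def vecs : Finset (ι → ℤ) := univ.image D.c

theorem card_vecs : D.vecs.card = 5 := by
  have h := card_eq_sum_card_image D.c (univ : Finset K)
  rw [card_univ, D.card, sum_congr rfl (g := fun _ => 3) (fun r hr => by
    obtain ⟨k, -, rfl⟩ := mem_image.1 hr
    exact D.fib k), sum_const, smul_eq_mul] at h
  unfold vecs
  omega

theorem sum_c (i : ι) : ∑ k, D.c k i = 3 * ∑ r ∈ D.vecs, r i := by
  rw [vecs, ← sum_fiberwise_of_maps_to (g := D.c) (t := univ.image D.c)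
    (fun k _ => mem_image_of_mem _ (mem_univ k)), mul_sum]
  refine sum_congr rfl fun r hr => ?_
  obtain ⟨k, -, rfl⟩ := mem_image.1 hr
  rw [sum_congr rfl (g := fun _ => D.c k i) (fun l hl => by rw [(mem_filter.1 hl).2]), sum_const, D.fib k]
  simp

/-- The signed support away from the trivial character. -/
noncomputable def supp (r : ι → ℤ) : Finset (ι × ℤ) :=
  ((univ.erase D.o).filter fun i => r i ≠ 0).image fun i => (i, r i)

theorem mem_supp {r : ι → ℤ} {p : ι × ℤ} : p ∈ D.supp r ↔ p.1 ≠ D.o ∧ r p.1 = p.2 ∧ p.2 ≠ 0 := by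
  obtain ⟨i, e⟩ := p
  simp only [supp, mem_image, mem_filter, mem_erase, mem_univ, and_true, Prod.mk.injEq]
  constructor
  · rintro ⟨j, ⟨h1, h2⟩, rfl, rfl⟩; exact ⟨h1, rfl, h2⟩
  · rintro ⟨h1, rfl, h3⟩; exact ⟨i, ⟨h1, h3⟩, rfl, rfl⟩

theorem erase_sum_mul (k l : K) :
    ∑ i ∈ univ.erase D.o, D.c k i * D.c l i = (∑ i, D.c k i * D.c l i) - 1 := by
  rw [← add_sum_erase univ _ (mem_univ D.o), D.c_o, D.c_o]; ring

theorem sq_eq_one (k : K) {i : ι} (hi : i ≠ D.o) (h0 : D.c k i ≠ 0) : D.c k i * D.c k i = 1 := by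
  have h1 : D.c k i * D.c k i ≤ 3 := by
    refine le_trans (single_le_sum (f := fun j => D.c k j * D.c k j)
      (fun j _ => mul_self_nonneg _) (mem_erase.2 ⟨hi, mem_univ i⟩)) ?_
    rw [D.erase_sum_mul, D.norm]
    norm_num
  have h2 : D.c k i ≤ 1 := by nlinarith
  have h3 : -1 ≤ D.c k i := by nlinarith
  rcases (show D.c k i = 1 ∨ D.c k i = -1 by omega) with e | e <;> rw [e] <;> norm_num

theorem card_supp (k : K) : (D.supp (D.c k)).card = 3 := by
  have h := D.erase_sum_mul k k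
  rw [D.norm] at h
  rw [supp, card_image_of_injective _ (fun i j e => (Prod.mk.inj e).1)]
  have : ((((univ.erase D.o).filter fun i => D.c k i ≠ 0).card : ℕ) : ℤ) = 3 := by
    rw [card_eq_sum_ones, Nat.cast_sum, sum_filter]
    push_cast
    rw [← show ∑ i ∈ univ.erase D.o, D.c k i * D.c k i = 3 by rw [h]; norm_num]
    refine sum_congr rfl fun i hi => ?_
    by_cases h0 : D.c k i = 0
    · simp [h0]
    · rw [if_pos h0, D.sq_eq_one k (mem_erase.1 hi).1 h0]
  exact_mod_cast this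

theorem card_inter {k l : K} (hkl : D.c k ≠ D.c l) : (D.supp (D.c k) ∩ D.supp (D.c l)).card = 2 := by
  set f := D.c k
  set g := D.c l
  set same := (univ.erase D.o).filter fun i => f i * g i = 1 with hsame
  set opp := (univ.erase D.o).filter fun i => f i * g i = -1 with hopp
  have heq : (same.card : ℤ) - opp.card = 2 := by
    have h := D.erase_sum_mul k l
    rw [D.prod k l hkl] at h
    rw [show (2 : ℤ) = ∑ i ∈ univ.erase D.o, f i * g i by rw [h]; norm_num,
      card_eq_sum_ones, card_eq_sum_ones, Nat.cast_sum, Nat.cast_sum, hsame, hopp, sum_filter, sum_filter,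
      ← sum_sub_distrib]
    refine sum_congr rfl fun i hi => ?_
    by_cases h0 : f i = 0
    · simp [h0]
    by_cases h1 : g i = 0
    · simp [h1]
    rcases mul_self_eq_one_iff.1 (D.sq_eq_one k (mem_erase.1 hi).1 h0) with e | e <;>
      rcases mul_self_eq_one_iff.1 (D.sq_eq_one l (mem_erase.1 hi).1 h1) with e' | e' <;>
        simp [f, g, e, e']
  have hle : same.card + opp.card ≤ 3 := by
    rw [← card_union_of_disjoint (disjoint_filter.2 fun i _ e e' => by omega), ← D.card_supp k, supp,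
      card_image_of_injective _ (fun i j e => (Prod.mk.inj e).1)]
    refine card_le_card fun i hi => ?_
    rcases mem_union.1 hi with hi | hi <;> obtain ⟨hi1, hi2⟩ := mem_filter.1 hi <;>
      exact mem_filter.2 ⟨hi1, fun e => by simp [f, e] at hi2⟩
  have himg : D.supp f ∩ D.supp g = same.image fun i => (i, f i) := by
    ext ⟨i, e⟩
    simp only [mem_inter, mem_supp, mem_image, Prod.mk.injEq, hsame, mem_filter, mem_erase, mem_univ,
      and_true]
    constructor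
    · rintro ⟨⟨h1, h2, h3⟩, -, h4, -⟩
      refine ⟨i, ⟨h1, ?_⟩, rfl, h2⟩
      rw [h4, ← h2]
      exact D.sq_eq_one k h1 (h2.trans_ne h3)
    · rintro ⟨j, ⟨h1, h2⟩, rfl, rfl⟩
      have hf : f j ≠ 0 := fun e => by rw [e, zero_mul] at h2; norm_num at h2
      refine ⟨⟨h1, rfl, hf⟩, h1, ?_, hf⟩
      calc g j = f j * f j * g j := by rw [D.sq_eq_one k h1 hf, one_mul]
        _ = f j := by rw [mul_assoc, h2, mul_one]
  rw [himg, card_image_of_injective _ (fun i j e => (Prod.mk.inj e).1)]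
  omega

/-- The common pair and the five distinct further constituents. -/
theorem exists_shape : ∃ a b : ι, ∃ ea eb : ℤ, a ≠ D.o ∧ b ≠ D.o ∧ a ≠ b ∧ ea * ea = 1 ∧ eb * eb = 1 ∧
    ∃ X : (ι → ℤ) → ι, Set.InjOn X ↑D.vecs ∧
      ∀ r ∈ D.vecs, X r ≠ D.o ∧ X r ≠ a ∧ X r ≠ b ∧ r a = ea ∧ r b = eb ∧ r (X r) * r (X r) = 1 ∧
        ∀ w : ι → ℚ, ∑ i, (r i : ℚ) * w i =
          w D.o + (ea : ℚ) * w a + (eb : ℚ) * w b + (r (X r) : ℚ) * w (X r) := by
  classical
  set 𝒮 := D.vecs.image D.supp with h𝒮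
  have hc : ∀ r ∈ D.vecs, ∃ k, D.c k = r := fun r hr => by
    obtain ⟨k, -, e⟩ := mem_image.1 hr; exact ⟨k, e⟩
  have hinj : Set.InjOn D.supp ↑D.vecs := fun r hr r' hr' e => by
    obtain ⟨k, rfl⟩ := hc r hr
    obtain ⟨l, rfl⟩ := hc r' hr'
    by_contra hne
    have := D.card_inter hne
    rw [e, inter_self, D.card_supp] at this
    omega
  obtain ⟨P, hP, hPsub⟩ := exists_common_pair 𝒮 (by rw [card_image_of_injOn hinj, D.card_vecs])
    (fun T hT => by
      obtain ⟨r, hr, rfl⟩ := mem_image.1 hT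
      obtain ⟨k, rfl⟩ := hc r hr
      exact D.card_supp k)
    (fun T hT T' hT' hne => by
      obtain ⟨r, hr, rfl⟩ := mem_image.1 hT
      obtain ⟨r', hr', rfl⟩ := mem_image.1 hT'
      obtain ⟨k, rfl⟩ := hc r hr
      obtain ⟨l, rfl⟩ := hc r' hr'
      exact D.card_inter fun e => hne (by rw [e]))
  obtain ⟨⟨a, ea⟩, ⟨b, eb⟩, hpq, rfl⟩ := card_eq_two.1 hP
  have hmem : ∀ r ∈ D.vecs, (a, ea) ∈ D.supp r ∧ (b, eb) ∈ D.supp r := fun r hr =>
    ⟨hPsub _ (mem_image_of_mem _ hr) (by simp), hPsub _ (mem_image_of_mem _ hr) (by simp)⟩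
  obtain ⟨r₀, hr₀⟩ : D.vecs.Nonempty := card_pos.1 (by rw [D.card_vecs]; norm_num)
  obtain ⟨k₀, rfl⟩ := hc r₀ hr₀
  obtain ⟨ha, hea, hea0⟩ := D.mem_supp.1 (hmem _ hr₀).1
  obtain ⟨hb, heb, heb0⟩ := D.mem_supp.1 (hmem _ hr₀).2
  simp only at ha hea hea0 hb heb heb0
  have hab : a ≠ b := fun e => hpq (by subst e; rw [← hea, ← heb])
  have hX : ∀ r ∈ D.vecs, ∃ x : ι, x ≠ D.o ∧ x ≠ a ∧ x ≠ b ∧
      (univ.erase D.o).filter (fun i => r i ≠ 0) = {a, b, x} := by
    intro r hr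
    obtain ⟨k, rfl⟩ := hc r hr
    set s := (univ.erase D.o).filter fun i => D.c k i ≠ 0 with hs
    have hscard : s.card = 3 := by
      have := D.card_supp k
      rwa [supp, card_image_of_injective _ (fun i j e => (Prod.mk.inj e).1)] at this
    obtain ⟨-, h1, h1'⟩ := D.mem_supp.1 (hmem _ hr).1
    obtain ⟨-, h2, h2'⟩ := D.mem_supp.1 (hmem _ hr).2
    simp only at h1 h1' h2 h2'
    have hsub : ({a, b} : Finset ι) ⊆ s := by
      simp only [insert_subset_iff, singleton_subset_iff, hs, mem_filter, mem_erase, mem_univ, and_true]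
      exact ⟨⟨ha, h1 ▸ h1'⟩, hb, h2 ▸ h2'⟩
    obtain ⟨x, hx⟩ : (s \ {a, b}).Nonempty := card_pos.1 (by
      rw [card_sdiff_of_subset hsub, hscard, card_pair hab]; norm_num)
    obtain ⟨hxs, hxab⟩ := mem_sdiff.1 hx
    simp only [mem_insert, mem_singleton, not_or] at hxab
    refine ⟨x, (mem_erase.1 (mem_filter.1 hxs).1).1, hxab.1, hxab.2, ?_⟩
    refine (eq_of_subset_of_card_le ?_ ?_).symm
    · simp only [insert_subset_iff, singleton_subset_iff] at hsub ⊢
      exact ⟨hsub.1, hsub.2, hxs⟩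
    · rw [hscard, card_insert_of_notMem (by simp [hab, Ne.symm hxab.1]), card_pair (Ne.symm hxab.2)]
  haveI : Nonempty ι := ⟨D.o⟩
  choose! X hXo hXa hXb hXs using hX
  have hval : ∀ r ∈ D.vecs, r a = ea ∧ r b = eb := fun r hr =>
    ⟨(D.mem_supp.1 (hmem r hr).1).2.1, (D.mem_supp.1 (hmem r hr).2).2.1⟩
  have hXne : ∀ r ∈ D.vecs, r (X r) ≠ 0 := fun r hr => by
    have : X r ∈ (univ.erase D.o).filter fun i => r i ≠ 0 := by rw [hXs r hr]; simp
    exact (mem_filter.1 this).2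
  have hsq : ∀ r ∈ D.vecs, r (X r) * r (X r) = 1 := fun r hr => by
    obtain ⟨k, rfl⟩ := hc r hr
    exact D.sq_eq_one k (hXo _ hr) (hXne _ hr)
  have hexp : ∀ r ∈ D.vecs, ∀ w : ι → ℚ, ∑ i, (r i : ℚ) * w i =
      w D.o + (ea : ℚ) * w a + (eb : ℚ) * w b + (r (X r) : ℚ) * w (X r) := by
    intro r hr w
    obtain ⟨k, rfl⟩ := hc r hr
    rw [← add_sum_erase univ _ (mem_univ D.o), D.c_o, Int.cast_one,
      ← sum_filter_of_ne (s := univ.erase D.o) (p := fun i => D.c k i ≠ 0)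
        (fun i _ hne e => hne (by rw [e, Int.cast_zero, zero_mul])), hXs _ hr,
      sum_insert (by simp [hab, Ne.symm (hXa _ hr)]), sum_pair (Ne.symm (hXb _ hr)), (hval _ hr).1,
      (hval _ hr).2]
    ring
  refine ⟨a, b, ea, eb, ha, hb, hab, ?_, ?_, X, ?_,
    fun r hr => ⟨hXo r hr, hXa r hr, hXb r hr, (hval r hr).1, (hval r hr).2, hsq r hr, hexp r hr⟩⟩
  · rw [← hea]; exact D.sq_eq_one k₀ ha (hea ▸ hea0)
  · rw [← heb]; exact D.sq_eq_one k₀ hb (heb ▸ heb0)
  · intro r hr r' hr' e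
    by_contra hne
    obtain ⟨k, rfl⟩ := hc r hr
    obtain ⟨l, rfl⟩ := hc r' hr'
    have hq := hexp _ hr (fun i => (D.c l i : ℚ))
    have h : (3 : ℤ) = D.c l D.o + ea * D.c l a + eb * D.c l b + D.c k (X (D.c k)) * D.c l (X (D.c k)) := by
      rw [← D.prod k l hne]; exact_mod_cast hq
    rw [D.c_o, (hval _ hr').1, (hval _ hr').2, e] at h
    have e1 : ea * ea = 1 := hea ▸ D.sq_eq_one k₀ ha (hea ▸ hea0)
    have e2 : eb * eb = 1 := heb ▸ D.sq_eq_one k₀ hb (heb ▸ heb0)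
    rw [e1, e2] at h
    have h0 := hXne _ hr
    have h0' := hXne _ hr'
    rw [e] at h0
    have : D.c k (X (D.c l)) * D.c l (X (D.c l)) = 0 := by linarith
    rcases mul_eq_zero.1 this with h' | h'
    exacts [h0 h', h0' h']

end FiveTable

theorem signed_le {e d v : ℤ} (he : e * e = 1) (hd : 0 < d) (hv : |v| ≤ d) (hne : v ≠ d)
    (h : e * d = 1) : e * v ≠ 1 := by
  intro h1
  exact hne (mul_left_cancel₀ (fun e0 => by rw [e0, zero_mul] at he; norm_num at he) (h1.trans h.symm))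

/-- The first arithmetic case. -/
theorem false_of_one_one {A B : ℤ} (hA : (64 : ℤ) ∣ A + 63) (hB : (64 : ℤ) ∣ B + 63) (hA1 : A ≠ 1) (hB1 : B ≠ 1)
    (h : (1 : ℚ) + 1 / A + 1 / B = 9 / (1 + A + B)) : False := by
  have hA' : (63 : ℤ) ≤ A ∨ A ≤ -63 := by omega
  have hB' : (63 : ℤ) ≤ B ∨ B ≤ -63 := by omega
  have bound : ∀ {C : ℤ}, ((63 : ℤ) ≤ C ∨ C ≤ -63) → -(1 / 63 : ℚ) ≤ 1 / C ∧ (1 : ℚ) / C ≤ 1 / 63 := by
    rintro C (hC | hC)
    · have hq : (63 : ℚ) ≤ C := by exact_mod_cast hC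
      have h0 : (0 : ℚ) ≤ 1 / C := by positivity
      exact ⟨by linarith, one_div_le_one_div_of_le (by norm_num) hq⟩
    · have hq : (C : ℚ) ≤ -63 := by exact_mod_cast hC
      refine ⟨?_, le_trans (div_nonpos_of_nonneg_of_nonpos one_pos.le (by linarith)) (by norm_num)⟩
      rw [le_div_iff_of_neg (by linarith)]
      linarith
  obtain ⟨l1, u1⟩ := bound hA'
  obtain ⟨l2, u2⟩ := bound hB'
  have hD : 3 ≤ 1 + A + B ∧ 1 + A + B ≤ 9 → False := fun hD => by
    have : 1 + A + B = 3 := by omega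
    rw [show ((1 : ℚ) + A + B) = 3 by exact_mod_cast this] at h
    linarith
  by_cases hpos : (0 : ℚ) < 1 + A + B
  · have h3 : (1 + A + B : ℚ) ≤ 9 * 63 / 61 := by
      rw [eq_div_iff hpos.ne'] at h
      nlinarith
    have h4 : 1 + A + B ≤ 9 := by
      by_contra hc
      have : (10 : ℚ) ≤ 1 + A + B := by exact_mod_cast (show (10 : ℤ) ≤ 1 + A + B by omega)
      linarith
    have : (1 : ℤ) ≤ 1 + A + B := by
      have : (0 : ℤ) < 1 + A + B := by exact_mod_cast hpos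
      omega
    exact hD ⟨by omega, h4⟩
  · have : (9 : ℚ) / (1 + A + B) ≤ 0 :=
      div_nonpos_of_nonneg_of_nonpos (by norm_num) (not_lt.1 hpos)
    linarith

/-- The second arithmetic case. -/
theorem false_of_one_three {A B : ℤ} (hA : (64 : ℤ) ∣ A + 63) (hB : (64 : ℤ) ∣ B + 51) (hA1 : A ≠ 1)
    (h : (1 : ℚ) + 1 / A + 9 / B = 1 / (1 + A + B)) : False := by
  have hA' : (63 : ℤ) ≤ A ∨ A ≤ -63 := by omega
  have hB' : (13 : ℤ) ≤ B ∨ B ≤ -51 := by omega
  have l1 : -(1 / 63 : ℚ) ≤ 1 / A := by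
    rcases hA' with hC | hC
    · have hq : (63 : ℚ) ≤ A := by exact_mod_cast hC
      have h0 : (0 : ℚ) ≤ 1 / A := by positivity
      linarith
    · have hq : (A : ℚ) ≤ -63 := by exact_mod_cast hC
      rw [le_div_iff_of_neg (by linarith)]
      linarith
  have l2 : -(9 / 51 : ℚ) ≤ 9 / B := by
    rcases hB' with hC | hC
    · have hq : (13 : ℚ) ≤ B := by exact_mod_cast hC
      have h0 : (0 : ℚ) ≤ 9 / B := by positivity
      linarith
    · have hq : (B : ℚ) ≤ -51 := by exact_mod_cast hC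
      rw [le_div_iff_of_neg (by linarith)]
      linarith
  by_cases hpos : (0 : ℚ) < 1 + A + B
  · have h15 : (15 : ℚ) ≤ 1 + A + B := by
      have h0 : (0 : ℤ) < 1 + A + B := by exact_mod_cast hpos
      exact_mod_cast (show (15 : ℤ) ≤ 1 + A + B by omega)
    rw [eq_div_iff hpos.ne'] at h
    nlinarith
  · have : (1 : ℚ) / (1 + A + B) ≤ 0 := div_nonpos_of_nonneg_of_nonpos one_pos.le (not_lt.1 hpos)
    linarith

theorem FiveTable.false {ι K : Type*} [Fintype ι] [Fintype K] [DecidableEq ι] (D : FiveTable ι K) :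
    False := by
  obtain ⟨a, b, ea, eb, ha, hb, hab, hea, heb, X, hXinj, hX⟩ := D.exists_shape
  have hs : ∀ i, (∀ r ∈ D.vecs, r i = ea) → 4 * ∑ k, D.c k i = 60 * ea := fun i hi => by
    rw [D.sum_c, sum_congr rfl hi, sum_const, D.card_vecs]; ring
  have hs' : ∀ i, (∀ r ∈ D.vecs, r i = eb) → 4 * ∑ k, D.c k i = 60 * eb := fun i hi => by
    rw [D.sum_c, sum_congr rfl hi, sum_const, D.card_vecs]; ring
  obtain ⟨r₀, hr₀⟩ : D.vecs.Nonempty := card_pos.1 (by rw [D.card_vecs]; norm_num)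
  set A := ea * D.d a with hA
  set B := eb * D.d b with hB
  set va := ea * D.v a with hva
  set vb := eb * D.v b with hvb
  set t := 1 + va + vb with ht
  have hc : ∀ r ∈ D.vecs, ∃ k, D.c k = r := fun r hr => by
    obtain ⟨k, -, e⟩ := mem_image.1 hr; exact ⟨k, e⟩
  have hinB : ∀ r ∈ D.vecs, a ∈ D.B ∧ b ∈ D.B ∧ X r ∈ D.B := by
    intro r hr
    obtain ⟨-, -, -, h1, h2, h3, -⟩ := hX r hr
    obtain ⟨k, rfl⟩ := hc r hr
    exact ⟨D.c_B k a fun e => by rw [← h1, e] at hea; norm_num at hea,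
      D.c_B k b fun e => by rw [← h2, e] at heb; norm_num at heb,
      D.c_B k _ fun e => by rw [e] at h3; norm_num at h3⟩
  have eX : ∀ r ∈ D.vecs, r (X r) * D.d (X r) = -(1 + A + B) ∧ r (X r) * D.v (X r) = -t := by
    intro r hr
    obtain ⟨-, -, -, -, -, -, hexp⟩ := hX r hr
    obtain ⟨k, rfl⟩ := hc r hr
    have q1 := hexp (fun i => (D.d i : ℚ))
    have q2 := hexp (fun i => (D.v i : ℚ))
    have h1 : ∑ i, D.c k i * D.d i =
        D.d D.o + ea * D.d a + eb * D.d b + D.c k (X (D.c k)) * D.d (X (D.c k)) := by exact_mod_cast q1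
    have h2 : ∑ i, D.c k i * D.v i =
        D.v D.o + ea * D.v a + eb * D.v b + D.c k (X (D.c k)) * D.v (X (D.c k)) := by exact_mod_cast q2
    rw [D.degsum, D.d_o] at h1
    rw [D.valsum, D.v_o] at h2
    exact ⟨by rw [hA, hB]; linarith, by rw [ht, hva, hvb]; linarith⟩
  -- congruences
  obtain ⟨haB, hbB, hXB₀⟩ := hinB r₀ hr₀
  have c64a : (64 : ℤ) ∣ A + 3 * va + 60 := by
    have h := D.cong64 a haB
    rw [hs a fun r hr => (hX r hr).2.2.2.1] at h
    have e : A + 3 * va + 60 = ea * (D.d a + 3 * D.v a + 60 * ea) := by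
      rw [hA, hva]; linear_combination (-60 : ℤ) * hea
    rw [e]; exact h.mul_left ea
  have c64b : (64 : ℤ) ∣ B + 3 * vb + 60 := by
    have h := D.cong64 b hbB
    rw [hs' b fun r hr => (hX r hr).2.2.2.2.1] at h
    have e : B + 3 * vb + 60 = eb * (D.d b + 3 * D.v b + 60 * eb) := by
      rw [hB, hvb]; linear_combination (-60 : ℤ) * heb
    rw [e]; exact h.mul_left eb
  have c16a : (16 : ℤ) ∣ A - va := by rw [hA, hva, ← mul_sub]; exact (D.cong16 a).mul_left ea
  have c16b : (16 : ℤ) ∣ B - vb := by rw [hB, hvb, ← mul_sub]; exact (D.cong16 b).mul_left eb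
  -- the norm bound
  have hbound : 1 + va ^ 2 + vb ^ 2 + 5 * t ^ 2 ≤ 64 := by
    have hsq : ∀ r ∈ D.vecs, D.v (X r) ^ 2 = t ^ 2 := fun r hr => by
      obtain ⟨-, -, -, -, -, h3, -⟩ := hX r hr
      calc D.v (X r) ^ 2 = r (X r) * r (X r) * D.v (X r) ^ 2 := by rw [h3, one_mul]
        _ = (r (X r) * D.v (X r)) ^ 2 := by ring
        _ = t ^ 2 := by rw [(eX r hr).2]; ring
    have hsub : insert D.o (insert a (insert b (D.vecs.image X))) ⊆ D.B := by
      simp only [insert_subset_iff]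
      exact ⟨D.o_mem, haB, hbB, image_subset_iff.2 fun r hr => (hinB r hr).2.2⟩
    have h := sum_le_sum_of_subset_of_nonneg hsub (f := fun i => D.v i ^ 2) fun i _ _ => sq_nonneg _
    rw [D.bound, sum_insert (by
        simp only [mem_insert, mem_image, not_or, not_exists, not_and]
        exact ⟨Ne.symm ha, Ne.symm hb, fun r hr => (hX r hr).1⟩),
      sum_insert (by
        simp only [mem_insert, mem_image, not_or, not_exists, not_and]
        exact ⟨hab, fun r hr => (hX r hr).2.1⟩),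
      sum_insert (by
        simp only [mem_image, not_exists, not_and]
        exact fun r hr => (hX r hr).2.2.1),
      sum_image hXinj, sum_congr rfl hsq, sum_const, D.card_vecs, D.v_o] at h
    have e1 : va ^ 2 = D.v a ^ 2 := by rw [hva, mul_pow, sq ea, hea, one_mul]
    have e2 : vb ^ 2 = D.v b ^ 2 := by rw [hvb, mul_pow, sq eb, heb, one_mul]
    rw [e1, e2]
    simp only [nsmul_eq_mul, Nat.cast_ofNat] at h
    linarith
  have hD : 1 + A + B ≠ 0 := fun e => by
    obtain ⟨-, -, -, -, -, h3, -⟩ := hX r₀ hr₀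
    have h := (eX r₀ hr₀).1
    rw [e, neg_zero, mul_eq_zero] at h
    rcases h with h | h
    · rw [h] at h3; norm_num at h3
    · exact (D.d_pos _).ne' h
  -- the quadratic relation
  have hquad : (1 : ℚ) + (va : ℚ) ^ 2 / A + (vb : ℚ) ^ 2 / B = (t : ℚ) ^ 2 / (1 + A + B) := by
    obtain ⟨hXo, hXa, hXb, -, -, h3, hexp⟩ := hX r₀ hr₀
    obtain ⟨k, rfl⟩ := hc r₀ hr₀
    have hq := D.quad k
    rw [hexp, D.d_o, D.v_o] at hq
    obtain ⟨hxd, hxv⟩ := eX _ hr₀
    set η := D.c k (X (D.c k))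
    have haux : ∀ e d' v' : ℤ, e * e = 1 →
        (e : ℚ) * ((v' : ℚ) ^ 2 / (d' : ℚ)) = ((e * v' : ℤ) : ℚ) ^ 2 / ((e * d' : ℤ) : ℚ) := by
      intro e d' v' he
      rcases mul_self_eq_one_iff.1 he with rfl | rfl <;> push_cast <;> ring
    rw [haux ea _ _ hea, haux eb _ _ heb, haux η _ _ h3, ← hA, ← hB, ← hva, ← hvb, hxd, hxv] at hq
    push_cast at hq
    rw [div_neg, neg_sq, one_pow, div_one] at hq
    linarith
  have key : (va = 1 ∧ vb = 1) ∨ (va = 1 ∧ vb = -3) ∨ (va = -3 ∧ vb = 1) := by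
    have hva8 : -8 < va ∧ va < 8 := ⟨by nlinarith, by nlinarith⟩
    have hvb8 : -8 < vb ∧ vb < 8 := ⟨by nlinarith, by nlinarith⟩
    have hmod : va % 4 = 1 ∧ vb % 4 = 1 := by omega
    obtain ⟨h1, h2⟩ := hva8
    obtain ⟨h3, h4⟩ := hvb8
    rw [ht] at hbound
    interval_cases va <;> interval_cases vb <;> omega
  have hA1 : va = 1 → A ≠ 1 := fun e e' =>
    signed_le hea (D.d_pos a) (D.abs_v a) (D.ne_deg a ha) e' e
  have hB1 : vb = 1 → B ≠ 1 := fun e e' =>
    signed_le heb (D.d_pos b) (D.abs_v b) (D.ne_deg b hb) e' e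
  rcases key with ⟨e1, e2⟩ | ⟨e1, e2⟩ | ⟨e1, e2⟩ <;> simp only [ht, e1, e2] at hquad c64a c64b <;>
    norm_num at hquad c64a c64b
  · exact false_of_one_one (by omega) (by omega) (hA1 e1) (hB1 e2) (by rw [one_div, one_div]; linarith)
  · exact false_of_one_three (A := A) (B := B) (by omega) (by omega) (hA1 e1) (by rw [one_div, one_div]; linarith)
  · refine false_of_one_three (A := B) (B := A) (by omega) (by omega) (hB1 e2) ?_
    rw [show (1 : ℚ) + B + A = 1 + A + B by ring, one_div, one_div]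
    linarith

end CfsgLib.TwoNilp
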