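import Cfsg.Agent.Lib.CIT.TwoNilp.UFour.Structure
import Cfsg.Agent.Lib.Invol.FourValues
import Cfsg.Agent.Lib.Char.Orthogonality

/-!
# The congruence between degree and value at a central involution
-/

set_option autoImplicit false
set_option linter.style.haveILetI false

open Subgroup Finset
open scoped ComplexConjugate commutatorElement

namespace CfsgLib.TwoNilp

open Cfsg CfsgLib.Char

universe u

variable {G : Type u} [Group G] [Finite G]

theorem sixteen_dvd_sylow {S : Sylow 2 G} {U : Subgroup G} (h : UFour S U) {σ : ↥(S : Subgroup G) → ℂ}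
    (hR : IsCharacter ↥(S : Subgroup G) σ) {a b : G} (ha : a ∈ U) (hb : b ∈ U) :
    ∃ k : ℤ, σ 1 + σ ⟨a, h.le ha⟩ - σ ⟨b, h.le hb⟩ - σ (⟨a, h.le ha⟩ * ⟨b, h.le hb⟩) = 16 * (k : ℂ) := by
  classical
  haveI := Fintype.ofFinite ↥(S : Subgroup G)
  haveI := Fintype.ofFinite (IrrCharacter ↥(S : Subgroup G))
  set a' : ↥(S : Subgroup G) := ⟨a, h.le ha⟩
  set b' : ↥(S : Subgroup G) := ⟨b, h.le hb⟩
  have hcen : ∀ w : ↥(S : Subgroup G), (w : G) ∈ U → w ∈ center ↥(S : Subgroup G) :=
    fun w hw => mem_center_iff.2 fun x => Subtype.ext (h.central _ hw x x.2)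
  have hsq : ∀ w : ↥(S : Subgroup G), (w : G) ∈ U → w * w = 1 :=
    fun w hw => Subtype.ext ((h.mem_iff _ w.2).1 hw)
  have key : ∀ η : IrrCharacter ↥(S : Subgroup G), ∃ k : ℤ,
      (η : ↥(S : Subgroup G) → ℂ) 1 + (η : ↥(S : Subgroup G) → ℂ) a' - (η : ↥(S : Subgroup G) → ℂ) b' - (η : ↥(S : Subgroup G) → ℂ) (a' * b') = 16 * (k : ℂ) := by
    intro η
    obtain ⟨s, hs, hsv⟩ := CfsgLib.Invol.exists_sign_of_central η (hcen a' ha) (hsq a' ha)
    obtain ⟨t, ht, htv⟩ := CfsgLib.Invol.exists_sign_of_central η (hcen b' hb) (hsq b' hb)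
    have e1 : (η : ↥(S : Subgroup G) → ℂ) a' = s * (η : ↥(S : Subgroup G) → ℂ) 1 := by rw [← hsv, mul_one]
    have e2 : (η : ↥(S : Subgroup G) → ℂ) b' = t * (η : ↥(S : Subgroup G) → ℂ) 1 := by rw [← htv, mul_one]
    rw [hsv, e1, e2]
    rcases ht with rfl | rfl
    · exact ⟨0, by push_cast; ring⟩
    rcases hs with rfl | rfl
    swap
    · exact ⟨0, by push_cast; ring⟩
    obtain ⟨n, hn, hn1⟩ := isIrrCharacter_degree η.2
    have hcf : IsClassFunction _ (η : ↥(S : Subgroup G) → ℂ) := isClassFunction_irr η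
    have hzero : ∀ x : ↥(S : Subgroup G), (x : G) ∉ U → (η : ↥(S : Subgroup G) → ℂ) x = 0 := by
      intro x hx
      obtain ⟨y, hy, hxy⟩ := h.comm_surj x x.2 hx b hb
      have e : ⟨y, hy⟩ * x * (⟨y, hy⟩ : ↥(S : Subgroup G))⁻¹ = b'⁻¹ * x := by
        refine Subtype.ext ?_
        push_cast
        rw [show (b' : G) = ⁅(x : G), y⁆ from hxy.symm]
        simp only [commutatorElement_def]
        group
      have e' := hcf x ⟨y, hy⟩
      rw [e, inv_eq_of_mul_eq_one_right (hsq b' hb), htv] at e'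
      linear_combination (-(1 : ℂ) / 2) * e'
    have hn4 : n = 4 := by
      have h1 := classInner_irr_self η
      rw [classInner, ← Finset.sum_filter_add_sum_filter_not univ
        (fun x : ↥(S : Subgroup G) => (x : G) ∈ U), Finset.sum_eq_zero (s := univ.filter
          fun x : ↥(S : Subgroup G) => ¬ (x : G) ∈ U) (fun x hx => by
            rw [hzero x (mem_filter.1 hx).2, zero_mul]), add_zero,
        Finset.sum_congr rfl (g := fun _ => ((n : ℂ) * n)) (fun x hx => by
          obtain ⟨r, hr, hrv⟩ := CfsgLib.Invol.exists_sign_of_central η (hcen x (mem_filter.1 hx).2)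
            (hsq x (mem_filter.1 hx).2)
          rw [show (η : ↥(S : Subgroup G) → ℂ) x = r * n by rw [← hn1, ← hrv, mul_one]]
          rcases hr with rfl | rfl <;> simp)] at h1
      have hU : (univ.filter fun x : ↥(S : Subgroup G) => (x : G) ∈ U).card = 4 := by
        rw [← Fintype.card_subtype, ← Nat.card_eq_fintype_card, ← h.cardU]
        exact Nat.card_congr
          ⟨fun x => ⟨x.1, x.2⟩, fun u => ⟨⟨u, h.le u.2⟩, u.2⟩, fun _ => rfl, fun _ => rfl⟩
      rw [sum_const, hU, h.cardS, nsmul_eq_mul] at h1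
      have h3 : (n : ℂ) * n = 16 := by linear_combination 16 * h1
      have h4 : n * n = 16 := by exact_mod_cast h3
      nlinarith
    exact ⟨1, by rw [hn1, hn4]; push_cast; ring⟩
  choose k hk using key
  have hm : ∀ η : IrrCharacter ↥(S : Subgroup G),
      ∃ m : ℕ, classInner σ (η : ↥(S : Subgroup G) → ℂ) = m :=
    fun η => classInner_char_irr_nat hR η
  choose m hm' using hm
  refine ⟨∑ η, (m η : ℤ) * k η, ?_⟩
  have hexp : ∀ x : ↥(S : Subgroup G), σ x = ∑ η, (m η : ℂ) * (η : ↥(S : Subgroup G) → ℂ) x := fun x => by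
    have e := congrFun (classFun_expand (isClassFunction_of_isCharacter hR)) x
    simp only [Finset.sum_apply, Pi.smul_apply, smul_eq_mul, hm'] at e
    exact e
  have e0 := hexp 1
  have ea := hexp a'
  have eb := hexp b'
  have eab := hexp (a' * b')
  rw [e0, ea, eb, eab]
  push_cast
  rw [Finset.mul_sum, ← sum_add_distrib, ← sum_sub_distrib, ← sum_sub_distrib]
  exact sum_congr rfl fun η _ => by linear_combination (m η : ℂ) * hk η

theorem sixteen_dvd {S : Sylow 2 G} {U : Subgroup G} (h : UFour S U) {θ : G → ℂ} (hθ : IsCharacter G θ)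
    {a b : G} (ha : a ∈ U) (hb : b ∈ U) :
    ∃ k : ℤ, θ 1 + θ a - θ b - θ (a * b) = 16 * (k : ℂ) := by
  obtain ⟨k, hk⟩ := sixteen_dvd_sylow h (isCharacter_comp hθ (S : Subgroup G).subtype) ha hb
  exact ⟨k, by simpa using hk⟩

end CfsgLib.TwoNilp
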