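import Cfsg.Agent.Lib.CIT.TwoNilp.UFour.Sections
import Cfsg.Agent.Lib.CIT.TwoNilp.UFour.Degree
import Cfsg.Agent.Lib.CIT.TwoNilp.UFour.Count
import Cfsg.Agent.Lib.Block.AbelianFreeThree
import Cfsg.Agent.Lib.Char.ExtendChar

/-!
# No simple group with Sylow subgroups of unitary type has two-nilpotent centralizers of involutions
-/

set_option autoImplicit false
set_option linter.style.haveILetI false
set_option maxHeartbeats 1600000

open Subgroup Finset
open scoped ComplexConjugate commutatorElement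

namespace CfsgLib.TwoNilp

open Cfsg CfsgLib.Char CfsgLib.Block

universe u

variable {G : Type u} [Group G] [Finite G]

/-- A sign character with complex values. -/
noncomputable def sgnHom {S : Sylow 2 G} (μ : Sgn S) : ↥(S : Subgroup G) →* ℂˣ :=
  (Units.map (Int.castRingHom ℂ).toMonoidHom).comp μ

theorem sgnHom_apply {S : Sylow 2 G} (μ : Sgn S) (x : ↥(S : Subgroup G)) :
    ((sgnHom μ x : ℂˣ) : ℂ) = ((μ x : ℤ) : ℂ) := rfl

theorem false_of_uFour [IsSimpleGroup G] (hG : ¬ IsMulCommutative G) (hI : Nilp G) (S : Sylow 2 G)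
    (U : Subgroup G) (h : UFour S U) : False := by
  classical
  haveI : Fact (Nat.Prime 2) := ⟨Nat.prime_two⟩
  obtain ⟨α, hα1, hα2, hα3, hα4⟩ := h.exists_fusion hG hI
  set T : Twist S U := ⟨α, hα1, hα2, hα3, hα4⟩
  letI : Fintype G := Fintype.ofFinite G
  letI : Fintype (IrrCharacter G) := Fintype.ofFinite _
  letI : Fintype ↥(S : Subgroup G) := Fintype.ofFinite _
  haveI : Finite (Sgn S) :=
    Finite.of_injective (fun μ : Sgn S => (μ : ↥(S : Subgroup G) → ℤˣ)) DFunLike.coe_injective
  letI : Fintype (Sgn S) := Fintype.ofFinite _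
  obtain ⟨M, hM⟩ := exists_pModular (p := 2) Nat.prime_two
  haveI := hM.2.1
  haveI : Nontrivial U := Finite.one_lt_card_iff_nontrivial.1 (by rw [h.cardU]; norm_num)
  obtain ⟨⟨z, hzU⟩, hz1'⟩ := exists_ne (1 : U)
  have hz1 : z ≠ 1 := fun e => hz1' (Subtype.ext e)
  have hz : orderOf z = 2 := h.orderOf_eq_two hzU hz1
  have hzz : z * z = 1 := (h.mem_iff z (h.le hzU)).1 hzU
  obtain ⟨b, hbU, hb1, hbz⟩ : ∃ b ∈ U, b ≠ 1 ∧ b ≠ z := by
    by_contra hcon
    have hsub : (U : Set G) ⊆ {1, z} := fun x hx => by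
      by_contra hx'
      simp only [Set.mem_insert_iff, Set.mem_singleton_iff, not_or] at hx'
      exact hcon ⟨x, hx, hx'.1, hx'.2⟩
    have hc := Set.ncard_le_ncard hsub (Set.toFinite _)
    rw [Set.ncard_pair (Ne.symm hz1), ← Nat.card_coe_set_eq,
      show Nat.card ↥(U : Set G) = Nat.card U from rfl, h.cardU] at hc
    omega
  -- degrees and values
  have hd : ∀ θ : IrrCharacter G, ∃ d : ℕ, 0 < d ∧ (θ : G → ℂ) 1 = d := fun θ => isIrrCharacter_degree θ.2
  choose d hd0 hd using hd
  have hv : ∀ θ : IrrCharacter G, ∃ v : ℤ, (θ : G → ℂ) z = v := fun θ =>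
    AbelianFree.exists_int_involution hz θ
  choose v hv using hv
  have hvU : ∀ (θ : IrrCharacter G) (u : G), u ∈ U → u ≠ 1 → (θ : G → ℂ) u = v θ := fun θ u hu hu1 => by
    rw [← hv θ]
    exact classFun_isConj (isClassFunction_irr θ) (h.isConj_of_mem hG hu hu1 hzU hz1)
  -- restriction to the Sylow subgroup
  have hsum : ∀ (θ : IrrCharacter G) (μ : Sgn S), ∃ m : ℕ,
      ∑ x : ↥(S : Subgroup G), ((μ x : ℤ) : ℂ) * conj ((θ : G → ℂ) x) = 64 * (m : ℂ) := by
    intro θ μ
    obtain ⟨m, hm⟩ := classInner_isCharacter (isCharacter_hom (sgnHom μ))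
      (isCharacter_comp (isCharacter_irr θ) (S : Subgroup G).subtype)
    refine ⟨m, ?_⟩
    rw [← hm, classInner, h.cardS, ← mul_assoc, Nat.cast_ofNat, mul_inv_cancel₀ (by norm_num), one_mul]
    rfl
  choose m hm using hsum
  have hαinj : Function.Injective α := (injective_iff_map_eq_one α).2 fun x hx => by
    have h1 := hα1 x
    rw [hx, OneMemClass.coe_one, isConj_one_left] at h1
    exact Subtype.ext h1
  have hrot : ∀ (θ : IrrCharacter G) (μ : Sgn S), m θ (T.rot μ) = m θ μ := fun θ μ => by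
    have e : ∑ x : ↥(S : Subgroup G), ((T.rot μ x : ℤ) : ℂ) * conj ((θ : G → ℂ) x) =
        ∑ x : ↥(S : Subgroup G), ((μ x : ℤ) : ℂ) * conj ((θ : G → ℂ) x) := by
      rw [← (Finite.injective_iff_bijective.1 hαinj).sum_comp
        (fun x : ↥(S : Subgroup G) => ((μ x : ℤ) : ℂ) * conj ((θ : G → ℂ) x))]
      refine sum_congr rfl fun x _ => ?_
      rw [classFun_isConj (isClassFunction_irr θ) (hα1 x)]
      rfl
    rw [hm, hm] at e
    have e' := mul_left_cancel₀ (show (64 : ℂ) ≠ 0 by norm_num) e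
    exact_mod_cast e'
  -- coefficients
  set B : Finset (IrrCharacter G) := univ.filter fun θ => θ ∈ principalBlock M G with hBdef
  have hinv : ∀ μ : Sgn S, Inv S U (T.wt μ) :=
    fun μ => ⟨fun _ hx => T.wt_mem h μ hx, fun _ _ hxy => T.wt_fusion μ hxy⟩
  set c : Sgn S → IrrCharacter G → ℤ :=
    fun μ θ => if θ ∈ B then (m θ 1 : ℤ) - m θ μ else 0 with hcdef
  have hwsum : ∀ (θ : IrrCharacter G) (μ : Sgn S),
      ∑ x : ↥(S : Subgroup G), (T.wt μ x : ℂ) * conj ((θ : G → ℂ) x) =
        192 * (((m θ 1 : ℤ) - m θ μ : ℤ) : ℂ) := by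
    intro θ μ
    have h0 : ∑ x : ↥(S : Subgroup G), conj ((θ : G → ℂ) x) = 64 * (m θ 1 : ℂ) := by
      rw [← hm θ 1]; simp
    simp only [Twist.wt, Twist.psi, Int.cast_sub, Int.cast_add, Int.cast_ofNat, sub_mul, add_mul,
      sum_sub_distrib, sum_add_distrib, ← mul_sum, h0, hm, hrot]
    push_cast
    ring
  have hinner : ∀ (μ : Sgn S) (θ : IrrCharacter G),
      classInner (secLift S U (T.wt μ)) (θ : G → ℂ) = (c μ θ : ℂ) := by
    intro μ θ
    apply mul_left_cancel₀ (show (192 : ℂ) ≠ 0 by norm_num)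
    rw [inner_secLift hM h hI T (hinv μ) θ, hwsum]
    simp only [hcdef, hBdef, mem_filter, mem_univ, true_and]
    split_ifs <;> simp
  have h1B : oneChar G ∈ B := mem_filter.2 ⟨mem_univ _, one_mem_principalBlock⟩
  have hone : ∀ g : G, ((oneChar G : IrrCharacter G) : G → ℂ) g = 1 := fun _ => rfl
  have hprod : ∀ μ ν : Sgn S, μ ≠ 1 → ν ≠ 1 → ∑ θ, c μ θ * c ν θ =
      3 + if ν = μ ∨ ν = T.rot μ ∨ ν = T.rot (T.rot μ) then 1 else 0 := by
    intro μ ν hμ hν
    have hFF : Inv S U (fun x => T.wt μ x * T.wt ν x) :=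
      ⟨fun x hx => by simp only [(hinv μ).1 x hx, zero_mul], fun x y hxy => by
        simp only [(hinv μ).2 x y hxy, (hinv ν).2 x y hxy]⟩
    have e1 := classInner_expand (f := secLift S U (T.wt μ)) (isClassFunction_secLift (hinv ν))
    simp only [hinner, map_intCast] at e1
    have e2 : classInner (secLift S U (T.wt μ)) (secLift S U (T.wt ν)) =
        classInner (secLift S U fun x => T.wt μ x * T.wt ν x) ((oneChar G : IrrCharacter G) : G → ℂ) := by
      rw [classInner, classInner]
      refine congrArg _ (sum_congr rfl fun g _ => ?_)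
      rw [secLift_mul (hinv μ) (hinv ν), hone, map_one, mul_one]
    have e3 := inner_secLift hM h hI T hFF (oneChar G)
    rw [if_pos one_mem_principalBlock] at e3
    simp only [hone, map_one, mul_one] at e3
    rw [← e2, e1] at e3
    have e4 : 192 * ∑ θ, c μ θ * c ν θ = ∑ x, T.wt μ x * T.wt ν x := by exact_mod_cast e3
    rw [T.sum_wt_mul h hμ hν] at e4
    split_ifs at e4 ⊢ <;> omega
  have hc1 : ∀ θ, c 1 θ = 0 := fun θ => by simp only [hcdef]; split_ifs <;> simp
  have hco : ∀ μ : Sgn S, μ ≠ 1 → c μ (oneChar G) = 1 := by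
    intro μ hμ
    have hne : ∀ κ : Sgn S, κ ≠ 1 → T.rot κ ≠ 1 := fun κ hκ e => hκ (by
      rw [← T.rot_cube κ, e]; ext x; simp [Twist.rot])
    have e := hwsum (oneChar G) μ
    simp only [hone, map_one, mul_one] at e
    have e' : ∑ x, T.wt μ x = 192 * ((m (oneChar G) 1 : ℤ) - m (oneChar G) μ) := by exact_mod_cast e
    simp only [Twist.wt, Twist.psi, sum_sub_distrib, sum_add_distrib, sum_sign hμ,
      sum_sign (hne μ hμ), sum_sign (hne _ (hne μ hμ)), sum_const, card_univ, ← Nat.card_eq_fintype_card,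
      h.cardS] at e'
    simp only [hcdef, if_pos h1B]
    simp at e'
    omega
  have hexp : ∀ (μ : Sgn S) (g : G),
      secLift S U (T.wt μ) g = ∑ θ : IrrCharacter G, (c μ θ : ℂ) * (θ : G → ℂ) g := fun μ g => by
    have e := congrFun (classFun_expand (isClassFunction_secLift (hinv μ))) g
    simp only [Finset.sum_apply, Pi.smul_apply, smul_eq_mul, hinner] at e
    exact e
  have hquad : ∀ μ : Sgn S,
      ∑ θ : IrrCharacter G, (c μ θ : ℚ) * ((v θ : ℚ) ^ 2 / (d θ : ℚ)) = 0 := by
    intro μ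
    have e0 : ∑ k : G, secLift S U (T.wt μ) (z * (k * z * k⁻¹)) = 0 :=
      sum_eq_zero fun k _ => secLift_mul_invol h hI hzz (by
        rw [show k * z * k⁻¹ * (k * z * k⁻¹) = k * (z * z) * k⁻¹ by group, hzz, mul_one, mul_inv_cancel])
    simp only [hexp] at e0
    rw [sum_comm, sum_congr rfl fun θ _ => by rw [← mul_sum, sum_conj_char, hv θ, hd θ]] at e0
    have hGn : (Nat.card G : ℂ) ≠ 0 := Nat.cast_ne_zero.2 Nat.card_pos.ne'
    apply Rat.cast_injective (α := ℂ)
    push_cast
    apply mul_left_cancel₀ hGn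
    rw [mul_zero, ← e0, mul_sum]
    exact sum_congr rfl fun θ _ => by ring
  have hbound : ∑ θ ∈ B, v θ ^ 2 = 64 := by
    set C := centralizer ({z} : Set G) with hCdef
    letI : Fintype C := Fintype.ofFinite _
    letI : Fintype (IrrCharacter C) := Fintype.ofFinite _
    have hC : ∀ t : G, t ∈ C ↔ Commute t z := fun t => mem_centralizer_singleton_iff
    have hn := hI z hz
    have hq : 2 ^ (Nat.card C).factorization 2 = 64 := by
      refine Nat.dvd_antisymm ?_ ?_
      · rw [← h.cardS, S.card_eq_multiplicity]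
        exact pow_dvd_pow 2 ((Nat.factorization_le_iff_dvd Nat.card_pos.ne' Nat.card_pos.ne').2
          (card_subgroup_dvd_card C) 2)
      · have h1 : 64 ∣ Nat.card C := h.cardS ▸ card_dvd_of_le (h.le_centralizer hzU)
        have h6 : 6 ≤ (Nat.card C).factorization 2 :=
          (Nat.prime_two.pow_dvd_iff_le_factorization Nat.card_pos.ne').1 (by simpa using h1)
        exact pow_dvd_pow 2 h6
    have e := sum_principal_secFun (M := M) hM (x := z) ⟨1, by rw [hz, pow_one]⟩ hC (y := 1) (z := 1)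
      (by simp) (by simp)
    have h2 : ∑ᶠ η ∈ principalBlock M C, (η : C → ℂ) 1 * conj ((η : C → ℂ) 1) = (64 : ℂ) := by
      rw [show (64 : ℂ) = ((2 ^ (Nat.card C).factorization 2 : ℕ) : ℂ) by rw [hq]; norm_num,
        ← sum_sq_principal_of_complement hM hn, finsum_mem_eq_finite_toFinset_sum _ (Set.toFinite _)]
      exact Finset.sum_congr rfl fun η _ => by rw [conj_irr_one]
    rw [h2, finsum_mem_eq_toFinset_sum, OneMemClass.coe_one, mul_one] at e
    have h3 : ∑ θ ∈ B, ((v θ : ℂ) ^ 2) = 64 := by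
      rw [← e]
      exact sum_congr (by ext; simp [hBdef]) fun θ _ => by rw [hv, map_intCast, sq]
    exact_mod_cast h3
  have hcong : ∀ θ ∈ B, (d θ : ℤ) + 3 * v θ + 4 * ∑ μ : Sgn S, c μ θ = 64 * (m θ 1 : ℤ) := by
    intro θ hθ
    set f : ↥(S : Subgroup G) → ℂ := fun x => conj ((θ : G → ℂ) x) with hf
    have hout : 48 * ∑ x ∈ univ.filter (fun x : ↥(S : Subgroup G) => ¬ (x : G) ∈ U), f x =
        192 * ∑ μ : Sgn S, (c μ θ : ℂ) := by
      rw [mul_sum, mul_sum, sum_congr rfl (g := fun μ => ∑ x, (T.wt μ x : ℂ) * f x) (s₁ := (univ : Finset (Sgn S)))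
        (fun μ _ => by rw [hf, hwsum]; simp only [hcdef, if_pos hθ]), sum_comm, sum_filter]
      refine sum_congr rfl fun x _ => ?_
      rw [← sum_mul, ← Int.cast_sum]
      split_ifs with hx
      · rw [sum_eq_zero fun μ _ => T.wt_mem h μ hx, Int.cast_zero, zero_mul]
      · rw [T.sum_wt_all h hx]; norm_num
    have hin : ∑ x ∈ univ.filter (fun x : ↥(S : Subgroup G) => (x : G) ∈ U), f x =
        (d θ : ℂ) + 3 * (v θ : ℂ) := by
      have hcard : (univ.filter fun x : ↥(S : Subgroup G) => (x : G) ∈ U).card = 4 := by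
        rw [← Fintype.card_subtype, ← Nat.card_eq_fintype_card, ← h.cardU]
        exact Nat.card_congr
          ⟨fun x => ⟨x.1, x.2⟩, fun u => ⟨⟨u, h.le u.2⟩, u.2⟩, fun _ => rfl, fun _ => rfl⟩
      have h1mem : (1 : ↥(S : Subgroup G)) ∈
          univ.filter fun x : ↥(S : Subgroup G) => (x : G) ∈ U := by simp
      rw [← add_sum_erase _ _ h1mem, sum_congr rfl (g := fun _ => (v θ : ℂ)) (fun x hx => by
        simp only [mem_erase, mem_filter, mem_univ, true_and] at hx
        rw [hf]
        simp only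
        rw [hvU θ x hx.2 (fun e => hx.1 (Subtype.ext e)), map_intCast]), sum_const, card_erase_of_mem h1mem,
        hcard, hf]
      simp [hd θ]
    have h0 : ∑ x, f x = 64 * (m θ 1 : ℂ) := by rw [← hm θ 1]; simp [hf]
    rw [← sum_filter_add_sum_filter_not univ (fun x : ↥(S : Subgroup G) => (x : G) ∈ U), hin] at h0
    have h1 : (d θ : ℂ) + 3 * (v θ : ℂ) + 4 * ∑ μ : Sgn S, (c μ θ : ℂ) = 64 * (m θ 1 : ℂ) := by
      rw [← h0]; linear_combination (-(1 : ℂ) / 48) * hout
    exact_mod_cast h1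
  -- the table
  let K := {μ : Sgn S // μ ≠ 1}
  have hall : ∀ θ, ∑ μ : K, c μ.1 θ = ∑ μ : Sgn S, c μ θ := fun θ => by
    rw [← add_sum_erase univ (fun μ : Sgn S => c μ θ) (mem_univ 1), hc1, zero_add]
    exact (sum_subtype _ (fun μ => by simp) (fun μ : Sgn S => c μ θ)).symm
  have hsame : ∀ μ ν : K, c ν.1 = c μ.1 ↔
      ν.1 = μ.1 ∨ ν.1 = T.rot μ.1 ∨ ν.1 = T.rot (T.rot μ.1) := by
    intro μ ν
    constructor
    · intro e
      by_contra hno
      have h1 := hprod μ.1 ν.1 μ.2 ν.2
      rw [if_neg hno, e, hprod μ.1 μ.1 μ.2 μ.2, if_pos (Or.inl rfl)] at h1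
      omega
    · rintro (e | e | e) <;> rw [e] <;> funext θ <;> simp only [hcdef, hrot]
  have table : FiveTable (IrrCharacter G) K :=
    { o := oneChar G
      B := B
      o_mem := h1B
      d := fun θ => (d θ : ℤ)
      v := v
      c := fun μ θ => c μ.1 θ
      d_o := by
        have e := hd (oneChar G); rw [hone] at e; exact_mod_cast e.symm
      v_o := by
        have e := hv (oneChar G); rw [hone] at e; exact_mod_cast e.symm
      d_pos := fun θ => by exact_mod_cast hd0 θ
      abs_v := fun θ => by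
        have e := norm_irr_le θ z
        rw [hv, hd, Complex.natCast_re, Complex.norm_intCast] at e
        exact_mod_cast e
      ne_deg := fun θ hθ e => hθ (AbelianFree.eq_one_of_value (t := z)
        (fun N hN hzN => (Subgroup.Normal.eq_bot_or_eq_top hN).resolve_left fun h' =>
          hz1 (Subgroup.mem_bot.1 (h' ▸ hzN))) (by rw [hv, hd]; exact_mod_cast e))
      card := by
        rw [Fintype.card_subtype_compl, Fintype.card_subtype_eq, card_sign h]
      c_o := fun μ => hco μ.1 μ.2
      c_B := fun μ θ hne => by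
        by_contra hθ
        exact hne (if_neg hθ)
      norm := fun μ => by
        rw [hprod μ.1 μ.1 μ.2 μ.2, if_pos (Or.inl rfl)]; norm_num
      prod := fun μ ν hne => by
        rw [hprod μ.1 ν.1 μ.2 ν.2, if_neg fun e => hne ((hsame μ ν).2 e).symm]; norm_num
      fib := fun μ => by
        obtain ⟨a1, a2, a3⟩ := T.rot_ne h μ.2
        rw [← card_map (Function.Embedding.subtype _),
          show (univ.filter fun ν : K => (fun θ => c ν.1 θ) = fun θ => c μ.1 θ).map
            (Function.Embedding.subtype _) = {μ.1, T.rot μ.1, T.rot (T.rot μ.1)} from ?_,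
          card_insert_of_notMem (by simp [Ne.symm a1, Ne.symm a2]), card_pair (Ne.symm a3)]
        ext ν
        simp only [Finset.mem_map, mem_filter, mem_univ, true_and, Function.Embedding.subtype_apply, mem_insert,
          mem_singleton]
        constructor
        · rintro ⟨⟨ν', hν'⟩, e, rfl⟩
          exact (hsame μ ⟨ν', hν'⟩).1 e
        · intro e
          have hν : ν ≠ 1 := fun e1 => by
            subst e1
            have hr1 : T.rot 1 = 1 := by ext x; simp [Twist.rot]
            rcases e with e | e | e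
            · exact μ.2 e.symm
            · exact μ.2 (by rw [← T.rot_cube μ.1, ← e, hr1, hr1])
            · exact μ.2 (by rw [← T.rot_cube μ.1, ← e, hr1])
          exact ⟨⟨ν, hν⟩, (hsame μ ⟨ν, hν⟩).2 e, rfl⟩
      degsum := fun μ => by
        have e := hexp μ.1 1
        rw [secLift_one, sum_congr rfl fun θ _ => by rw [hd θ]] at e
        exact_mod_cast e.symm
      valsum := fun μ => by
        have e := hexp μ.1 z
        rw [secLift_invol h hz, sum_congr rfl fun θ _ => by rw [hv θ]] at e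
        exact_mod_cast e.symm
      quad := fun μ => by exact_mod_cast hquad μ.1
      bound := hbound
      cong64 := fun θ hθ => ⟨(m θ 1 : ℤ), by rw [hall, hcong θ hθ]⟩
      cong16 := fun θ => by
        obtain ⟨k, hk⟩ := sixteen_dvd h (isCharacter_irr θ) hzU hbU
        have hzb : z * b ≠ 1 := fun e => hbz (by rw [← one_mul b, ← hzz, mul_assoc, e, mul_one])
        rw [hd, hv, hvU θ b hbU hb1, hvU θ (z * b) (mul_mem hzU hbU) hzb, add_sub_cancel_right] at hk
        exact ⟨k, by exact_mod_cast hk⟩ }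
  exact table.false

end CfsgLib.TwoNilp
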