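import Cfsg.Agent.Lib.CIT.TwoNilp.UFour.Structure

/-!
# Automorphisms of a Sylow subgroup of unitary type centralizing its centre

Modulo the centre `U` such an element of odd order is trivial or fixed point free, and no element acts with
order three: the automizer of the Sylow subgroup in the centralizer of `U` has order one or five.
-/

set_option autoImplicit false
set_option linter.style.haveILetI false

open Subgroup
open scoped commutatorElement

namespace CfsgLib.TwoNilp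

universe u

variable {G : Type u} [Group G]

/-- The element `a` normalizes `S` and centralizes `U`. -/
structure ActsOn (S : Sylow 2 G) (U : Subgroup G) (a : G) : Prop where
  map : ∀ s ∈ (S : Subgroup G), a * s * a⁻¹ ∈ (S : Subgroup G)
  fix : ∀ u ∈ U, a * u = u * a

/-- The element `a` induces the identity on `S` modulo `U`. -/
def TrivMod (S : Sylow 2 G) (U : Subgroup G) (a : G) : Prop :=
  ∀ x ∈ (S : Subgroup G), x⁻¹ * (a * x * a⁻¹) ∈ U

namespace ActsOn

variable {S : Sylow 2 G} {U : Subgroup G} {a b : G}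

theorem one : ActsOn S U 1 := ⟨fun s hs => by simpa using hs, fun u _ => by simp⟩

theorem mul (ha : ActsOn S U a) (hb : ActsOn S U b) : ActsOn S U (a * b) :=
  ⟨fun s hs => by
    rw [show a * b * s * (a * b)⁻¹ = a * (b * s * b⁻¹) * a⁻¹ by group]
    exact ha.map _ (hb.map s hs),
   fun u hu => by rw [mul_assoc, hb.fix u hu, ← mul_assoc, ha.fix u hu, mul_assoc]⟩

theorem pow (ha : ActsOn S U a) (n : ℕ) : ActsOn S U (a ^ n) := by
  induction n with
  | zero => simpa using one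
  | succ n ih => rw [pow_succ]; exact ih.mul ha

theorem conj_fix (ha : ActsOn S U a) {u : G} (hu : u ∈ U) : a * u * a⁻¹ = u := by
  rw [ha.fix u hu, mul_inv_cancel_right]

theorem mem_of_map (ha : ActsOn S U a) {x : G} (hx : a * x * a⁻¹ ∈ U) : x ∈ U := by
  have e : a * x * a⁻¹ = x := by
    have h1 := ha.conj_fix hx
    have h2 : a * x * a⁻¹ = x := mul_left_cancel (mul_right_cancel h1)
    exact h2
  exact e ▸ hx

theorem trivMod_mul (ha : ActsOn S U a) (hat : TrivMod S U a) (hb : ActsOn S U b) (hbt : TrivMod S U b) :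
    TrivMod S U (a * b) := fun x hx => by
  have e : x⁻¹ * (a * b * x * (a * b)⁻¹) =
      x⁻¹ * (a * x * a⁻¹) * (a * (x⁻¹ * (b * x * b⁻¹)) * a⁻¹) := by group
  rw [e, ha.conj_fix (hbt x hx)]
  exact mul_mem (hat x hx) (hbt x hx)

theorem trivMod_pow (ha : ActsOn S U a) (hat : TrivMod S U a) (n : ℕ) : TrivMod S U (a ^ n) := by
  induction n with
  | zero => intro x _; simp
  | succ n ih => rw [pow_succ]; exact (ha.pow n).trivMod_mul ih ha hat

end ActsOn

/-- An element of odd order is a power of the power by a power of two. -/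
theorem exists_pow_eq_of_odd {a : G} (ha : Odd (orderOf a)) (k : ℕ) : ∃ n : ℕ, (a ^ 2 ^ k) ^ n = a :=
  exists_pow_eq_self_of_coprime (Nat.Coprime.pow_left k (Nat.coprime_two_left.2 ha))

namespace UFour

variable {S : Sylow 2 G} {U : Subgroup G} (h : UFour S U)

include h

theorem inv_mem_eq {u : G} (hu : u ∈ U) : u⁻¹ = u := inv_eq_of_mul_eq_one_right ((h.mem_iff u (h.le hu)).1 hu)

theorem comm_mul_right {x y z : G} (hx : x ∈ (S : Subgroup G)) (hy : y ∈ (S : Subgroup G))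
    (hz : z ∈ (S : Subgroup G)) : ⁅x, y * z⁆ = ⁅x, y⁆ * ⁅x, z⁆ := by
  rw [show ⁅x, y * z⁆ = ⁅x, y⁆ * (y * ⁅x, z⁆ * y⁻¹) by simp only [commutatorElement_def]; group,
    h.central _ (h.comm_mem x hx z hz) y hy, mul_inv_cancel_right]

theorem comm_symm {x y : G} (hx : x ∈ (S : Subgroup G)) (hy : y ∈ (S : Subgroup G)) : ⁅y, x⁆ = ⁅x, y⁆ := by
  rw [← commutatorElement_inv x y, h.inv_mem_eq (h.comm_mem x hx y hy)]

theorem comm_mul_left {x y z : G} (hx : x ∈ (S : Subgroup G)) (hy : y ∈ (S : Subgroup G))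
    (hz : z ∈ (S : Subgroup G)) : ⁅x * y, z⁆ = ⁅x, z⁆ * ⁅y, z⁆ := by
  rw [h.comm_symm hz (mul_mem hx hy), h.comm_mul_right hz hx hy, h.comm_symm hx hz, h.comm_symm hy hz]

theorem comm_eq_one_of_mem {x u : G} (hx : x ∈ (S : Subgroup G)) (hu : u ∈ U) : ⁅x, u⁆ = 1 :=
  commutatorElement_eq_one_iff_mul_comm.2 (h.central u hu x hx)

theorem comm_self {x : G} : ⁅x, x⁆ = 1 := commutatorElement_eq_one_iff_mul_comm.2 rfl

theorem comm_congr_right {x y y' : G} (hx : x ∈ (S : Subgroup G)) (hy : y ∈ (S : Subgroup G))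
    (hy' : y⁻¹ * y' ∈ U) : ⁅x, y'⁆ = ⁅x, y⁆ := by
  conv_lhs => rw [← mul_inv_cancel_left y y']
  rw [h.comm_mul_right hx hy (h.le hy'), h.comm_eq_one_of_mem hx hy', mul_one]

theorem sq_mul {x y : G} (hx : x ∈ (S : Subgroup G)) (hy : y ∈ (S : Subgroup G)) :
    x * y * (x * y) = x * x * (y * y) * ⁅x, y⁆ := by
  have hc : ⁅x, y⁆ = ⁅y, x⁆ := (h.comm_symm hx hy).symm
  have e : x * y * (x * y) = x * (⁅y, x⁆ * x) * (y * y) := by
    simp only [commutatorElement_def]; group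
  rw [e, ← hc, ← h.central _ (h.comm_mem x hx y hy) x hx, ← mul_assoc x x, mul_assoc (x * x) ⁅x, y⁆,
    ← h.central _ (h.comm_mem x hx y hy) _ (mul_mem hy hy), ← mul_assoc]

theorem sq_congr {x x' : G} (hx : x ∈ (S : Subgroup G)) (hx' : x⁻¹ * x' ∈ U) : x' * x' = x * x := by
  conv_lhs => rw [← mul_inv_cancel_left x x']
  rw [h.sq_mul hx (h.le hx'), (h.mem_iff _ (h.le hx')).1 hx', h.comm_eq_one_of_mem hx hx', mul_one,
    mul_one]

theorem actsOn_of_mem {x : G} (hx : x ∈ (S : Subgroup G)) : ActsOn S U x :=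
  ⟨fun _ hs => mul_mem (mul_mem hx hs) (inv_mem hx), fun u hu => h.central u hu x hx⟩

theorem trivMod_of_mem {x : G} (hx : x ∈ (S : Subgroup G)) : TrivMod S U x := fun y hy => by
  have : y⁻¹ * (x * y * x⁻¹) = ⁅y⁻¹, x⁆ := by simp only [commutatorElement_def]; group
  rw [this]
  exact h.comm_mem _ (inv_mem hy) x hx

/-- An element of odd order which is trivial modulo `U` centralizes the Sylow subgroup. -/
theorem centralizes_of_trivMod {a : G} (ha : ActsOn S U a) (hodd : Odd (orderOf a)) (hat : TrivMod S U a)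
    {x : G} (hx : x ∈ (S : Subgroup G)) : a * x = x * a := by
  obtain ⟨n, hn⟩ := exists_pow_eq_of_odd hodd 1
  have hw := hat x hx
  set w := x⁻¹ * (a * x * a⁻¹) with hwdef
  have e1 : a * x * a⁻¹ = x * w := by rw [hwdef, mul_inv_cancel_left]
  have e2 : (a ^ 2 ^ 1) * x * (a ^ 2 ^ 1)⁻¹ = x := by
    rw [pow_one, sq, show a * a * x * (a * a)⁻¹ = a * (a * x * a⁻¹) * a⁻¹ by group, e1,
      show a * (x * w) * a⁻¹ = a * x * a⁻¹ * (a * w * a⁻¹) by group, e1, ha.conj_fix hw, mul_assoc,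
      (h.mem_iff w (h.le hw)).1 hw, mul_one]
  have hc : Commute (a ^ 2 ^ 1) x := mul_inv_eq_iff_eq_mul.1 e2
  exact hn ▸ (hc.pow_left n).eq

variable [Finite G]

/-- The centralizer in `S` of an element outside `U` is covered by four cosets of `U`. -/
theorem centralizer_cover {x k l : G} (hx : x ∈ (S : Subgroup G)) (hxU : x ∉ U)
    (hk : k ∈ (S : Subgroup G)) (hkx : ⁅x, k⁆ = 1) (hkU : k ∉ U) (hkxU : x⁻¹ * k ∉ U)
    (hl : l ∈ (S : Subgroup G)) (hlx : ⁅x, l⁆ = 1) :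
    l ∈ U ∨ x⁻¹ * l ∈ U ∨ k⁻¹ * l ∈ U ∨ (x * k)⁻¹ * l ∈ U := by
  set K := (S : Subgroup G) ⊓ centralizer ({x} : Set G) with hK
  have hmem : ∀ y ∈ (S : Subgroup G), ⁅x, y⁆ = 1 → y ∈ K := fun y hy e =>
    ⟨hy, mem_centralizer_singleton_iff.2 (commutatorElement_eq_one_iff_mul_comm.1 e).symm⟩
  have hxK := hmem x hx h.comm_self
  have hkK := hmem k hk hkx
  have hUK : ∀ u ∈ U, u ∈ K := fun u hu => hmem u (h.le hu) (h.comm_eq_one_of_mem hx hu)
  let r : Fin 4 → G := ![1, x, k, x * k]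
  have hr : ∀ i, r i ∈ K := by
    intro i; fin_cases i
    exacts [one_mem _, hxK, hkK, mul_mem hxK hkK]
  have hxx : x⁻¹ ∉ U := fun e => hxU (inv_inv x ▸ inv_mem e)
  have hkk : k⁻¹ ∉ U := fun e => hkU (inv_inv k ▸ inv_mem e)
  have hkc : k⁻¹ * x ∉ U := fun e => hkxU (by simpa using inv_mem e)
  have hc : x * k = k * x := commutatorElement_eq_one_iff_mul_comm.1 hkx
  have hsep : ∀ i j, (r i)⁻¹ * r j ∈ U → i = j := by
    have p1 : x * k ∉ U := fun e => hkxU (by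
      have := mul_mem (inv_mem (h.sq_mem x hx)) e
      rwa [show (x * x)⁻¹ * (x * k) = x⁻¹ * k by group] at this)
    have p2 : (x * k)⁻¹ ∉ U := fun e => p1 (inv_inv (x * k) ▸ inv_mem e)
    have p3 : (x * k)⁻¹ * x = k⁻¹ := by group
    have p4 : x⁻¹ * (x * k) = k := by group
    have p5 : k⁻¹ * (x * k) = x := by rw [hc]; group
    have p6 : (x * k)⁻¹ * k = x⁻¹ := by rw [hc]; group
    have p7 : k⁻¹ * x⁻¹ * k = x⁻¹ := by rw [← mul_inv_rev]; exact p6
    have p8 : k⁻¹ * x⁻¹ ∉ U := fun e => p2 (by rwa [mul_inv_rev])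
    intro i j; fin_cases i <;> fin_cases j <;>
      simp [r, hxU, hkU, hkxU, hxx, hkk, hkc, p1, p2, p3, p4, p5, p6, p7, p8]
  haveI := Fintype.ofFinite ↥K
  haveI := Fintype.ofFinite ↥U
  let F : U × Fin 4 → ↥K := fun p => ⟨r p.2 * p.1, mul_mem (hr p.2) (hUK _ p.1.2)⟩
  have hF : Function.Injective F := by
    rintro ⟨u, i⟩ ⟨v, j⟩ e
    have e' : r i * (u : G) = r j * v := congrArg Subtype.val e
    have hij := hsep i j (by
      rw [show (r i)⁻¹ * r j = (u : G) * (v : G)⁻¹ by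
        rw [show r j = r i * (u : G) * (v : G)⁻¹ by rw [e', mul_inv_cancel_right]]; group]
      exact mul_mem u.2 (inv_mem v.2))
    subst hij
    exact Prod.ext (Subtype.ext (mul_left_cancel e')) rfl
  have hcard : Nat.card (U × Fin 4) = Nat.card ↥K := by
    rw [hK, h.card_inf_centralizer hx hxU, Nat.card_prod, h.cardU, Nat.card_eq_fintype_card,
      Fintype.card_fin]
  obtain ⟨⟨u, i⟩, hui⟩ := ((Nat.bijective_iff_injective_and_card F).2 ⟨hF, hcard⟩).2 ⟨l, hmem l hl hlx⟩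
  have e : l = r i * u := (congrArg Subtype.val hui).symm
  have hu := u.2
  fin_cases i
  · exact Or.inl (by rw [e]; simpa [r] using hu)
  · exact Or.inr (Or.inl (by rw [e]; simpa [r] using hu))
  · exact Or.inr (Or.inr (Or.inl (by rw [e]; simpa [r] using hu)))
  · refine Or.inr (Or.inr (Or.inr ?_))
    rw [e]
    show (x * k)⁻¹ * (x * k * u) ∈ U
    rw [inv_mul_cancel_left]
    exact hu

/-- The centralizer in `S` of an element outside `U` is abelian. -/
theorem comm_eq_one_of_comm {x k l : G} (hx : x ∈ (S : Subgroup G)) (hxU : x ∉ U)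
    (hk : k ∈ (S : Subgroup G)) (hkx : ⁅x, k⁆ = 1) (hl : l ∈ (S : Subgroup G)) (hlx : ⁅x, l⁆ = 1) :
    ⁅k, l⁆ = 1 := by
  by_cases hkU : k ∈ U
  · rw [h.comm_symm hl hk, h.comm_eq_one_of_mem hl hkU]
  by_cases hkxU : x⁻¹ * k ∈ U
  · rw [h.comm_symm hl hk, h.comm_congr_right hl hx hkxU, h.comm_symm hx hl, hlx]
  rcases h.centralizer_cover hx hxU hk hkx hkU hkxU hl hlx with e | e | e | e
  · exact h.comm_eq_one_of_mem hk e
  · rw [h.comm_congr_right hk hx e, h.comm_symm hx hk, hkx]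
  · rw [h.comm_congr_right hk hk e, h.comm_self]
  · rw [h.comm_congr_right hk (mul_mem hx hk) e, h.comm_mul_right hk hx hk, h.comm_self, mul_one,
      h.comm_symm hx hk, hkx]

/-- An element of odd order fixing an element of `S ∖ U` modulo `U` is trivial modulo `U`. -/
theorem trivMod_of_fix {a : G} (ha : ActsOn S U a) (hodd : Odd (orderOf a)) {x : G}
    (hx : x ∈ (S : Subgroup G)) (hxU : x ∉ U) (hfix : x⁻¹ * (a * x * a⁻¹) ∈ U) : TrivMod S U a := by
  let d : G → G := fun y => y⁻¹ * (a * y * a⁻¹)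
  have hdS : ∀ y ∈ (S : Subgroup G), d y ∈ (S : Subgroup G) := fun y hy => mul_mem (inv_mem hy) (ha.map y hy)
  have hdK : ∀ y ∈ (S : Subgroup G), ⁅x, d y⁆ = 1 := fun y hy => by
    have e1 : ⁅x, a * y * a⁻¹⁆ = ⁅x, y⁆ := by
      rw [← h.comm_symm hx (ha.map y hy),
        ← h.comm_congr_right (ha.map y hy) hx hfix,
        h.comm_symm (ha.map x hx) (ha.map y hy),
        show ⁅a * x * a⁻¹, a * y * a⁻¹⁆ = a * ⁅x, y⁆ * a⁻¹ by simp only [commutatorElement_def]; group,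
        ha.conj_fix (h.comm_mem x hx y hy)]
    rw [h.comm_mul_right hx (inv_mem hy) (ha.map y hy), e1, ← h.comm_mul_right hx (inv_mem hy) hy,
      inv_mul_cancel, commutatorElement_one_right]
  -- the subgroup generated by `U` and `x`
  let T : G → Prop := fun y => y ∈ U ∨ x⁻¹ * y ∈ U
  have hdT : ∀ l ∈ (S : Subgroup G), ⁅x, l⁆ = 1 → T (d l) := by
    intro l hl hlx
    by_cases hlU : l ∈ U
    · exact Or.inl (mul_mem (inv_mem hlU) (by rwa [ha.conj_fix hlU]))
    by_cases hlxU : x⁻¹ * l ∈ U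
    · refine Or.inl ?_
      have e : d l = (x⁻¹ * l)⁻¹ * (x⁻¹ * (a * x * a⁻¹)) * (a * (x⁻¹ * l) * a⁻¹) := by
        show l⁻¹ * (a * l * a⁻¹) = _
        group
      rw [e, ha.conj_fix hlxU]
      exact mul_mem (mul_mem (inv_mem hlxU) hfix) hlxU
    rcases h.centralizer_cover hx hxU hl hlx hlU hlxU (hdS l hl) (hdK l hl) with e | e | e | e
    · exact Or.inl e
    · exact Or.inr e
    · refine absurd (ha.mem_of_map (x := l) ?_) hlU
      have := mul_mem (h.sq_mem l hl) e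
      rwa [show l * l * (l⁻¹ * (l⁻¹ * (a * l * a⁻¹))) = a * l * a⁻¹ by group] at this
    · refine absurd (ha.mem_of_map (x := x⁻¹ * l) ?_) hlxU
      have hc : x * l = l * x := commutatorElement_eq_one_iff_mul_comm.1 hlx
      have e1 : (x * l)⁻¹ * (l⁻¹ * (a * l * a⁻¹)) = (l * l * x)⁻¹ * (a * l * a⁻¹) := by
        rw [hc]; group
      have hll := h.sq_mem l hl
      have e2 : x⁻¹ * (a * l * a⁻¹) ∈ U := by
        have := mul_mem hll ((e1 ▸ e : (l * l * x)⁻¹ * (a * l * a⁻¹) ∈ U))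
        rwa [show (l * l * x)⁻¹ = (l * l)⁻¹ * x⁻¹ by
            rw [mul_inv_rev, (show Commute x (l * l) from h.central _ hll x hx).inv_inv.eq],
          show l * l * ((l * l)⁻¹ * x⁻¹ * (a * l * a⁻¹)) = x⁻¹ * (a * l * a⁻¹) by group] at this
      have := mul_mem (inv_mem hfix) e2
      rwa [show (x⁻¹ * (a * x * a⁻¹))⁻¹ * (x⁻¹ * (a * l * a⁻¹)) = a * (x⁻¹ * l) * a⁻¹ by group] at this
  have hTU : ∀ l, T l → d l ∈ U := by
    rintro l (hlU | hlU)
    · show l⁻¹ * (a * l * a⁻¹) ∈ U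
      rw [ha.conj_fix hlU, inv_mul_cancel]; exact one_mem _
    · have e : d l = (x⁻¹ * l)⁻¹ * (x⁻¹ * (a * x * a⁻¹)) * (a * (x⁻¹ * l) * a⁻¹) := by
        show l⁻¹ * (a * l * a⁻¹) = _
        group
      rw [e, ha.conj_fix hlU]
      exact mul_mem (mul_mem (inv_mem hlU) hfix) hlU
  -- two steps
  have hd2 : ∀ y, y⁻¹ * (a ^ 2 * y * (a ^ 2)⁻¹) = d y * d y * d (d y) := fun y => by
    show _ = y⁻¹ * (a * y * a⁻¹) * (y⁻¹ * (a * y * a⁻¹)) *
      ((y⁻¹ * (a * y * a⁻¹))⁻¹ * (a * (y⁻¹ * (a * y * a⁻¹)) * a⁻¹))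
    rw [sq]; group
  have hsqT : ∀ y ∈ (S : Subgroup G), T (y⁻¹ * (a ^ 2 * y * (a ^ 2)⁻¹)) := by
    intro y hy
    have hu := h.sq_mem _ (hdS y hy)
    rw [hd2]
    rcases hdT _ (hdS y hy) (hdK y hy) with e | e
    · exact Or.inl (mul_mem hu e)
    · refine Or.inr ?_
      rw [← mul_assoc, (show Commute x⁻¹ (d y * d y) from (h.central _ hu _ (inv_mem hx))).eq, mul_assoc]
      exact mul_mem hu e
  have hT2 : ∀ y, T y → y⁻¹ * (a ^ 2 * y * (a ^ 2)⁻¹) ∈ U := fun y hy => by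
    rw [hd2]
    exact mul_mem (mul_mem (hTU y hy) (hTU y hy)) (hTU _ (Or.inl (hTU y hy)))
  have hfour : TrivMod S U (a ^ 2 ^ 2) := fun y hy => by
    have e : y⁻¹ * (a ^ 2 ^ 2 * y * (a ^ 2 ^ 2)⁻¹) =
        (y⁻¹ * (a ^ 2 * y * (a ^ 2)⁻¹)) * (y⁻¹ * (a ^ 2 * y * (a ^ 2)⁻¹)) *
        ((y⁻¹ * (a ^ 2 * y * (a ^ 2)⁻¹))⁻¹ *
          (a ^ 2 * (y⁻¹ * (a ^ 2 * y * (a ^ 2)⁻¹)) * (a ^ 2)⁻¹)) := by
      rw [show a ^ 2 ^ 2 = a ^ 2 * a ^ 2 by rw [← pow_add]; norm_num]
      group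
    rw [e]
    exact mul_mem (h.sq_mem _ (mul_mem (inv_mem hy) ((ha.pow 2).map y hy))) (hT2 _ (hsqT y hy))
  obtain ⟨n, hn⟩ := exists_pow_eq_of_odd hodd 2
  exact hn ▸ (ha.pow (2 ^ 2)).trivMod_pow hfour n

/-- No element acts with order three. -/
theorem trivMod_of_cube {a : G} (ha : ActsOn S U a) (hodd : Odd (orderOf a))
    (h3 : TrivMod S U (a * a * a)) : TrivMod S U a := by
  by_contra hnt
  have hfpf : ∀ z ∈ (S : Subgroup G), z ∉ U → z⁻¹ * (a * z * a⁻¹) ∉ U :=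
    fun z hz hzU e => hnt (h.trivMod_of_fix ha hodd hz hzU e)
  -- the commutator with the image is the square
  have key : ∀ z ∈ (S : Subgroup G), z ∉ U → ⁅z, a * z * a⁻¹⁆ = z * z := by
    intro z hz hzU
    have hz1 := ha.map z hz
    set z1 := a * z * a⁻¹ with hz1d
    have hz2 := ha.map z1 hz1
    set z2 := a * z1 * a⁻¹ with hz2d
    have hP : z * z1 * z2 ∈ U := by
      by_contra hP
      refine hfpf _ (mul_mem (mul_mem hz hz1) hz2) hP ?_
      have e : a * (z * z1 * z2) * a⁻¹ = z1 * z2 * (a * a * a * z * (a * a * a)⁻¹) := by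
        rw [hz2d, hz1d]; group
      have hw := h3 z hz
      set w := z⁻¹ * (a * a * a * z * (a * a * a)⁻¹) with hwd
      rw [e, show a * a * a * z * (a * a * a)⁻¹ = z * w by rw [hwd, mul_inv_cancel_left]]
      have e2 : (z * z1 * z2)⁻¹ * (z1 * z2 * (z * w)) = ⁅(z1 * z2)⁻¹, z⁻¹⁆ * w := by
        simp only [commutatorElement_def]; group
      rw [e2]
      exact mul_mem (h.comm_mem _ (inv_mem (mul_mem hz1 hz2)) _ (inv_mem hz)) hw
    have hq1 : z1 * z1 = z * z := by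
      rw [hz1d, show a * z * a⁻¹ * (a * z * a⁻¹) = a * (z * z) * a⁻¹ by group,
        ha.conj_fix (h.sq_mem z hz)]
    have hq2 : z2 * z2 = z * z := by
      rw [hz2d, show a * z1 * a⁻¹ * (a * z1 * a⁻¹) = a * (z1 * z1) * a⁻¹ by group, hq1,
        ha.conj_fix (h.sq_mem z hz)]
    have hcon : (z * z1)⁻¹ * z2⁻¹ ∈ U := by
      have := inv_mem hP
      rw [mul_inv_rev] at this
      have e : (z * z1)⁻¹ * z2⁻¹ = ⁅(z * z1)⁻¹, z2⁻¹⁆ * (z2⁻¹ * (z * z1)⁻¹) := by
        simp only [commutatorElement_def]; group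
      rw [e]
      exact mul_mem (h.comm_mem _ (inv_mem (mul_mem hz hz1)) _ (inv_mem hz2)) this
    have hz2i : z2⁻¹ * z2⁻¹ = z * z := by
      rw [← mul_inv_rev, hq2, h.inv_mem_eq (h.sq_mem z hz)]
    have e := h.sq_congr (mul_mem hz hz1) hcon
    rw [hz2i, h.sq_mul hz hz1, hq1, (h.mem_iff _ (h.le (h.sq_mem z hz))).1 (h.sq_mem z hz), one_mul] at e
    exact e.symm
  haveI : Nontrivial U := Finite.one_lt_card_iff_nontrivial.1 (by rw [h.cardU]; norm_num)
  obtain ⟨x, hx, hxU⟩ : ∃ x ∈ (S : Subgroup G), x ∉ U := by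
    by_contra hcon
    simp only [not_exists, not_and, not_not] at hcon
    have := card_dvd_of_le (H := (S : Subgroup G)) (K := U) hcon
    rw [h.cardS, h.cardU] at this; norm_num at this
  have hx1 := ha.map x hx
  obtain ⟨y, hy, hxy, hyU, hyxU⟩ : ∃ y ∈ (S : Subgroup G), ⁅x, y⁆ = 1 ∧ y ∉ U ∧ x⁻¹ * y ∉ U := by
    by_contra hcon
    simp only [not_exists, not_and, not_not] at hcon
    have hc : Nat.card ↥((S : Subgroup G) ⊓ centralizer ({x} : Set G)) ≤ 8 := by
      haveI := Fintype.ofFinite ↥U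
      let F : U × Bool → G := fun p => (if p.2 then x else 1) * (p.1 : G)
      have hsub : (((S : Subgroup G) ⊓ centralizer ({x} : Set G) : Subgroup G) : Set G) ⊆ Set.range F := by
        rintro k ⟨hk, hkc⟩
        have hkx : ⁅x, k⁆ = 1 :=
          commutatorElement_eq_one_iff_mul_comm.2 (mem_centralizer_singleton_iff.1 hkc).symm
        by_cases hkU : k ∈ U
        · exact ⟨(⟨k, hkU⟩, false), by simp [F]⟩
        · exact ⟨(⟨x⁻¹ * k, hcon k hk hkx hkU⟩, true), by simp [F]⟩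
      have h1 := Set.ncard_le_ncard hsub (Set.finite_range F)
      have h2 := Finite.card_range_le F
      rw [← Nat.card_coe_set_eq, ← Nat.card_coe_set_eq] at h1
      rw [Nat.card_prod, h.cardU, show Nat.card Bool = 2 by simp] at h2
      exact le_trans h1 h2
    rw [h.card_inf_centralizer hx hxU] at hc
    omega
  set z := x * y with hzd
  have hz : z ∈ (S : Subgroup G) := mul_mem hx hy
  have hzU : z ∉ U := fun e => hyxU (by
    have := mul_mem (inv_mem (h.sq_mem x hx)) e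
    rwa [hzd, show (x * x)⁻¹ * (x * y) = x⁻¹ * y by group] at this)
  have hxz : ⁅x, z⁆ = 1 := by rw [hzd, h.comm_mul_right hx hx hy, h.comm_self, hxy, mul_one]
  have hy1 := ha.map y hy
  have hz1 := ha.map z hz
  set x1 := a * x * a⁻¹ with hx1d
  set y1 := a * y * a⁻¹ with hy1d
  have hz1e : a * z * a⁻¹ = x1 * y1 := by rw [hzd, hx1d, hy1d]; group
  -- no image commutes with `x`
  have hnot : ∀ w ∈ (S : Subgroup G), w ∉ U → ⁅x, w⁆ = 1 → ⁅x, a * w * a⁻¹⁆ ≠ 1 := fun w hw hwU hxw e =>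
    h.sq_ne_one hw hwU ((key w hw hwU).symm.trans (h.comm_eq_one_of_comm hx hxU hw hxw (ha.map w hw) e))
  have kz := key z hz hzU
  rw [hz1e, hzd, h.comm_mul_left hx hy (mul_mem hx1 hy1), h.comm_mul_right hx hx1 hy1,
    h.comm_mul_right hy hx1 hy1, key x hx hxU, key y hy hyU, h.sq_mul hx hy, hxy, mul_one] at kz
  have hqx := h.sq_mem x hx
  have hqy := h.sq_mem y hy
  have he := h.comm_mem x hx y1 hy1
  have hee : ⁅x, y1⁆ ≠ 1 := hnot y hy hyU hxy
  have hezx : ⁅x, y1⁆ ≠ x * x := fun e => hnot z hz hzU hxz (by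
    rw [hz1e, h.comm_mul_right hx hx1 hy1, key x hx hxU, e, (h.mem_iff _ (h.le hqx)).1 hqx])
  have hyx1 : ⁅y, x1⁆ = ⁅x, y1⁆ := by
    have c1 := h.central _ he _ (h.le hqx)
    have c2 : y * y * ⁅y, x1⁆ = ⁅y, x1⁆ * (y * y) :=
      h.central _ (h.comm_mem y hy x1 hx1) _ (h.le hqy)
    rw [mul_assoc, mul_left_cancel_iff] at kz
    -- `⁅x, y1⁆ * (⁅y, x1⁆ * y ^ 2) = y ^ 2`
    rw [← mul_assoc, mul_eq_right] at kz
    rw [eq_inv_of_mul_eq_one_right kz, h.inv_mem_eq he]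
  have hezy : ⁅x, y1⁆ ≠ y * y := fun e => hnot z hz hzU hxz (by
    have h1 : ⁅y, a * z * a⁻¹⁆ = 1 := by
      rw [hz1e, h.comm_mul_right hy hx1 hy1, key y hy hyU, hyx1, e, (h.mem_iff _ (h.le hqy)).1 hqy]
    exact h.comm_eq_one_of_comm hy hyU hx ((h.comm_symm hx hy).trans hxy) (ha.map z hz) h1)
  have hq : x * x ≠ y * y := fun e => hzU ((h.mem_iff z hz).2 (by
    rw [hzd, h.sq_mul hx hy, hxy, mul_one, e, (h.mem_iff _ (h.le hqy)).1 hqy]))
  have hq1 : x * x * (y * y) ≠ 1 := fun e => hq (by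
    rw [eq_inv_of_mul_eq_one_left e, h.inv_mem_eq hqy])
  -- the remaining value of the commutator
  have hall : ⁅x, y1⁆ = x * x * (y * y) := by
    by_contra hne
    have hsub : ({1, x * x, y * y, x * x * (y * y), ⁅x, y1⁆} : Set G) ⊆ U := by
      intro b hb
      rcases hb with rfl | rfl | rfl | rfl | rfl
      exacts [one_mem _, hqx, hqy, mul_mem hqx hqy, he]
    have hxx := h.sq_ne_one hx hxU
    have hyy := h.sq_ne_one hy hyU
    have d1 : x * x * (y * y) ≠ x * x := fun e => hyy (mul_eq_left.1 e)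
    have d2 : x * x * (y * y) ≠ y * y := fun e => hxx (mul_eq_right.1 e)
    have hc := Set.ncard_le_ncard hsub (Set.toFinite _)
    rw [← Nat.card_coe_set_eq (U : Set G)] at hc
    rw [show Nat.card ↥(U : Set G) = Nat.card U from rfl, h.cardU] at hc
    rw [Set.ncard_insert_of_notMem (by simp [Ne.symm hxx, Ne.symm hyy, Ne.symm hq1, Ne.symm hee]),
      Set.ncard_insert_of_notMem (by simp [hq, Ne.symm d1, Ne.symm hezx]),
      Set.ncard_insert_of_notMem (by simp [Ne.symm d2, Ne.symm hezy]),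
      Set.ncard_pair (Ne.symm hne)] at hc
    omega
  have hy1q : y1 * y1 = y * y := by
    rw [hy1d, show a * y * a⁻¹ * (a * y * a⁻¹) = a * (y * y) * a⁻¹ by group, ha.conj_fix hqy]
  have hw : x * y1 ∈ U := (h.mem_iff _ (mul_mem hx hy1)).2 (by
    rw [h.sq_mul hx hy1, hy1q, hall, (h.mem_iff _ (h.le (mul_mem hqx hqy))).1 (mul_mem hqx hqy)])
  refine hee ?_
  have : x⁻¹ * y1 ∈ U := by
    have := mul_mem (inv_mem hqx) hw
    rwa [show (x * x)⁻¹ * (x * y1) = x⁻¹ * y1 by group] at this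
  rw [h.comm_congr_right hx hx this, h.comm_self]

end UFour

end CfsgLib.TwoNilp
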