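import Cfsg.Agent.Lib.CIT.TwoNilp.UFour.Auto
import Mathlib.GroupTheory.Sylow

/-!
# The automizer in the centralizer of the centre has order one or five
-/

set_option autoImplicit false
set_option linter.style.haveILetI false

open Subgroup
open scoped commutatorElement

namespace CfsgLib.TwoNilp

universe u

variable {G : Type u} [Group G]

/-- The normalizer of `S` in the centralizer of `U`. -/
def autN (S : Sylow 2 G) (U : Subgroup G) : Subgroup G :=
  normalizer ((S : Subgroup G) : Set G) ⊓ centralizer (U : Set G)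

variable {S : Sylow 2 G} {U : Subgroup G}

theorem actsOn_of_autN {n : G} (hn : n ∈ autN S U) : ActsOn S U n :=
  ⟨fun s hs => (mem_normalizer_iff.1 hn.1 s).1 hs, fun u hu => (mem_centralizer_iff.1 hn.2 u hu).symm⟩

theorem mem_autN [Finite G] {n : G} (hn : ActsOn S U n) : n ∈ autN S U :=
  ⟨CfsgLib.Fusion.conjBy_eq_iff.1 (CfsgLib.Fusion.conjBy_eq_of_le (CfsgLib.Fusion.conjBy_le_iff.2 hn.map)),
    mem_centralizer_iff.2 fun u hu => (hn.fix u hu).symm⟩

/-- The cosets of `U` in `S`. -/
abbrev Cosets (S : Sylow 2 G) (U : Subgroup G) : Type u := ↥(S : Subgroup G) ⧸ U.subgroupOf (S : Subgroup G)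

/-- Conjugation on the cosets of `U` in `S`. -/
def cosetMap (n : G) (hn : n ∈ autN S U) : Cosets S U → Cosets S U :=
  Quotient.map' (fun x => ⟨n * (x : G) * n⁻¹, (actsOn_of_autN hn).map x x.2⟩) fun a b hab => by
    rw [QuotientGroup.leftRel_apply, mem_subgroupOf] at hab ⊢
    push_cast at hab ⊢
    rw [show (n * (a : G) * n⁻¹)⁻¹ * (n * (b : G) * n⁻¹) = n * ((a : G)⁻¹ * b) * n⁻¹ by group,
      (actsOn_of_autN hn).conj_fix hab]
    exact hab

theorem cosetMap_mk (n : G) (hn : n ∈ autN S U) (x : ↥(S : Subgroup G)) :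
    cosetMap n hn (QuotientGroup.mk x) = QuotientGroup.mk ⟨n * (x : G) * n⁻¹, (actsOn_of_autN hn).map x x.2⟩ :=
  rfl

/-- The action of the normalizer on the cosets. -/
def cosetPerm (S : Sylow 2 G) (U : Subgroup G) : ↥(autN S U) →* Equiv.Perm (Cosets S U) where
  toFun n :=
    { toFun := cosetMap (n : G) n.2
      invFun := cosetMap ((n : G)⁻¹) (inv_mem n.2)
      left_inv := fun q => by
        induction q using QuotientGroup.induction_on with
        | H x => rw [cosetMap_mk, cosetMap_mk]; exact congrArg QuotientGroup.mk (Subtype.ext (by group))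
      right_inv := fun q => by
        induction q using QuotientGroup.induction_on with
        | H x => rw [cosetMap_mk, cosetMap_mk]; exact congrArg QuotientGroup.mk (Subtype.ext (by group)) }
  map_one' := Equiv.ext fun q => by
    induction q using QuotientGroup.induction_on with
    | H x =>
      show cosetMap ((1 : ↥(autN S U)) : G) (one_mem _) (QuotientGroup.mk x) = _
      rw [cosetMap_mk]; exact congrArg QuotientGroup.mk (Subtype.ext (by push_cast; group))
  map_mul' a b := Equiv.ext fun q => by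
    induction q using QuotientGroup.induction_on with
    | H x =>
      show cosetMap ((a * b : ↥(autN S U)) : G) (a * b).2 (QuotientGroup.mk x) =
        cosetMap (a : G) a.2 (cosetMap (b : G) b.2 (QuotientGroup.mk x))
      rw [cosetMap_mk, cosetMap_mk, cosetMap_mk]
      exact congrArg QuotientGroup.mk (Subtype.ext (by push_cast; group))

theorem cosetPerm_fix_iff (n : ↥(autN S U)) (x : ↥(S : Subgroup G)) :
    cosetPerm S U n (QuotientGroup.mk x) = QuotientGroup.mk x ↔ (x : G)⁻¹ * ((n : G) * x * (n : G)⁻¹) ∈ U := by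
  show cosetMap (n : G) n.2 (QuotientGroup.mk x) = _ ↔ _
  rw [cosetMap_mk, eq_comm, QuotientGroup.eq (s := U.subgroupOf (S : Subgroup G)), mem_subgroupOf]
  push_cast
  exact Iff.rfl

theorem cosetPerm_eq_one_iff (n : ↥(autN S U)) : cosetPerm S U n = 1 ↔ TrivMod S U (n : G) := by
  constructor
  · intro e x hx
    exact (cosetPerm_fix_iff n ⟨x, hx⟩).1 (by rw [e]; rfl)
  · intro e
    refine Equiv.ext fun q => ?_
    induction q using QuotientGroup.induction_on with
    | H x => exact (cosetPerm_fix_iff n x).2 (e x x.2)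

/-- A two-element normalizing the Sylow subgroup lies in it. -/
theorem mem_of_normalizes [Finite G] {z : G} (hz : z ∈ normalizer ((S : Subgroup G) : Set G)) {k : ℕ}
    (hk : z ^ 2 ^ k = 1) : z ∈ (S : Subgroup G) := by
  haveI : Fact (Nat.Prime 2) := ⟨Nat.prime_two⟩
  have hzp : IsPGroup 2 ↥(zpowers z) := fun ⟨y, hy⟩ => ⟨k, by
    obtain ⟨i, rfl⟩ := hy
    refine Subtype.ext ?_
    push_cast
    rw [← zpow_natCast, ← zpow_mul, mul_comm, zpow_mul, zpow_natCast, hk, one_zpow]⟩
  have hsup : IsPGroup 2 ↥((S : Subgroup G) ⊔ zpowers z) :=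
    S.isPGroup'.to_sup_of_normal_left' hzp (zpowers_le.2 hz)
  rw [← S.is_maximal' hsup le_sup_left]
  exact mem_sup_right (mem_zpowers z)

namespace UFour

variable [Finite G] (h : UFour S U)

include h

theorem pow_eq_one_of_ordCompl (n : ↥(autN S U)) : cosetPerm S U n ^ ordCompl[2] (orderOf n) = 1 := by
  rw [← map_pow, cosetPerm_eq_one_iff]
  refine h.trivMod_of_mem (mem_of_normalizes (k := (orderOf n).factorization 2) (n ^ _ : ↥(autN S U)).2.1 ?_)
  rw [← SubmonoidClass.coe_pow, ← pow_mul, mul_comm, Nat.ordProj_mul_ordCompl_eq_self, pow_orderOf_eq_one,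
    OneMemClass.coe_one]

theorem odd_orderOf_cosetPerm (n : ↥(autN S U)) : Odd (orderOf (cosetPerm S U n)) :=
  ((Nat.odd_iff).2 (Nat.two_dvd_ne_zero.1 (Nat.not_dvd_ordCompl Nat.prime_two (orderOf_pos n).ne'))).of_dvd_nat
    (orderOf_dvd_of_pow_eq_one (h.pow_eq_one_of_ordCompl n))

/-- A representative of odd order inducing the same group of permutations. -/
theorem exists_odd_rep (n : ↥(autN S U)) : ∃ k : ℕ, Odd (orderOf ((n : G) ^ 2 ^ k)) ∧
    ∃ m : ℕ, (cosetPerm S U n ^ 2 ^ k) ^ m = cosetPerm S U n := by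
  refine ⟨(orderOf (n : G)).factorization 2, ?_, exists_pow_eq_of_odd (h.odd_orderOf_cosetPerm n) _⟩
  rw [orderOf_pow_of_dvd (pow_ne_zero _ two_ne_zero) (Nat.ordProj_dvd _ _)]
  exact Nat.odd_iff.2 (Nat.two_dvd_ne_zero.1 (Nat.not_dvd_ordCompl Nat.prime_two (orderOf_pos _).ne'))

/-- An element fixing a coset other than `U` fixes all of them. -/
theorem cosetPerm_eq_one_of_fix (n : ↥(autN S U)) {x : ↥(S : Subgroup G)} (hx : (x : G) ∉ U)
    (hfix : cosetPerm S U n (QuotientGroup.mk x) = QuotientGroup.mk x) : cosetPerm S U n = 1 := by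
  obtain ⟨k, hk, m, hm⟩ := h.exists_odd_rep n
  have hfix' : cosetPerm S U (n ^ 2 ^ k) (QuotientGroup.mk x) = QuotientGroup.mk x := by
    rw [map_pow]
    exact Equiv.Perm.pow_apply_eq_self_of_apply_eq_self hfix _
  have ht := h.trivMod_of_fix (actsOn_of_autN (n ^ 2 ^ k).2) (by simpa using hk) x.2 hx
    ((cosetPerm_fix_iff _ x).1 hfix')
  rw [← hm, ← map_pow (cosetPerm S U) n (2 ^ k), (cosetPerm_eq_one_iff _).2 ht, one_pow]

theorem card_cosets : Nat.card (Cosets S U) = 16 := by
  have h1 := (U.subgroupOf (S : Subgroup G)).index_mul_card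
  rw [Nat.card_congr (subgroupOfEquivOfLe h.le).toEquiv, h.cardU, h.cardS, index_eq_card] at h1
  show Nat.card (↥(S : Subgroup G) ⧸ U.subgroupOf (S : Subgroup G)) = 16
  omega

/-- The automizer has order one or five. -/
theorem card_range_cosetPerm :
    Nat.card ↥(cosetPerm S U).range = 1 ∨ Nat.card ↥(cosetPerm S U).range = 5 := by
  set A := (cosetPerm S U).range with hA
  set q0 : Cosets S U := QuotientGroup.mk 1 with hq0
  have hq0fix : ∀ n, cosetPerm S U n q0 = q0 := fun n =>
    (cosetPerm_fix_iff n 1).2 (by push_cast; simp)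
  have hne : ∀ x : ↥(S : Subgroup G), (QuotientGroup.mk x : Cosets S U) ≠ q0 → (x : G) ∉ U := fun x hx e =>
    hx (by rw [hq0, eq_comm, QuotientGroup.eq (s := U.subgroupOf (S : Subgroup G)), mem_subgroupOf]; simpa using e)
  have hcardQ := h.card_cosets
  haveI := Fintype.ofFinite (Cosets S U)
  classical
  haveI : Nontrivial (Cosets S U) := Finite.one_lt_card_iff_nontrivial.1 (by rw [hcardQ]; norm_num)
  obtain ⟨q1, hq1⟩ := exists_ne q0
  obtain ⟨x1, rfl⟩ := QuotientGroup.mk_surjective q1
  have hle : Nat.card A ≤ 15 := by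
    let F : A → {q : Cosets S U // q ≠ q0} := fun σ => ⟨σ.1 (QuotientGroup.mk x1), fun e => hq1 (by
      obtain ⟨n, hn⟩ := σ.2
      rw [← hn, ← hq0fix n] at e
      exact (cosetPerm S U n).injective e)⟩
    have hF : Function.Injective F := fun σ τ e => by
      obtain ⟨n, hn⟩ := σ.2
      obtain ⟨m, hm⟩ := τ.2
      have e' : σ.1 (QuotientGroup.mk x1) = τ.1 (QuotientGroup.mk x1) := congrArg Subtype.val e
      rw [← hn, ← hm] at e'
      have h1 := h.cosetPerm_eq_one_of_fix (m⁻¹ * n) (hne x1 hq1) (by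
        rw [map_mul, map_inv, Equiv.Perm.mul_apply, Equiv.Perm.inv_eq_iff_eq]
        exact e')
      rw [map_mul, map_inv, inv_mul_eq_one] at h1
      exact Subtype.ext (hn.symm.trans (h1.symm.trans hm))
    refine le_trans (Nat.card_le_card_of_injective F hF) (le_of_eq ?_)
    rw [Nat.card_eq_fintype_card, Fintype.card_subtype_compl, ← Nat.card_eq_fintype_card, hcardQ,
      Fintype.card_subtype_eq]
  have hprime : ∀ p : ℕ, p.Prime → p ∣ Nat.card A → p = 5 := by
    intro p hp hpd
    haveI : Fact p.Prime := ⟨hp⟩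
    obtain ⟨σ, hσ⟩ := exists_prime_orderOf_dvd_card' p hpd
    obtain ⟨n, hn⟩ := σ.2
    have hσ1 : (σ : Equiv.Perm (Cosets S U)) ≠ 1 := fun e => hp.ne_one (by
      rw [← hσ, orderOf_eq_one_iff]; exact Subtype.ext e)
    have hσo : orderOf (σ : Equiv.Perm (Cosets S U)) = p := by rw [Subgroup.orderOf_coe, hσ]
    have hP : IsPGroup p ↥(zpowers (σ : Equiv.Perm (Cosets S U))) :=
      IsPGroup.of_card (n := 1) (by rw [Nat.card_zpowers, hσo, pow_one])
    have hfix : MulAction.fixedPoints ↥(zpowers (σ : Equiv.Perm (Cosets S U))) (Cosets S U) = {q0} := by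
      ext q
      rw [MulAction.mem_fixedPoints, Set.mem_singleton_iff]
      constructor
      · intro hq
        by_contra hne'
        obtain ⟨x, rfl⟩ := QuotientGroup.mk_surjective q
        have hq' : cosetPerm S U n (QuotientGroup.mk x) = QuotientGroup.mk x := by
          rw [hn]; exact hq ⟨_, mem_zpowers _⟩
        exact hσ1 (hn.symm.trans (h.cosetPerm_eq_one_of_fix n (hne x hne') hq'))
      · rintro rfl ⟨τ, hτ⟩
        obtain ⟨i, rfl⟩ := hτ
        show ((σ : Equiv.Perm (Cosets S U)) ^ i) q0 = q0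
        rw [← hn, ← map_zpow]
        exact hq0fix _
    have hmod := hP.card_modEq_card_fixedPoints (Cosets S U)
    rw [hcardQ, hfix, show Nat.card ↥({q0} : Set (Cosets S U)) = 1 by simp] at hmod
    have hp15 : p ∣ 15 := (Nat.modEq_iff_dvd' (by norm_num)).1 hmod.symm
    have hp2 : p ≠ 2 := by rintro rfl; norm_num at hp15
    have hle' := Nat.le_of_dvd (by norm_num) hp15
    have hp3 : p ≠ 3 := by
      rintro rfl
      obtain ⟨k, hk, m, hm⟩ := h.exists_odd_rep n
      have hb : TrivMod S U ((n : G) ^ 2 ^ k * (n : G) ^ 2 ^ k * (n : G) ^ 2 ^ k) := by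
        have : cosetPerm S U (n ^ 2 ^ k * n ^ 2 ^ k * n ^ 2 ^ k) = 1 := by
          rw [show n ^ 2 ^ k * n ^ 2 ^ k * n ^ 2 ^ k = (n ^ 3) ^ 2 ^ k by
            rw [← pow_mul, mul_comm, pow_mul, pow_succ, sq], map_pow, map_pow, hn, ← hσo,
            pow_orderOf_eq_one, one_pow]
        simpa using (cosetPerm_eq_one_iff _).1 this
      have ht := h.trivMod_of_cube (actsOn_of_autN (n ^ 2 ^ k).2) (by simpa using hk) (by simpa using hb)
      refine hσ1 (hn.symm.trans ?_)
      rw [← hm, ← map_pow (cosetPerm S U) n (2 ^ k), (cosetPerm_eq_one_iff _).2 (by simpa using ht), one_pow]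
    interval_cases p <;> first | rfl | omega | (norm_num at hp)
  have hpos : 0 < Nat.card A := Nat.card_pos
  have : ∀ p ∈ ([2, 3, 7, 11, 13] : List ℕ), ¬ p ∣ Nat.card A := by
    intro p hp hd
    fin_cases hp <;> exact absurd (hprime _ (by norm_num) hd) (by norm_num)
  simp only [List.mem_cons, List.not_mem_nil, or_false, forall_eq_or_imp, forall_eq] at this
  obtain ⟨h2, h3, h7, h11, h13⟩ := this
  interval_cases hN : Nat.card A <;> omega

/-- The fifth power of an element of the normalizer is trivial modulo `U`. -/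
theorem cosetPerm_pow_five (n : ↥(autN S U)) : cosetPerm S U n ^ 5 = 1 := by
  have hd : orderOf (cosetPerm S U n) ∣ 5 := by
    rcases h.card_range_cosetPerm with e | e
    · have := orderOf_dvd_natCard (cosetPerm S U).range ⟨n, rfl⟩
      rw [e] at this
      exact this.trans (one_dvd 5)
    · exact e ▸ Subgroup.orderOf_dvd_natCard (cosetPerm S U).range ⟨n, rfl⟩
  exact orderOf_dvd_iff_pow_eq_one.1 hd

/-- A moving element generates the automizer. -/
theorem exists_pow_cosetPerm {f : ↥(autN S U)} (hf : cosetPerm S U f ≠ 1) (n : ↥(autN S U)) :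
    ∃ i : ℕ, cosetPerm S U (f ^ i) = cosetPerm S U n := by
  haveI : Fact (Nat.Prime 5) := ⟨by norm_num⟩
  set A := (cosetPerm S U).range with hA
  have hc : Nat.card A = 5 := by
    rcases h.card_range_cosetPerm with e | e
    · haveI : Subsingleton A := (Nat.card_eq_one_iff_unique.1 e).1
      exact absurd (congrArg Subtype.val
        (Subsingleton.elim (⟨_, f, rfl⟩ : A) ⟨1, one_mem _⟩)) hf
    · exact e
  have := mem_powers_of_prime_card hc (g := (⟨_, f, rfl⟩ : A))
    (g' := (⟨_, n, rfl⟩ : A)) (fun e => hf (congrArg Subtype.val e))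
  obtain ⟨i, hi⟩ := this
  exact ⟨i, by rw [map_pow]; exact congrArg Subtype.val hi⟩

end UFour

end CfsgLib.TwoNilp
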