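import Cfsg.Agent.Lib.CIT.TwoNilp.UFour.Local
import Cfsg.Agent.Lib.CIT.TwoNilp.UFour.Main

/-!
# A simple group with a Sylow subgroup of unitary type satisfies the local hypothesis
-/

set_option autoImplicit false

namespace CfsgLib.TwoNilp

universe u

/-- A simple group with a Sylow two-subgroup of unitary type has an automorphism of order five of it as in
`FiveLocal`. -/
theorem exists_fiveLocal {G : Type u} [Group G] [Finite G] [IsSimpleGroup G] (hG : ¬ IsMulCommutative G)
    {S : Sylow 2 G} {U : Subgroup G} (h : UFour S U) : ∃ f : G, CfsgLib.UFourFive.FiveLocal S U f :=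
  (h.nilp_or_fiveLocal hG).resolve_left fun hI => false_of_uFour hG hI S U h

end CfsgLib.TwoNilp
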