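import Cfsg.Agent.Lib.CIT.TwoNilp.UFour.Structure
import Cfsg.Agent.S2791
import Cfsg.Agent.Lib.Invol.ZStar

/-!
# Fusion in a Sylow subgroup of unitary type under two-nilpotent centralizers
-/

set_option autoImplicit false
set_option linter.style.haveILetI false

open Subgroup
open scoped commutatorElement

namespace CfsgLib.TwoNilp

universe u

variable {G : Type u} [Group G] [Finite G]

/-- In a nonabelian simple group there is no isolated involution. -/
theorem not_isolated [IsSimpleGroup G] (hG : ¬ IsMulCommutative G) (z : G) :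
    ¬ Cfsg.IsIsolatedInvolution z := by
  intro hz
  have hcore : Cfsg.pPrimeCore 2 G = ⊥ := by
    haveI : Fact (Nat.Prime 2) := ⟨Nat.prime_two⟩
    have hn : (Cfsg.pPrimeCore 2 G).Normal := by
      rw [CfsgLib.Coprime.pPrimeCore_eq_piCore Nat.prime_two]; infer_instance
    rcases hn.eq_bot_or_eq_top with h | h
    · exact h
    · exfalso
      have hodd := CfsgLib.Coprime.pPrimeCore_coprime (G := G) Nat.prime_two
      rw [h, card_top] at hodd
      haveI := Cfsg.Agent.S0205.result (G := G) (Nat.coprime_two_right.1 hodd)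
      exact hG ⟨⟨IsSimpleGroup.comm_iff_isSolvable.2 inferInstance⟩⟩
  have hc := CfsgLib.Invol.eq_of_zcentral_bot (CfsgLib.Invol.zstar hz) hcore
  rcases (center G).normal_of_characteristic.eq_bot_or_eq_top with h | h
  · rw [h, mem_bot] at hc
    have := hz.1
    rw [hc, orderOf_one] at this
    omega
  · exact hG ⟨⟨fun a b => mem_center_iff.1 (h ▸ mem_top b : b ∈ center G) a⟩⟩

namespace UFour

variable {S : Sylow 2 G} {U : Subgroup G} (h : UFour S U)

include h

theorem inner_of_commute (hI : Nilp G) {c u : G} (hu : u ∈ U) (hu1 : u ≠ 1) (hc : c * u = u * c) :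
    ∃ s ∈ (S : Subgroup G), (c * c = 1 → s * s = 1) ∧ ∀ x ∈ (S : Subgroup G),
      c * x * c⁻¹ ∈ (S : Subgroup G) → c * x * c⁻¹ = s * x * s⁻¹ := by
  haveI : Fact (Nat.Prime 2) := ⟨Nat.prime_two⟩
  set C := centralizer ({u} : Set G) with hC
  have hSC : (S : Subgroup G) ≤ C := h.le_centralizer hu
  have hcC : c ∈ C := mem_centralizer_singleton_iff.2 hc
  have hcompl := (CfsgLib.Fusion.hasNormalPComplement_iff_forall_sylow).mp
    (hI u (h.orderOf_eq_two hu hu1)) (S.subtype hSC)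
  set N : Subgroup ↥C := Cfsg.pResidual 2 ↥C with hN
  haveI : N.Normal := CfsgLib.Fusion.pResidual_normal
  have hNS : ∀ n ∈ N, (n : G) ∈ (S : Subgroup G) → n = 1 := fun n hn hnS =>
    mem_bot.1 (hcompl.disjoint.le_bot ⟨hn, hnS⟩)
  obtain ⟨o, ho, s, hs, hos⟩ := mem_sup_of_normal_left.1 (hcompl.sup_eq_top ▸ mem_top (⟨c, hcC⟩ : ↥C))
  have hs' : (s : G) ∈ (S : Subgroup G) := hs
  refine ⟨s, hs', fun hcc => ?_, fun x hx hcx => ?_⟩
  · have h2 : o * (s * o * s⁻¹) * (s * s) = 1 := by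
      have e : (⟨c, hcC⟩ : ↥C) * ⟨c, hcC⟩ = 1 := Subtype.ext hcc
      rw [← hos] at e
      rw [← e]; group
    have h3 : s * s ∈ N := by
      rw [eq_inv_of_mul_eq_one_right h2]
      exact inv_mem (mul_mem ho (Subgroup.Normal.conj_mem inferInstance o ho s))
    exact congrArg Subtype.val (hNS _ h3 (mul_mem hs' hs'))
  set x' : ↥C := ⟨x, hSC hx⟩
  set y := s * x' * s⁻¹ with hy
  have hyS : (y : G) ∈ (S : Subgroup G) := mul_mem (mul_mem hs' hx) (inv_mem hs')
  have e1 : c * x * c⁻¹ = ((o * y * o⁻¹ : ↥C) : G) := by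
    have e2 : c = ((o * s : ↥C) : G) := (congrArg Subtype.val hos).symm
    rw [e2, hy]
    push_cast
    show _ = (o : G) * ((s : G) * x * (s : G)⁻¹) * (o : G)⁻¹
    group
  have hmem : o * (y * o⁻¹ * y⁻¹) ∈ N :=
    mul_mem ho (Subgroup.Normal.conj_mem inferInstance _ (inv_mem ho) y)
  have h1 := hNS _ hmem (by
    have : ((o * (y * o⁻¹ * y⁻¹) : ↥C) : G) = c * x * c⁻¹ * (y : G)⁻¹ := by
      rw [e1]; push_cast; group
    rw [this]
    exact mul_mem hcx (inv_mem hyS))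
  rw [e1, show o * y * o⁻¹ = y by
    calc o * y * o⁻¹ = o * (y * o⁻¹ * y⁻¹) * y := by group
      _ = y := by rw [h1, one_mul]]
  rfl

theorem inner_of_centralizes (hI : Nilp G) {c : G} (hc : ∀ u ∈ U, c * u = u * c) :
    ∃ s ∈ (S : Subgroup G), ∀ x ∈ (S : Subgroup G),
      c * x * c⁻¹ ∈ (S : Subgroup G) → c * x * c⁻¹ = s * x * s⁻¹ := by
  haveI : Nontrivial U := Finite.one_lt_card_iff_nontrivial.1 (by rw [h.cardU]; norm_num)
  obtain ⟨⟨u, hu⟩, hu1⟩ := exists_ne (1 : U)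
  obtain ⟨s, hs, -, hs'⟩ := h.inner_of_commute hI hu (fun e => hu1 (Subtype.ext e)) (hc u hu)
  exact ⟨s, hs, hs'⟩

theorem conj_normalizer (hI : Nilp G) {x g : G} (hx : x ∈ (S : Subgroup G))
    (hg : g * x * g⁻¹ ∈ (S : Subgroup G)) :
    ∃ m, (∀ s ∈ (S : Subgroup G), m * s * m⁻¹ ∈ (S : Subgroup G)) ∧ m * x * m⁻¹ = g * x * g⁻¹ := by
  haveI : Fact (Nat.Prime 2) := ⟨Nat.prime_two⟩
  have hUab : IsMulCommutative ↥U :=
    ⟨⟨fun a b => Subtype.ext (h.central _ b.2 _ (h.le a.2))⟩⟩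
  obtain ⟨T, hUT, hcf⟩ := Cfsg.Agent.S2791.result S U hUab h.stronglyClosed
  -- work in `S`, a conjugate of `T`
  set CU := centralizer (U : Set G) with hCU
  have hSCU : (S : Subgroup G) ≤ CU := fun s hs => mem_centralizer_iff.2 fun u hu => (h.central u hu s hs).symm
  obtain ⟨n, hnN, hn⟩ : ∃ n ∈ normalizer (U : Set G), n * x * n⁻¹ = g * x * g⁻¹ := by
    obtain ⟨k, hk⟩ := MulAction.exists_smul_eq G S T
    have hT : ∀ s : G, k * s * k⁻¹ ∈ (T : Subgroup G) ↔ s ∈ (S : Subgroup G) := fun s => by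
      rw [← hk, Sylow.coe_subgroup_smul, Subgroup.mem_smul_pointwise_iff_exists]
      constructor
      · rintro ⟨s', hs', e⟩
        have e' : k * s' * k⁻¹ = k * s * k⁻¹ := e
        rwa [mul_left_cancel (mul_right_cancel e')] at hs'
      · exact fun hs => ⟨s, hs, rfl⟩
    have hkN : k ∈ normalizer (U : Set G) := by
      refine CfsgLib.Fusion.conjBy_eq_iff.1 (CfsgLib.Fusion.conjBy_eq_of_le
        (CfsgLib.Fusion.conjBy_le_iff.2 fun u hu => ?_))
      have hk' : k⁻¹ * u * k ∈ (S : Subgroup G) := by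
        rw [← hT, show k * (k⁻¹ * u * k) * k⁻¹ = u by group]; exact hUT hu
      have hmem : k⁻¹ * u * k ∈ U := by
        have := h.mem_of_conj (g := k⁻¹) hu (by rwa [inv_inv])
        rwa [inv_inv] at this
      -- `U` is stable under `k⁻¹`
      have hall : ∀ v ∈ U, k⁻¹ * v * k ∈ U := fun v hv => by
        have hv' : k⁻¹ * v * k ∈ (S : Subgroup G) := by
          rw [← hT, show k * (k⁻¹ * v * k) * k⁻¹ = v by group]; exact hUT hv
        have := h.mem_of_conj (g := k⁻¹) hv (by rwa [inv_inv])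
        rwa [inv_inv] at this
      have hsurj : Function.Surjective (fun v : U => (⟨k⁻¹ * (v : G) * k, hall v v.2⟩ : U)) :=
        Finite.surjective_of_injective fun a b e => Subtype.ext
          (mul_left_cancel (mul_right_cancel (congrArg Subtype.val e)))
      obtain ⟨v, hv⟩ := hsurj ⟨u, hu⟩
      have : k * u * k⁻¹ = (v : G) := by
        rw [show u = k⁻¹ * (v : G) * k from (congrArg Subtype.val hv).symm]; group
      rw [this]; exact v.2
    obtain ⟨hX, hstr⟩ := hcf {k * x * k⁻¹} (Set.singleton_subset_iff.2 ((hT x).2 hx))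
    obtain ⟨q, hq, hqe⟩ := hstr (k * g * k⁻¹) (by
      rintro _ ⟨a, ha, rfl⟩
      rw [Set.mem_singleton_iff.1 ha]
      show k * g * k⁻¹ * (k * x * k⁻¹) * (k * g * k⁻¹)⁻¹ ∈ _
      rw [show k * g * k⁻¹ * (k * x * k⁻¹) * (k * g * k⁻¹)⁻¹ = k * (g * x * g⁻¹) * k⁻¹ by group]
      exact (hT _).2 hg)
    refine ⟨k⁻¹ * q * k, mul_mem (mul_mem (inv_mem hkN) hq) hkN, ?_⟩
    have e := hqe (k * x * k⁻¹) rfl
    calc k⁻¹ * q * k * x * (k⁻¹ * q * k)⁻¹ = k⁻¹ * (q * (k * x * k⁻¹) * q⁻¹) * k := by group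
      _ = g * x * g⁻¹ := by rw [← e]; group
  -- Frattini inside the centralizer of `U`
  have hnS : ∀ s ∈ (S : Subgroup G), n * s * n⁻¹ ∈ CU := fun s hs => mem_centralizer_iff.2 fun u hu => by
    have hu' : n⁻¹ * u * n ∈ U := (mem_normalizer_iff''.1 hnN u).1 hu
    calc u * (n * s * n⁻¹) = n * (n⁻¹ * u * n * s) * n⁻¹ := by group
      _ = n * (s * (n⁻¹ * u * n)) * n⁻¹ := by rw [h.central _ hu' s hs]
      _ = n * s * n⁻¹ * u := by group
  have hnSle : ((n • S : Sylow 2 G) : Subgroup G) ≤ CU := by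
    rw [Sylow.coe_subgroup_smul]
    intro y hy
    rw [Subgroup.mem_smul_pointwise_iff_exists] at hy
    obtain ⟨s, hs, rfl⟩ := hy
    exact hnS s hs
  obtain ⟨c, hc⟩ := MulAction.exists_smul_eq ↥CU (S.subtype hSCU) ((n • S).subtype hnSle)
  have hm : ∀ s ∈ (S : Subgroup G), (c : G)⁻¹ * n * s * ((c : G)⁻¹ * n)⁻¹ ∈ (S : Subgroup G) := by
    intro s hs
    have h1 : (⟨n * s * n⁻¹, hnS s hs⟩ : ↥CU) ∈ ((c • S.subtype hSCU : Sylow 2 ↥CU) : Subgroup ↥CU) := by
      rw [hc]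
      show n * s * n⁻¹ ∈ ((n • S : Sylow 2 G) : Subgroup G)
      rw [Sylow.coe_subgroup_smul, Subgroup.mem_smul_pointwise_iff_exists]
      exact ⟨s, hs, rfl⟩
    rw [Sylow.coe_subgroup_smul, Subgroup.mem_smul_pointwise_iff_exists] at h1
    obtain ⟨t, ht, e⟩ := h1
    have e' : (c : G) * (t : G) * (c : G)⁻¹ = n * s * n⁻¹ := congrArg Subtype.val e
    rw [show (c : G)⁻¹ * n * s * ((c : G)⁻¹ * n)⁻¹ = (c : G)⁻¹ * (n * s * n⁻¹) * c by group, ← e',
      show (c : G)⁻¹ * ((c : G) * (t : G) * (c : G)⁻¹) * c = (t : G) by group]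
    exact ht
  set m := (c : G)⁻¹ * n with hmdef
  have hcm : (c : G) * (m * x * m⁻¹) * (c : G)⁻¹ = g * x * g⁻¹ := by rw [← hn, hmdef]; group
  obtain ⟨s, hs, hse⟩ := h.inner_of_centralizes hI (c := c)
    fun u hu => (mem_centralizer_iff.1 c.2 u hu).symm
  refine ⟨s * m, fun t ht => ?_, ?_⟩
  · rw [show s * m * t * (s * m)⁻¹ = s * (m * t * m⁻¹) * s⁻¹ by group]
    exact mul_mem (mul_mem hs (hm t ht)) (inv_mem hs)
  · have := hse _ (hm x hx) (by rw [hcm]; exact hg)
    rw [hcm] at this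
    rw [this]; group

theorem centralizes_of_fix {m : G} (hm : ∀ s ∈ (S : Subgroup G), m * s * m⁻¹ ∈ (S : Subgroup G)) {v : G}
    (hv : v ∈ U) (hv1 : v ≠ 1) (hfix : m * v * m⁻¹ = v) : ∀ u ∈ U, m * u = u * m := by
  haveI : Fact (Nat.Prime 2) := ⟨Nat.prime_two⟩
  intro u hu
  by_cases hu1 : u = 1
  · subst hu1; simp
  by_cases huv : u = v
  · subst huv; exact mul_inv_eq_iff_eq_mul.1 hfix
  by_contra hne
  have hne' : m * u * m⁻¹ ≠ u := fun e => hne (mul_inv_eq_iff_eq_mul.1 e)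
  have huU : m * u * m⁻¹ ∈ U := h.mem_of_conj hu (hm u (h.le hu))
  have huv1 : u * v ≠ 1 := fun e => huv (by
    rw [← mul_one u, ← (h.mem_iff v (h.le hv)).1 hv, ← mul_assoc, e, one_mul])
  -- the four elements of `U`
  have hall : ∀ w ∈ U, w = 1 ∨ w = v ∨ w = u ∨ w = u * v := by
    intro w hw
    by_contra hcon
    simp only [not_or] at hcon
    obtain ⟨w1, w2, w3, w4⟩ := hcon
    have hsub : ({1, v, u, u * v, w} : Set G) ⊆ U := by
      intro a ha
      rcases ha with rfl | rfl | rfl | rfl | rfl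
      exacts [one_mem _, hv, hu, mul_mem hu hv, hw]
    have hc := Set.ncard_le_ncard hsub (Set.toFinite _)
    rw [← Nat.card_coe_set_eq (U : Set G)] at hc
    rw [show Nat.card ↥(U : Set G) = Nat.card U from rfl, h.cardU] at hc
    rw [Set.ncard_insert_of_notMem (by simp [Ne.symm hv1, Ne.symm hu1, Ne.symm huv1, Ne.symm w1]),
      Set.ncard_insert_of_notMem (by simp [Ne.symm huv, Ne.symm w2, hu1]),
      Set.ncard_insert_of_notMem (by simp [hv1, Ne.symm w3]),
      Set.ncard_pair (Ne.symm w4)] at hc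
    omega
  have hu2 : m * u * m⁻¹ = u * v := by
    rcases hall _ huU with e | e | e | e
    · exact absurd (conj_eq_one_iff.1 e) hu1
    · exact absurd (mul_left_cancel (mul_right_cancel (e.trans hfix.symm))) huv
    · exact absurd e hne'
    · exact e
  have huvi : m * (u * v) * m⁻¹ = u := by
    calc m * (u * v) * m⁻¹ = (m * u * m⁻¹) * (m * v * m⁻¹) := by group
      _ = u * (v * v) := by rw [hu2, hfix, mul_assoc]
      _ = u := by rw [(h.mem_iff v (h.le hv)).1 hv, mul_one]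
  have hiter : ∀ k : ℕ, m ^ k * u * (m ^ k)⁻¹ = if Even k then u else u * v := by
    intro k
    induction k with
    | zero => simp
    | succ k ih =>
      calc m ^ (k + 1) * u * (m ^ (k + 1))⁻¹ = m * (m ^ k * u * (m ^ k)⁻¹) * m⁻¹ := by
            rw [pow_succ']; group
        _ = _ := by
          rw [ih]
          by_cases hk : Even k
          · rw [if_pos hk, if_neg (fun h' => (Nat.even_add_one.1 h') hk), hu2]
          · rw [if_neg hk, if_pos (Nat.even_add_one.2 hk), huvi]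
  set o := ordCompl[2] (orderOf m) with ho
  have hodd : ¬ Even o := fun he => Nat.not_dvd_ordCompl Nat.prime_two (orderOf_pos m).ne' he.two_dvd
  have hP2 : m ^ o ∈ (S : Subgroup G) := by
    have hmN : m ∈ normalizer ((S : Subgroup G) : Set G) :=
      CfsgLib.Fusion.conjBy_eq_iff.1 (CfsgLib.Fusion.conjBy_eq_of_le (CfsgLib.Fusion.conjBy_le_iff.2 hm))
    set z := m ^ o
    have hpow : z ^ 2 ^ (orderOf m).factorization 2 = 1 := by
      rw [← pow_mul, mul_comm, Nat.ordProj_mul_ordCompl_eq_self, pow_orderOf_eq_one]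
    have hzp : IsPGroup 2 ↥(zpowers z) := fun ⟨y, hy⟩ => ⟨(orderOf m).factorization 2, by
      obtain ⟨i, rfl⟩ := hy
      refine Subtype.ext ?_
      push_cast
      rw [← zpow_natCast, ← zpow_mul, mul_comm, zpow_mul, zpow_natCast, hpow, one_zpow]⟩
    have hle : zpowers z ≤ normalizer ((S : Subgroup G) : Set G) := zpowers_le.2 (pow_mem hmN o)
    have hsup : IsPGroup 2 ↥((S : Subgroup G) ⊔ zpowers z) :=
      S.isPGroup'.to_sup_of_normal_left' hzp hle
    rw [← S.is_maximal' hsup le_sup_left]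
    exact mem_sup_right (mem_zpowers z)
  have h2 := hiter o
  rw [if_neg hodd, h.central u hu _ hP2, mul_inv_cancel_right] at h2
  exact hv1 (left_eq_mul.1 h2)

theorem exists_conj_ne [IsSimpleGroup G] (hG : ¬ IsMulCommutative G) {v : G} (hv : v ∈ U) (hv1 : v ≠ 1) :
    ∃ k : G, k * v * k⁻¹ ∈ (S : Subgroup G) ∧ k * v * k⁻¹ ≠ v := by
  haveI : Fact (Nat.Prime 2) := ⟨Nat.prime_two⟩
  have hmove : ∃ g : G, Commute v (g * v * g⁻¹) ∧ g * v * g⁻¹ ≠ v := by
    by_contra hcon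
    simp only [not_exists, not_and, not_not] at hcon
    exact not_isolated hG v ⟨h.orderOf_eq_two hv hv1, hcon⟩
  obtain ⟨g, hgc, hgne⟩ := hmove
  set w := g * v * g⁻¹ with hw
  set C := centralizer ({v} : Set G)
  have hSC : (S : Subgroup G) ≤ C := h.le_centralizer hv
  have hwC : w ∈ C := mem_centralizer_singleton_iff.2 hgc.symm.eq
  have hw2 : w ^ 2 = 1 := by
    rw [hw, conj_pow, sq, (h.mem_iff v (h.le hv)).1 hv, mul_one, mul_inv_cancel]
  have hzp : IsPGroup 2 ↥(zpowers (⟨w, hwC⟩ : ↥C)) := fun ⟨y, hy⟩ => ⟨1, by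
    obtain ⟨i, rfl⟩ := hy
    refine Subtype.ext (Subtype.ext ?_)
    push_cast
    rw [← zpow_natCast, ← zpow_mul, mul_comm, zpow_mul, zpow_natCast, hw2,
      one_zpow]⟩
  obtain ⟨Q, hQ⟩ := hzp.exists_le_sylow
  obtain ⟨c, hc⟩ := MulAction.exists_smul_eq ↥C Q (S.subtype hSC)
  have hcw : (c : G) * g * v * ((c : G) * g)⁻¹ ∈ (S : Subgroup G) := by
    have h1 : c * ⟨w, hwC⟩ * c⁻¹ ∈ ((S.subtype hSC : Sylow 2 ↥C) : Subgroup ↥C) := by
      rw [← hc, Sylow.coe_subgroup_smul, Subgroup.mem_smul_pointwise_iff_exists]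
      exact ⟨_, hQ (mem_zpowers _), rfl⟩
    have e : ((c * ⟨w, hwC⟩ * c⁻¹ : ↥C) : G) = (c : G) * g * v * ((c : G) * g)⁻¹ := by
      push_cast; rw [hw]; group
    rw [← e]; exact h1
  refine ⟨(c : G) * g, hcw, fun e => hgne ?_⟩
  have hcv := mem_centralizer_singleton_iff.1 c.2
  calc g * v * g⁻¹ = (c : G)⁻¹ * ((c : G) * g * v * ((c : G) * g)⁻¹) * c := by group
    _ = (c : G)⁻¹ * (v * c) := by rw [e, mul_assoc]
    _ = v := by rw [← hcv, inv_mul_cancel_left]

theorem isConj_of_mem [IsSimpleGroup G] (hG : ¬ IsMulCommutative G) {u w : G} (hu : u ∈ U) (hu1 : u ≠ 1)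
    (hw : w ∈ U) (hw1 : w ≠ 1) : IsConj u w := by
  by_contra hne
  obtain ⟨k, hk, hku⟩ := h.exists_conj_ne hG hu hu1
  obtain ⟨l, hl, hlw⟩ := h.exists_conj_ne hG hw hw1
  have hkU := h.mem_of_conj hu hk
  have hlU := h.mem_of_conj hw hl
  have hkc : IsConj u (k * u * k⁻¹) := isConj_iff.2 ⟨k, rfl⟩
  have hlc : IsConj w (l * w * l⁻¹) := isConj_iff.2 ⟨l, rfl⟩
  have d1 : w ≠ u := fun e => hne (e ▸ IsConj.refl _)
  have d2 : k * u * k⁻¹ ≠ w := fun e => hne (e ▸ hkc)
  have d3 : l * w * l⁻¹ ≠ u := fun e => hne (e ▸ hlc).symm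
  have d4 : l * w * l⁻¹ ≠ k * u * k⁻¹ := fun e => hne (hkc.trans (e ▸ hlc).symm)
  have e1 : k * u * k⁻¹ ≠ 1 := fun e => hu1 (conj_eq_one_iff.1 e)
  have e2 : l * w * l⁻¹ ≠ 1 := fun e => hw1 (conj_eq_one_iff.1 e)
  have hsub : ({1, u, w, k * u * k⁻¹, l * w * l⁻¹} : Set G) ⊆ U := by
    intro b hb
    rcases hb with rfl | rfl | rfl | rfl | rfl
    exacts [one_mem _, hu, hw, hkU, hlU]
  have hc := Set.ncard_le_ncard hsub (Set.toFinite _)
  rw [← Nat.card_coe_set_eq (U : Set G)] at hc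
  rw [show Nat.card ↥(U : Set G) = Nat.card U from rfl, h.cardU] at hc
  rw [Set.ncard_insert_of_notMem (by simp [Ne.symm hu1, Ne.symm hw1, Ne.symm e1, Ne.symm e2]),
    Set.ncard_insert_of_notMem (by simp [Ne.symm d1, Ne.symm hku, Ne.symm d3]),
    Set.ncard_insert_of_notMem (by simp [Ne.symm d2, Ne.symm hlw]),
    Set.ncard_pair (Ne.symm d4)] at hc
  omega

/-- The fusion is induced by an automorphism of order three modulo inner automorphisms, fixed point free on the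
elements outside `U`. -/
theorem exists_fusion [IsSimpleGroup G] (hG : ¬ IsMulCommutative G) (hI : Nilp G) :
    ∃ α : ↥(S : Subgroup G) →* ↥(S : Subgroup G),
      (∀ x : ↥(S : Subgroup G), IsConj (x : G) (α x)) ∧
      (∀ x : ↥(S : Subgroup G), (x : G) ∉ U → ((x⁻¹ * α x : ↥(S : Subgroup G)) : G) ∉ U) ∧
      (∃ s : ↥(S : Subgroup G), ∀ x, α (α (α x)) = s * x * s⁻¹) ∧
      ∀ x y : ↥(S : Subgroup G), IsConj (x : G) y →
        ∃ s : ↥(S : Subgroup G), y = s * x * s⁻¹ ∨ y = s * α x * s⁻¹ ∨ y = s * α (α x) * s⁻¹ := by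
  haveI : Fact (Nat.Prime 2) := ⟨Nat.prime_two⟩
  haveI : Nontrivial U := Finite.one_lt_card_iff_nontrivial.1 (by rw [h.cardU]; norm_num)
  obtain ⟨⟨v, hv⟩, hv1'⟩ := exists_ne (1 : U)
  have hv1 : v ≠ 1 := fun e => hv1' (Subtype.ext e)
  obtain ⟨g', hcw, hne'⟩ := h.exists_conj_ne hG hv hv1
  obtain ⟨a, haS, hav⟩ : ∃ a, (∀ s ∈ (S : Subgroup G), a * s * a⁻¹ ∈ (S : Subgroup G)) ∧
      a * v * a⁻¹ ≠ v := by
    obtain ⟨m, hm, hme⟩ := h.conj_normalizer hI (h.le hv) hcw
    exact ⟨m, hm, hme ▸ hne'⟩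
  set α : ↥(S : Subgroup G) →* ↥(S : Subgroup G) :=
    MonoidHom.mk' (fun x => ⟨a * (x : G) * a⁻¹, haS x x.2⟩)
      (fun x y => Subtype.ext (by push_cast; group)) with hα
  have hαv : ∀ x : ↥(S : Subgroup G), (α x : G) = a * (x : G) * a⁻¹ := fun _ => rfl
  have hnofix : ∀ u ∈ U, u ≠ 1 → a * u * a⁻¹ ≠ u := fun u hu hu1 e =>
    hav (by rw [h.centralizes_of_fix haS hu hu1 e v hv, mul_inv_cancel_right])
  set v1 := a * v * a⁻¹ with hv1def
  have hv1U : v1 ∈ U := h.mem_of_conj hv (haS v (h.le hv))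
  have hv11 : v1 ≠ 1 := fun e => hv1 (conj_eq_one_iff.1 e)
  set v2 := a * v1 * a⁻¹ with hv2def
  have hv2U : v2 ∈ U := h.mem_of_conj hv1U (haS v1 (h.le hv1U))
  have hv21 : v2 ≠ 1 := fun e => hv11 (conj_eq_one_iff.1 e)
  have h12 : v2 ≠ v1 := hnofix v1 hv1U hv11
  have h02 : v2 ≠ v := by
    intro e
    have hne : v * v1 ≠ 1 := fun e' => hnofix v hv hv1 (by
      rw [← hv1def, ← mul_one v1, ← (h.mem_iff v (h.le hv)).1 hv, ← mul_assoc,
        ← h.central v1 hv1U v (h.le hv), e', one_mul])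
    refine hnofix (v * v1) (mul_mem hv hv1U) hne ?_
    calc a * (v * v1) * a⁻¹ = v1 * v2 := by rw [hv2def, hv1def]; group
      _ = v * v1 := by rw [e]; exact (h.central v1 hv1U v (h.le hv)).symm
  have hall : ∀ w ∈ U, w = 1 ∨ w = v ∨ w = v1 ∨ w = v2 := by
    intro w hw
    by_contra hcon
    simp only [not_or] at hcon
    obtain ⟨w1, w2, w3, w4⟩ := hcon
    have hsub : ({1, v, v1, v2, w} : Set G) ⊆ U := by
      intro b hb
      rcases hb with rfl | rfl | rfl | rfl | rfl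
      exacts [one_mem _, hv, hv1U, hv2U, hw]
    have hc := Set.ncard_le_ncard hsub (Set.toFinite _)
    rw [← Nat.card_coe_set_eq (U : Set G)] at hc
    rw [show Nat.card ↥(U : Set G) = Nat.card U from rfl, h.cardU] at hc
    rw [Set.ncard_insert_of_notMem (by simp [Ne.symm hv1, Ne.symm hv11, Ne.symm hv21, Ne.symm w1]),
      Set.ncard_insert_of_notMem (by simp [Ne.symm (show v1 ≠ v from hav), Ne.symm h02, Ne.symm w2]),
      Set.ncard_insert_of_notMem (by simp [Ne.symm h12, Ne.symm w3]),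
      Set.ncard_pair (Ne.symm w4)] at hc
    omega
  refine ⟨α, fun x => isConj_iff.2 ⟨a, (hαv x).symm⟩, ?_, ?_, ?_⟩
  · intro x hxU hmem
    set w := ((x⁻¹ * α x : ↥(S : Subgroup G)) : G) with hw
    have e1 : a * (x : G) * a⁻¹ = (x : G) * w := by
      rw [hw]; push_cast; rw [mul_inv_cancel_left, hαv]
    have e2 : a * ((x : G) * (x : G)) * a⁻¹ = (x : G) * (x : G) := by
      calc a * ((x : G) * (x : G)) * a⁻¹ = (x : G) * w * ((x : G) * w) := by rw [← e1]; group
        _ = (x : G) * ((w * (x : G)) * w) := by group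
        _ = (x : G) * ((x : G) * (w * w)) := by rw [← h.central w hmem x x.2, mul_assoc]
        _ = _ := by rw [(h.mem_iff w (h.le hmem)).1 hmem, mul_one]
    exact hnofix _ (h.sq_mem x x.2) (h.sq_ne_one x.2 hxU) e2
  · -- the cube centralizes `U`
    have hm3 : ∀ s ∈ (S : Subgroup G), a * a * a * s * (a * a * a)⁻¹ ∈ (S : Subgroup G) := fun s hs => by
      rw [show a * a * a * s * (a * a * a)⁻¹ = a * (a * (a * s * a⁻¹) * a⁻¹) * a⁻¹ by group]
      exact haS _ (haS _ (haS _ hs))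
    have h3 : a * a * a * v * (a * a * a)⁻¹ = v := by
      have e : a * a * a * v * (a * a * a)⁻¹ = a * v2 * a⁻¹ := by rw [hv2def, hv1def]; group
      rw [e]
      rcases hall _ (h.mem_of_conj hv2U (haS v2 (h.le hv2U))) with e' | e' | e' | e'
      · exact absurd (conj_eq_one_iff.1 e') hv21
      · exact e'
      · exact absurd (mul_left_cancel (mul_right_cancel (e'.trans hv1def))) h02
      · exact absurd e' (hnofix v2 hv2U hv21)
    obtain ⟨s, hs, hse⟩ := h.inner_of_centralizes hI (h.centralizes_of_fix hm3 hv hv1 h3)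
    refine ⟨⟨s, hs⟩, fun x => Subtype.ext ?_⟩
    push_cast
    rw [← hse x x.2 (hm3 x x.2), hαv, hαv, hαv]
    group
  · intro x y hxy
    obtain ⟨k, hk⟩ := isConj_iff.1 hxy
    obtain ⟨m, hm, hme⟩ := h.conj_normalizer hI (g := k) x.2 (by rw [hk]; exact y.2)
    rw [hk] at hme
    have hmv : m * v * m⁻¹ ∈ U := h.mem_of_conj hv (hm v (h.le hv))
    -- a power of `a` agreeing with `m` on `v`
    have key : ∀ b : G, (∀ z : ↥(S : Subgroup G), b * (z : G) * b⁻¹ ∈ (S : Subgroup G)) →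
        b * v * b⁻¹ = m * v * m⁻¹ → ∀ β : ↥(S : Subgroup G), b * (x : G) * b⁻¹ = β →
        ∃ s : ↥(S : Subgroup G), y = s * β * s⁻¹ := by
      intro b hb hbv β hβ
      set c := m * b⁻¹ with hc
      have hcS : ∀ s ∈ (S : Subgroup G), c * s * c⁻¹ ∈ (S : Subgroup G) := by
        intro s hs
        have hsurj : Function.Surjective (fun z : ↥(S : Subgroup G) =>
            (⟨b * (z : G) * b⁻¹, hb z⟩ : ↥(S : Subgroup G))) :=
          Finite.surjective_of_injective fun p q e => Subtype.ext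
            (mul_left_cancel (mul_right_cancel (congrArg Subtype.val e)))
        obtain ⟨z, hz⟩ := hsurj ⟨s, hs⟩
        rw [← show b * (z : G) * b⁻¹ = s from congrArg Subtype.val hz,
          show c * (b * (z : G) * b⁻¹) * c⁻¹ = m * z * m⁻¹ by rw [hc]; group]
        exact hm z z.2
      have hfix : c * (m * v * m⁻¹) * c⁻¹ = m * v * m⁻¹ := by
        conv_lhs => rw [← hbv]
        rw [hc]; group
      obtain ⟨s, hs, hse⟩ := h.inner_of_centralizes hI
        (h.centralizes_of_fix hcS hmv (fun e => hv1 (conj_eq_one_iff.1 e)) hfix)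
      refine ⟨⟨s, hs⟩, Subtype.ext ?_⟩
      push_cast
      rw [← hse β β.2 (hcS β β.2), ← hme, ← hβ, hc]
      group
    rcases hall _ hmv with e | e | e | e
    · exact absurd (conj_eq_one_iff.1 e) hv1
    · obtain ⟨s, hs⟩ := key 1 (fun z => by simp) (by rw [e]; simp) x (by simp)
      exact ⟨s, Or.inl hs⟩
    · obtain ⟨s, hs⟩ := key a (fun z => haS z z.2) e.symm (α x) (hαv x).symm
      exact ⟨s, Or.inr (Or.inl hs)⟩
    · obtain ⟨s, hs⟩ := key (a * a) (fun z => by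
        rw [show a * a * (z : G) * (a * a)⁻¹ = a * (a * z * a⁻¹) * a⁻¹ by group]
        exact haS _ (haS z z.2)) (by rw [e, hv2def, hv1def]; group) (α (α x))
        (by rw [hαv, hαv]; group)
      exact ⟨s, Or.inr (Or.inr hs)⟩

end UFour

end CfsgLib.TwoNilp
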