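import Cfsg.Agent.Lib.CIT.TwoNilp.UFour.Five
import Cfsg.Agent.Lib.CIT.TwoNilp.UFour.Elem16
import Cfsg.Agent.Lib.CIT.TwoNilp.UFour.Fusion
import Cfsg.Agent.Lib.CIT.UFourFive.Defs

/-!
# The centralizers of the involutions when the Sylow subgroup has unitary type

In a simple group the centralizer of an involution `u` of `U` is the odd core times the centralizer of `U`,
and the latter is `S` extended by an automorphism of order one or five modulo its core. So either all
involution centralizers are two-nilpotent or the hypothesis `FiveLocal` holds.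
-/

set_option autoImplicit false
set_option linter.style.haveILetI false

open Subgroup
open CfsgLib.UFourFive (coreC FiveLocal)

namespace CfsgLib.TwoNilp

universe u

variable {G : Type u} [Group G]

/-- Build the sixteen data from an automizer generated by one element of fifth power one. -/
theorem Sixteen.of_pow_five {W : Type u} [Group W] [Finite W] {E : Sylow 2 W}
    (hcard : Nat.card (E : Subgroup W) = 16) (hexp : ∀ e ∈ (E : Subgroup W), e * e = 1)
    (hfree : ∀ w ∈ normalizer ((E : Subgroup W) : Set W), ∀ e ∈ (E : Subgroup W), e ≠ 1 → w * e = e * w →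
      ∀ x ∈ (E : Subgroup W), w * x = x * w)
    (hfive : ∀ w ∈ normalizer ((E : Subgroup W) : Set W), ∀ x ∈ (E : Subgroup W), w ^ 5 * x = x * w ^ 5)
    (hgen : ∃ f ∈ normalizer ((E : Subgroup W) : Set W), ∀ w ∈ normalizer ((E : Subgroup W) : Set W),
      ∃ i : ℕ, ∀ x ∈ (E : Subgroup W), w * x * w⁻¹ = f ^ i * x * (f ^ i)⁻¹) :
    Sixteen E := by
  haveI : Fact (Nat.Prime 2) := ⟨Nat.prime_two⟩
  haveI : Fact (Nat.Prime 5) := ⟨by norm_num⟩
  refine ⟨hcard, hexp, hfree, ?_, ?_⟩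
  · intro w hw ⟨x0, hx0, hwx0⟩ D hD hinv
    have hsurj : Function.Surjective (fun d : ↥D => (⟨w * (d : W) * w⁻¹, hinv d d.2⟩ : ↥D)) :=
      Finite.surjective_of_injective fun a b e =>
        Subtype.ext (mul_left_cancel (mul_right_cancel (congrArg Subtype.val e)))
    have hinj : Function.Injective (fun d : ↥D => (⟨w * (d : W) * w⁻¹, hinv d d.2⟩ : ↥D)) := fun a b e =>
        Subtype.ext (mul_left_cancel (mul_right_cancel (congrArg Subtype.val e)))
    let τ : Equiv.Perm ↥D := Equiv.ofBijective _ ⟨hinj, hsurj⟩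
    have hτ : ∀ d : ↥D, ((τ d : ↥D) : W) = w * (d : W) * w⁻¹ := fun d => rfl
    have hτn : ∀ (n : ℕ) (d : ↥D), (((τ ^ n) d : ↥D) : W) = w ^ n * (d : W) * (w ^ n)⁻¹ := by
      intro n
      induction n with
      | zero => intro d; simp
      | succ n ih =>
        intro d
        rw [pow_succ', Equiv.Perm.mul_apply, hτ, ih, pow_succ' w]
        group
    have hτ5 : τ ^ 5 = 1 := Equiv.ext fun d => Subtype.ext (by
      rw [hτn, hfive w hw d (hD d.2), mul_inv_cancel_right]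
      rfl)
    have hP : IsPGroup 5 ↥(zpowers τ) := fun ⟨y, hy⟩ => ⟨1, by
      obtain ⟨i, rfl⟩ := hy
      refine Subtype.ext ?_
      push_cast
      rw [← zpow_natCast, ← zpow_mul, mul_comm, zpow_mul, zpow_natCast, hτ5, one_zpow]⟩
    have hfix : MulAction.fixedPoints ↥(zpowers τ) ↥D = {(1 : ↥D)} := by
      ext d
      rw [MulAction.mem_fixedPoints, Set.mem_singleton_iff]
      constructor
      · intro hd
        by_contra hd1
        refine hwx0 (hfree w hw d (hD d.2) (fun e => hd1 (Subtype.ext e)) ?_ x0 hx0)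
        have e0 : τ d = d := hd ⟨τ, mem_zpowers τ⟩
        have e := congrArg Subtype.val e0
        rw [hτ] at e
        exact mul_inv_eq_iff_eq_mul.1 e
      · rintro rfl ⟨σ, hσ⟩
        obtain ⟨i, rfl⟩ := hσ
        show (τ ^ i) (1 : ↥D) = 1
        have h1 : τ (1 : ↥D) = 1 := Subtype.ext (by rw [hτ]; simp)
        exact Equiv.Perm.zpow_apply_eq_self_of_apply_eq_self h1 i
    have hmod := hP.card_modEq_card_fixedPoints ↥D
    rw [hfix, show Nat.card ↥({(1 : ↥D)} : Set ↥D) = 1 by simp] at hmod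
    have hd := card_dvd_of_le hD
    rw [hcard, show 16 = 2 ^ 4 by norm_num] at hd
    obtain ⟨k, hk, hDk⟩ := (Nat.dvd_prime_pow Nat.prime_two).1 hd
    rw [hDk] at hmod
    interval_cases k
    · left; exact card_eq_one.1 (by rw [hDk]; norm_num)
    · exact absurd hmod (by decide)
    · exact absurd hmod (by decide)
    · exact absurd hmod (by decide)
    · right; exact eq_of_le_of_card_ge hD (by rw [hDk, hcard]; norm_num)
  · intro e he
    classical
    obtain ⟨f, hf, hgen⟩ := hgen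
    refine ⟨(Finset.range 5).image fun i => f ^ i * e * (f ^ i)⁻¹,
      le_trans Finset.card_image_le (by simp), fun w hw => ?_⟩
    obtain ⟨i, hi⟩ := hgen w hw
    refine Finset.mem_image.2 ⟨i % 5, Finset.mem_range.2 (Nat.mod_lt _ (by norm_num)), ?_⟩
    rw [hi e he]
    conv_rhs => rw [← Nat.mod_add_div i 5, pow_add, pow_mul]
    have hc : ∀ j : ℕ, (f ^ 5) ^ j * e = e * (f ^ 5) ^ j := fun j =>
      (Commute.pow_left (hfive f hf e he) j).eq
    rw [show f ^ (i % 5) * (f ^ 5) ^ (i / 5) * e * (f ^ (i % 5) * (f ^ 5) ^ (i / 5))⁻¹ =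
      f ^ (i % 5) * ((f ^ 5) ^ (i / 5) * e * ((f ^ 5) ^ (i / 5))⁻¹) * (f ^ (i % 5))⁻¹ by group,
      hc, mul_inv_cancel_right]

namespace UFour

variable [Finite G] {S : Sylow 2 G} {U : Subgroup G} (h : UFour S U)

include h

theorem exists_conj_mem {t : G} (ht : orderOf t = 2) : ∃ g : G, g * t * g⁻¹ ∈ U ∧ g * t * g⁻¹ ≠ 1 := by
  haveI : Fact (Nat.Prime 2) := ⟨Nat.prime_two⟩
  obtain ⟨g, hg⟩ := CfsgLib.Invol.exists_conj_le_sylow
    (IsPGroup.of_card (n := 1) (by rw [Nat.card_zpowers, ht, pow_one]) : IsPGroup 2 ↥(zpowers t)) S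
  refine ⟨g, h.orderOf_mem (hg t (mem_zpowers t)) (by rw [CfsgLib.CIT.orderOf_conj_eq, ht]), fun e => ?_⟩
  rw [conj_eq_one_iff] at e
  rw [e, orderOf_one] at ht
  omega

/-- In a simple group all involutions are conjugate. -/
theorem isConj_of_orderOf_two [IsSimpleGroup G] (hG : ¬ IsMulCommutative G) {s t : G} (hs : orderOf s = 2)
    (ht : orderOf t = 2) : IsConj s t := by
  obtain ⟨g, hgU, hg1⟩ := h.exists_conj_mem hs
  obtain ⟨k, hkU, hk1⟩ := h.exists_conj_mem ht
  exact ((isConj_iff.2 ⟨g, rfl⟩ : IsConj s _).trans (h.isConj_of_mem hG hgU hg1 hkU hk1)).trans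
    (isConj_iff.2 ⟨k, rfl⟩ : IsConj t _).symm

/-- The centralizer of `u` is its odd core times the centralizer of `U`. -/
theorem exists_core_mul {u : G} (hu : u ∈ U) (hu1 : u ≠ 1) {g : G} (hg : g * u = u * g) :
    ∃ o ∈ coreC u, ∃ c ∈ centralizer (U : Set G), g = o * c := by
  haveI : Fact (Nat.Prime 2) := ⟨Nat.prime_two⟩
  obtain ⟨v, hv, hv1, hvu, hspan⟩ : ∃ v ∈ U, v ≠ 1 ∧ v ≠ u ∧
      ∀ c : G, c * u = u * c → c * v = v * c → c ∈ centralizer (U : Set G) := by
    obtain ⟨v, hv, hv1, hvu⟩ : ∃ v ∈ U, v ≠ 1 ∧ v ≠ u := by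
      by_contra hcon
      simp only [not_exists, not_and, not_not] at hcon
      have hsub : (U : Set G) ⊆ {1, u} := fun x hx => by
        by_cases hx1 : x = 1
        · exact Or.inl hx1
        · exact Or.inr (hcon x hx hx1)
      have := Set.ncard_le_ncard hsub (Set.toFinite _)
      rw [← Nat.card_coe_set_eq, show Nat.card ↥(U : Set G) = Nat.card U from rfl, h.cardU] at this
      have := Set.ncard_le_ncard_diff_add_ncard ({1, u} : Set G) {1} (Set.toFinite _)
      have h2 := Set.ncard_pair (Ne.symm hu1)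
      omega
    refine ⟨v, hv, hv1, hvu, fun c hcu hcv => ?_⟩
    refine mem_centralizer_iff.2 fun w hw => ?_
    have huv : u * v ≠ 1 := fun e => hvu (by
      rw [← one_mul v, ← (h.mem_iff u (h.le hu)).1 hu, mul_assoc, e, mul_one])
    by_contra hne
    have hsub : ({1, u, v, u * v, w} : Set G) ⊆ U := by
      intro b hb
      rcases hb with rfl | rfl | rfl | rfl | rfl
      exacts [one_mem _, hu, hv, mul_mem hu hv, hw]
    have hc := Set.ncard_le_ncard hsub (Set.toFinite _)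
    rw [← Nat.card_coe_set_eq (U : Set G)] at hc
    rw [show Nat.card ↥(U : Set G) = Nat.card U from rfl, h.cardU] at hc
    have w1 : w ≠ 1 := fun e => hne (by rw [e]; simp)
    have w2 : w ≠ u := fun e => hne (by rw [e]; exact hcu.symm)
    have w3 : w ≠ v := fun e => hne (by rw [e]; exact hcv.symm)
    have w4 : w ≠ u * v := fun e => hne (by
      rw [e, mul_assoc, ← hcv, ← mul_assoc, ← hcu, mul_assoc])
    rw [Set.ncard_insert_of_notMem (by simp [Ne.symm hu1, Ne.symm hv1, Ne.symm huv, Ne.symm w1]),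
      Set.ncard_insert_of_notMem (by simp [Ne.symm hvu, Ne.symm w2, hv1]),
      Set.ncard_insert_of_notMem (by simp [hu1, Ne.symm w3]),
      Set.ncard_pair (Ne.symm w4)] at hc
    omega
  set C := centralizer ({u} : Set G) with hC
  have hSC : (S : Subgroup G) ≤ C := h.le_centralizer hu
  set vC : ↥C := ⟨v, hSC (h.le hv)⟩ with hvC
  have hiso : Cfsg.IsIsolatedInvolution vC := by
    refine ⟨by rw [Subgroup.orderOf_mk]; exact h.orderOf_eq_two hv hv1, fun x hx => ?_⟩
    refine Subtype.ext ?_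
    have hxu : (x : G) * u = u * (x : G) := mem_centralizer_singleton_iff.1 x.2
    set w := (x : G) * v * (x : G)⁻¹ with hw
    have hxw : v * w = w * v := congrArg Subtype.val hx
    show w = v
    -- conjugate `w` into `S` by an element centralizing `u` and `v`
    set D := centralizer ({u} : Set G) ⊓ centralizer ({v} : Set G) with hD
    have hSD : (S : Subgroup G) ≤ D := le_inf (h.le_centralizer hu) (h.le_centralizer hv)
    have hwD : w ∈ D := ⟨mem_centralizer_singleton_iff.2 (by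
      rw [hw]
      calc (x : G) * v * (x : G)⁻¹ * u = (x : G) * (v * ((x : G)⁻¹ * u * x)) * (x : G)⁻¹ := by group
        _ = (x : G) * (v * u) * (x : G)⁻¹ := by rw [mul_assoc (x : G)⁻¹, ← hxu, inv_mul_cancel_left]
        _ = (x : G) * (u * v) * (x : G)⁻¹ := by rw [h.central u hu v (h.le hv)]
        _ = u * ((x : G) * v * (x : G)⁻¹) := by rw [← mul_assoc (x : G), hxu]; group),
      mem_centralizer_singleton_iff.2 hxw.symm⟩
    have hw2 : w ^ 2 = 1 := by
      rw [hw, conj_pow, sq, (h.mem_iff v (h.le hv)).1 hv, mul_one, mul_inv_cancel]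
    have hzp : IsPGroup 2 ↥(zpowers (⟨w, hwD⟩ : ↥D)) := fun ⟨y, hy⟩ => ⟨1, by
      obtain ⟨i, rfl⟩ := hy
      refine Subtype.ext (Subtype.ext ?_)
      push_cast
      rw [← zpow_natCast, ← zpow_mul, mul_comm, zpow_mul, zpow_natCast, hw2, one_zpow]⟩
    obtain ⟨c, hc⟩ := CfsgLib.Invol.exists_conj_le_sylow hzp (S.subtype hSD)
    have hcS : (c : G) * (x : G) * v * ((c : G) * (x : G))⁻¹ ∈ (S : Subgroup G) := by
      have h1 : (c : G) * w * (c : G)⁻¹ ∈ (S : Subgroup G) := hc _ (mem_zpowers _)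
      rwa [hw, show (c : G) * ((x : G) * v * (x : G)⁻¹) * (c : G)⁻¹ =
        (c : G) * (x : G) * v * ((c : G) * (x : G))⁻¹ by group] at h1
    set y := (c : G) * (x : G) with hy
    set v' := y * v * y⁻¹ with hv'
    have hv'U : v' ∈ U := h.mem_of_conj hv hcS
    have hyu : y * u = u * y := by
      rw [hy, mul_assoc, hxu, ← mul_assoc, mem_centralizer_singleton_iff.1 c.2.1, mul_assoc]
    -- an element normalizing `S` with the same effect
    set D' := centralizer ({u} : Set G) ⊓ centralizer ({v'} : Set G) with hD'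
    have hSD' : (S : Subgroup G) ≤ D' := le_inf (h.le_centralizer hu) (h.le_centralizer hv'U)
    have hyS : ((y • S : Sylow 2 G) : Subgroup G) ≤ D' := by
      rw [Sylow.coe_subgroup_smul]
      intro z hz
      rw [Subgroup.mem_smul_pointwise_iff_exists] at hz
      obtain ⟨s, hs, rfl⟩ := hz
      show y * s * y⁻¹ ∈ D'
      refine ⟨mem_centralizer_singleton_iff.2 ?_, mem_centralizer_singleton_iff.2 ?_⟩
      · calc y * s * y⁻¹ * u = y * (s * (y⁻¹ * u * y)) * y⁻¹ := by group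
          _ = y * (s * u) * y⁻¹ := by rw [mul_assoc y⁻¹, ← hyu, inv_mul_cancel_left]
          _ = y * (u * s) * y⁻¹ := by rw [h.central u hu s hs]
          _ = u * (y * s * y⁻¹) := by rw [← mul_assoc y, hyu]; group
      · rw [hv']
        calc y * s * y⁻¹ * (y * v * y⁻¹) = y * (s * v) * y⁻¹ := by group
          _ = y * (v * s) * y⁻¹ := by rw [h.central v hv s hs]
          _ = _ := by group
    obtain ⟨k, hk⟩ := MulAction.exists_smul_eq ↥D' ((y • S).subtype hyS) (S.subtype hSD')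
    have hm : ∀ s ∈ (S : Subgroup G), (k : G) * y * s * ((k : G) * y)⁻¹ ∈ (S : Subgroup G) := by
      intro s hs
      have hmem : y * s * y⁻¹ ∈ ((y • S : Sylow 2 G) : Subgroup G) := by
        rw [Sylow.coe_subgroup_smul, Subgroup.mem_smul_pointwise_iff_exists]; exact ⟨s, hs, rfl⟩
      have h1 : k * ⟨y * s * y⁻¹, hyS hmem⟩ * k⁻¹ ∈ ((S.subtype hSD' : Sylow 2 ↥D') : Subgroup ↥D') := by
        rw [← hk, Sylow.coe_subgroup_smul, Subgroup.mem_smul_pointwise_iff_exists]
        exact ⟨_, hmem, rfl⟩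
      rw [show (k : G) * y * s * ((k : G) * y)⁻¹ = (k : G) * (y * s * y⁻¹) * (k : G)⁻¹ by group]
      exact h1
    have hku := mem_centralizer_singleton_iff.1 k.2.1
    have hkv := mem_centralizer_singleton_iff.1 k.2.2
    have hfix : (k : G) * y * u * ((k : G) * y)⁻¹ = u := by
      rw [mul_assoc (k : G), hyu, ← mul_assoc, hku, mul_assoc u, mul_inv_cancel_right]
    have hfv := h.centralizes_of_fix hm hu hu1 hfix v hv
    have hv'v : v' = v := by
      have e1 : (k : G) * y * v * ((k : G) * y)⁻¹ = v := by rw [hfv, mul_inv_cancel_right]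
      have e2 : (k : G) * v' * (k : G)⁻¹ = v :=
        (show (k : G) * v' * (k : G)⁻¹ = (k : G) * y * v * ((k : G) * y)⁻¹ by rw [hv']; group).trans e1
      rwa [hkv, mul_inv_cancel_right] at e2
    have hcv := mem_centralizer_singleton_iff.1 c.2.2
    calc w = (c : G)⁻¹ * (y * v * y⁻¹) * c := by rw [hw, hy]; group
      _ = (c : G)⁻¹ * (v * c) := by rw [← hv', hv'v, mul_assoc]
      _ = v := by rw [← hcv, inv_mul_cancel_left]
  have hz := CfsgLib.Invol.zstar hiso
  set gC : ↥C := ⟨g, mem_centralizer_singleton_iff.2 hg⟩ with hgC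
  set K := Cfsg.pPrimeCore 2 ↥C with hK
  set o := vC * gC * vC⁻¹ * gC⁻¹ with ho
  have hoK : o ∈ K := hz gC
  have hodd : Odd (orderOf o) := (Nat.odd_iff.2 (Nat.two_dvd_ne_zero.1
    (CfsgLib.Coprime.pPrimeCore_not_dvd Nat.prime_two))).of_dvd_nat (Subgroup.orderOf_dvd_natCard K hoK)
  obtain ⟨r, hr⟩ := exists_pow_eq_self_of_coprime (Nat.coprime_two_left.2 hodd)
  have hv2 : vC * vC = 1 := Subtype.ext ((h.mem_iff v (h.le hv)).1 hv)
  have hvinv : vC⁻¹ = vC := inv_eq_of_mul_eq_one_right hv2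
  have hov : vC * o * vC⁻¹ = o⁻¹ := by
    rw [ho]
    calc vC * (vC * gC * vC⁻¹ * gC⁻¹) * vC⁻¹ = (vC * vC) * gC * vC⁻¹ * gC⁻¹ * vC⁻¹ := by group
      _ = gC * vC * gC⁻¹ * vC⁻¹ := by rw [hv2, one_mul, hvinv]
      _ = _ := by group
  set k := o ^ r with hkdef
  have hk2 : k * k = o := by rw [hkdef, ← pow_add, ← two_mul, pow_mul]; exact hr
  have hkv : vC * k * vC⁻¹ = k⁻¹ := by rw [hkdef, ← conj_pow, hov, inv_pow]
  have hkK : k ∈ K := pow_mem hoK r
  -- `o = [v, g]`, so `g` times a power of `o` centralizes `v`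
  have hc : vC * (k * gC) * vC⁻¹ = k * gC := by
    calc vC * (k * gC) * vC⁻¹ = (vC * k * vC⁻¹) * (vC * gC * vC⁻¹ * gC⁻¹) * gC := by group
      _ = k⁻¹ * o * gC := by rw [hkv, ho]
      _ = k * gC := by rw [← hk2, inv_mul_cancel_left]
  refine ⟨((k⁻¹ : ↥C) : G), ⟨k⁻¹, inv_mem hkK, rfl⟩, ((k * gC : ↥C) : G), hspan _
    (mem_centralizer_singleton_iff.1 (k * gC).2) (congrArg Subtype.val (mul_inv_eq_iff_eq_mul.1 hc)).symm, ?_⟩
  push_cast
  rw [inv_mul_cancel_left]

/-- Every element of the centralizer of `U` is an odd element of the normal part times one of the normalizer. -/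
theorem exists_core_mul_autN {u : G} (hu : u ∈ U) (hu1 : u ≠ 1) {g : G} (hg : g * u = u * g) :
    ∃ o ∈ coreC u, ∃ n ∈ autN S U, g = o * n := by
  haveI : Fact (Nat.Prime 2) := ⟨Nat.prime_two⟩
  haveI : Fact (Nat.Prime 5) := ⟨by norm_num⟩
  set CU := centralizer (U : Set G) with hCU
  have hSCU : (S : Subgroup G) ≤ CU := fun s hs => mem_centralizer_iff.2 fun u hu => (h.central u hu s hs).symm
  set Uc : Subgroup ↥CU := U.subgroupOf CU with hUc
  haveI hUn : Uc.Normal := ⟨fun x hx y => by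
    have hx' : (x : G) ∈ U := hx
    show ((y * x * y⁻¹ : ↥CU) : G) ∈ U
    push_cast
    rw [← mem_centralizer_iff.1 y.2 _ hx', mul_inv_cancel_right]
    exact hx'⟩
  set π := QuotientGroup.mk' Uc with hπ
  set E : Sylow 2 (↥CU ⧸ Uc) := (S.subtype hSCU).mapSurjective (QuotientGroup.mk'_surjective Uc) with hE
  have hEc : (E : Subgroup (↥CU ⧸ Uc)) = ((S.subtype hSCU : Sylow 2 ↥CU) : Subgroup ↥CU).map π :=
    Sylow.coe_mapSurjective _ _
  have hπ1 : ∀ a : ↥CU, π a = 1 ↔ (a : G) ∈ U := fun a => QuotientGroup.eq_one_iff a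
  have hπeq : ∀ a b : ↥CU, π a = π b ↔ (a : G)⁻¹ * b ∈ U := fun a b => by
    rw [← inv_mul_eq_one, ← map_inv, ← map_mul, hπ1]
    push_cast
    exact Iff.rfl
  have hmemE : ∀ a : ↥CU, π a ∈ (E : Subgroup (↥CU ⧸ Uc)) ↔ (a : G) ∈ (S : Subgroup G) := by
    intro a
    rw [hEc]
    constructor
    · rintro ⟨s, hs, e⟩
      have hs' : (s : G) ∈ (S : Subgroup G) := hs
      have := mul_mem hs' (h.le ((hπeq s a).1 e))
      rwa [mul_inv_cancel_left] at this
    · exact fun ha => ⟨a, ha, rfl⟩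
  have hlift : ∀ w ∈ normalizer ((E : Subgroup (↥CU ⧸ Uc)) : Set (↥CU ⧸ Uc)), ∀ a : ↥CU, π a = w →
      (a : G) ∈ autN S U := by
    intro w hw a ha
    refine mem_autN ⟨fun s hs => ?_, fun x hx => (mem_centralizer_iff.1 a.2 x hx).symm⟩
    have := (mem_normalizer_iff.1 hw _).1 ((hmemE ⟨s, hSCU hs⟩).2 hs)
    rw [← ha, ← map_inv, ← map_mul, ← map_mul, hmemE] at this
    exact this
  have hconjE : ∀ (a : ↥CU) (b : ↥CU), π a * π b = π b * π a ↔ (b : G)⁻¹ * ((a : G) * b * (a : G)⁻¹) ∈ U := by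
    intro a b
    rw [← mul_inv_eq_iff_eq_mul, ← map_mul, ← map_inv, ← map_mul, eq_comm, hπeq]
    push_cast
    exact Iff.rfl
  have htriv : ∀ a : ↥CU, (a : G) ∈ autN S U → TrivMod S U (a : G) →
      ∀ x ∈ (E : Subgroup (↥CU ⧸ Uc)), π a * x = x * π a := by
    intro a _ ht x hx
    obtain ⟨b, rfl⟩ := QuotientGroup.mk'_surjective Uc x
    exact (hconjE a b).2 (ht b ((hmemE b).1 hx))
  have h16 : Sixteen E := by
    refine Sixteen.of_pow_five ?_ ?_ ?_ ?_ ?_
    · let f : ↥(S : Subgroup G) →* ↥CU ⧸ Uc := π.comp (Subgroup.inclusion hSCU)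
      have hr : f.range = (E : Subgroup (↥CU ⧸ Uc)) := by
        ext x
        constructor
        · rintro ⟨s, rfl⟩; exact (hmemE _).2 s.2
        · intro hx
          obtain ⟨b, rfl⟩ := QuotientGroup.mk'_surjective Uc x
          exact ⟨⟨b, (hmemE b).1 hx⟩, rfl⟩
      have hk : f.ker = U.subgroupOf (S : Subgroup G) := by
        ext s
        rw [MonoidHom.mem_ker, mem_subgroupOf]
        exact hπ1 _
      have h1 := f.ker.index_mul_card
      rw [index_ker, hr, hk, Nat.card_congr (subgroupOfEquivOfLe h.le).toEquiv, h.cardU, h.cardS] at h1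
      omega
    · intro e he
      obtain ⟨b, rfl⟩ := QuotientGroup.mk'_surjective Uc e
      rw [← map_mul, hπ1]
      exact h.sq_mem _ ((hmemE b).1 he)
    · intro w hw e he he1 hc
      obtain ⟨a, rfl⟩ := QuotientGroup.mk'_surjective Uc w
      obtain ⟨b, rfl⟩ := QuotientGroup.mk'_surjective Uc e
      have ha := hlift _ hw a rfl
      have hb := (hmemE b).1 he
      refine htriv a ha ((cosetPerm_eq_one_iff ⟨_, ha⟩).1 (h.cosetPerm_eq_one_of_fix ⟨_, ha⟩
        (x := ⟨b, hb⟩) (fun hbU => he1 ((hπ1 b).2 hbU)) ?_))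
      exact (cosetPerm_fix_iff _ _).2 ((hconjE a b).1 hc)
    · intro w hw
      obtain ⟨a, rfl⟩ := QuotientGroup.mk'_surjective Uc w
      have ha := hlift _ hw a rfl
      rw [← map_pow]
      refine htriv (a ^ 5) (pow_mem ha 5) ?_
      refine (cosetPerm_eq_one_iff ((⟨_, ha⟩ : ↥(autN S U)) ^ 5)).1 ?_
      rw [map_pow]; exact h.cosetPerm_pow_five _
    · obtain ⟨f, hfN, hfgen⟩ : ∃ f : ↥(autN S U), True ∧ ∀ n : ↥(autN S U),
          ∃ i : ℕ, cosetPerm S U (f ^ i) = cosetPerm S U n := by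
        by_cases hall : ∀ n : ↥(autN S U), cosetPerm S U n = 1
        · exact ⟨1, trivial, fun n => ⟨0, by rw [hall n, pow_zero, map_one]⟩⟩
        · simp only [not_forall] at hall
          obtain ⟨f, hf⟩ := hall
          exact ⟨f, trivial, h.exists_pow_cosetPerm hf⟩
      have hfCU : (f : G) ∈ CU := f.2.2
      refine ⟨π ⟨f, hfCU⟩, mem_normalizer_iff.2 fun y => ?_, fun w hw => ?_⟩
      · obtain ⟨b, rfl⟩ := QuotientGroup.mk'_surjective Uc y
        rw [← map_inv, ← map_mul, ← map_mul, hmemE, hmemE]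
        exact mem_normalizer_iff.1 f.2.1 b
      · obtain ⟨a, rfl⟩ := QuotientGroup.mk'_surjective Uc w
        have ha := hlift _ hw a rfl
        obtain ⟨i, hi⟩ := hfgen ⟨_, ha⟩
        refine ⟨i, fun x hx => ?_⟩
        obtain ⟨b, rfl⟩ := QuotientGroup.mk'_surjective Uc x
        have ht : TrivMod S U (((f : G) ^ i)⁻¹ * (a : G)) := by
          refine (cosetPerm_eq_one_iff ((f ^ i)⁻¹ * ⟨_, ha⟩)).1 ?_
          rw [map_mul, map_inv, hi, inv_mul_cancel]
        have := htriv ((⟨f, hfCU⟩ ^ i)⁻¹ * a) (by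
          push_cast
          exact mul_mem (inv_mem (pow_mem f.2 i)) ha) (by push_cast; exact ht) _ hx
        rw [map_mul, map_inv, map_pow] at this
        calc π a * π b * (π a)⁻¹
            = π ⟨f, hfCU⟩ ^ i * (((π ⟨f, hfCU⟩ ^ i)⁻¹ * π a) * π b) * (π a)⁻¹ := by group
          _ = π ⟨f, hfCU⟩ ^ i * (π b * ((π ⟨f, hfCU⟩ ^ i)⁻¹ * π a)) * (π a)⁻¹ := by rw [this]
          _ = _ := by rw [hπ]; group
  -- split `g`
  obtain ⟨o, ho, c, hc, hgoc⟩ := h.exists_core_mul hu hu1 hg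
  have hcW : π ⟨c, hc⟩ ∈ Cfsg.pPrimeCore 2 (↥CU ⧸ Uc) ⊔ normalizer ((E : Subgroup (↥CU ⧸ Uc)) : Set (↥CU ⧸ Uc)) := by
    rw [h16.eq_top]; exact mem_top _
  haveI hWn : (Cfsg.pPrimeCore 2 (↥CU ⧸ Uc)).Normal := by
    rw [CfsgLib.Coprime.pPrimeCore_eq_piCore Nat.prime_two]; infer_instance
  obtain ⟨p, hp, q, hq, hpq⟩ := mem_sup_of_normal_left.1 hcW
  obtain ⟨a, rfl⟩ := QuotientGroup.mk'_surjective Uc p
  -- the odd part of the preimage
  set X : Subgroup ↥CU := (Cfsg.pPrimeCore 2 (↥CU ⧸ Uc)).comap π with hX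
  have hXU : ∀ x ∈ X, (∃ k : ℕ, x ^ 2 ^ k = 1) → (x : G) ∈ U := fun x hx ⟨k, hk⟩ => by
    refine (hπ1 x).1 (CfsgLib.Invol.eq_one_of_odd_of_pow_two ?_ (k := k) (by rw [← map_pow, hk, map_one]))
    exact odd_card_pPrimeCore.of_dvd_nat (Subgroup.orderOf_dvd_natCard _ hx)
  have hXnil : Cfsg.HasNormalPComplement 2 ↥X := by
    obtain ⟨P⟩ : Nonempty (Sylow 2 ↥X) := inferInstance
    refine CfsgLib.Fusion.hasNormalPComplement_of_normalizer_le_centralizer P
      fun y _ => mem_centralizer_iff.2 fun z hz => ?_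
    obtain ⟨k, hk⟩ := P.isPGroup' ⟨z, hz⟩
    have hzU := hXU z z.2 ⟨k, by simpa using congrArg (fun w : ↥(P : Subgroup ↥X) => ((w : ↥X) : ↥CU)) hk⟩
    exact Subtype.ext (Subtype.ext (mem_centralizer_iff.1 (y : ↥CU).2 _ hzU))
  have haX : a ∈ X := hp
  -- odd elements of `X` lie in the core
  have hcore : ∀ x ∈ X, Odd (orderOf x) → (x : G) ∈ coreC u := by
    intro x hx hxo
    set C := centralizer ({u} : Set G) with hC
    have hle : CU ≤ C := fun y hy => mem_centralizer_singleton_iff.2 (mem_centralizer_iff.1 hy u hu).symm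
    haveI hKn : (Cfsg.pPrimeCore 2 ↥C).Normal := by
      rw [CfsgLib.Coprime.pPrimeCore_eq_piCore Nat.prime_two]; infer_instance
    let φ : ↥CU →* ↥C ⧸ Cfsg.pPrimeCore 2 ↥C :=
      (QuotientGroup.mk' _).comp (Subgroup.inclusion hle)
    have hφ : Function.Surjective φ := fun y => by
      obtain ⟨z, rfl⟩ := QuotientGroup.mk'_surjective _ y
      obtain ⟨o', ⟨oC, hoC, rfl⟩, c', hc', e⟩ := h.exists_core_mul hu hu1 (mem_centralizer_singleton_iff.1 z.2)
      refine ⟨⟨c', hc'⟩, ?_⟩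
      have hz : z = oC * ⟨c', hle hc'⟩ := Subtype.ext e
      show QuotientGroup.mk' _ (⟨c', hle hc'⟩ : ↥C) = _
      rw [hz, map_mul, (show QuotientGroup.mk' _ oC = 1 from (QuotientGroup.eq_one_iff oC).2 hoC), one_mul]
    haveI : X.Normal := hWn.comap π
    have hR : (⟨x, hx⟩ : ↥X) ∈ Cfsg.pPrimeCore 2 ↥X := by
      haveI := CfsgLib.Fusion.pResidual_normal (G := ↥X) (p := 2)
      refine CfsgLib.Coprime.le_pPrimeCore_of_not_dvd Nat.prime_two
        (CfsgLib.Fusion.hasNormalPComplement_iff_not_dvd.1 hXnil)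
        (CfsgLib.Fusion.mem_pResidual (Nat.coprime_two_right.2 ?_))
      rwa [Subgroup.orderOf_mk]
    have h1 : x ∈ Cfsg.pPrimeCore 2 ↥CU := by
      have := mem_map_of_mem X.subtype hR
      rw [CfsgLib.Coprime.pPrimeCore_map_subtype_eq Nat.prime_two X] at this
      exact this.1
    have h2 := CfsgLib.Coprime.map_pPrimeCore_le hφ 2 (mem_map_of_mem φ h1)
    rw [CfsgLib.Coprime.pPrimeCore_quotient_eq_bot Nat.prime_two, mem_bot] at h2
    exact ⟨_, (QuotientGroup.eq_one_iff _).1 h2, rfl⟩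
  obtain ⟨b, rfl⟩ := QuotientGroup.mk'_surjective Uc q
  -- write `a` as an odd element times an element of `U`
  set d := ordCompl[2] (orderOf a) with hd
  set j := (orderOf a).factorization 2 with hj
  have hdodd : Odd d := Nat.odd_iff.2 (Nat.two_dvd_ne_zero.1 (Nat.not_dvd_ordCompl Nat.prime_two (orderOf_pos a).ne'))
  have hadU : ((a ^ d : ↥CU) : G) ∈ U := hXU _ (pow_mem haX d) ⟨j, by
    rw [← pow_mul, hd, hj, mul_comm, Nat.ordProj_mul_ordCompl_eq_self, pow_orderOf_eq_one]⟩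
  have hbez : ((2 ^ j : ℕ) : ℤ) * Nat.gcdA (2 ^ j) d + (d : ℤ) * Nat.gcdB (2 ^ j) d = 1 := by
    have := Nat.gcd_eq_gcd_ab (2 ^ j) d
    rw [(Nat.Coprime.pow_left j (Nat.coprime_two_left.2 hdodd)).gcd_eq_one] at this
    exact_mod_cast this.symm
  have hae : a = (a ^ (2 ^ j)) ^ Nat.gcdA (2 ^ j) d * (a ^ d) ^ Nat.gcdB (2 ^ j) d := by
    rw [← zpow_natCast a (2 ^ j), ← zpow_mul, ← zpow_natCast a d, ← zpow_mul, ← zpow_add, hbez, zpow_one]
  have haodd : ((a ^ (2 ^ j) : ↥CU) : G) ∈ coreC u := by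
    refine hcore _ (pow_mem haX _) ?_
    rw [hj, orderOf_pow_of_dvd (pow_ne_zero _ two_ne_zero) (Nat.ordProj_dvd _ _)]
    exact hdodd
  -- assemble
  have hbN : (b : G) ∈ autN S U := hlift _ hq b rfl
  have hUa : ∀ x ∈ U, x ∈ autN S U := fun x hx => mem_autN (h.actsOn_of_mem (h.le hx))
  rw [← map_mul, hπeq] at hpq
  push_cast at hpq
  refine ⟨o * (((a ^ (2 ^ j) : ↥CU) : G) ^ Nat.gcdA (2 ^ j) d), mul_mem ho (zpow_mem haodd _),
    ((a ^ d : ↥CU) : G) ^ Nat.gcdB (2 ^ j) d * ((b : G) * (((a : G) * b)⁻¹ * c)),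
    mul_mem (hUa _ (zpow_mem hadU _)) (mul_mem hbN (hUa _ hpq)), ?_⟩
  have hae' : (a : G) = ((a ^ (2 ^ j) : ↥CU) : G) ^ Nat.gcdA (2 ^ j) d *
      ((a ^ d : ↥CU) : G) ^ Nat.gcdB (2 ^ j) d := by
    have := congrArg Subtype.val hae
    push_cast at this ⊢
    exact this
  rw [hgoc]
  set A := ((a ^ (2 ^ j) : ↥CU) : G) ^ Nat.gcdA (2 ^ j) d
  set B := ((a ^ d : ↥CU) : G) ^ Nat.gcdB (2 ^ j) d
  rw [hae']
  group

/-- An element of odd order centralizing `S` and `U` lies in the cores. -/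
theorem mem_coreC_of_centralizes {u : G} (hu : u ∈ U) (hu1 : u ≠ 1) {c : G} (hc : Odd (orderOf c))
    (hcS : ∀ s ∈ (S : Subgroup G), c * s = s * c) : c ∈ coreC u := by
  haveI : Fact (Nat.Prime 2) := ⟨Nat.prime_two⟩
  set N := autN S U with hN
  set Cn : Subgroup ↥N := (centralizer ((S : Subgroup G) : Set G)).subgroupOf N with hCn
  haveI : Cn.Normal := ⟨fun x hx y => by
    refine mem_centralizer_iff.2 fun s hs => ?_
    have hy := y.2.1
    have hs' : (y : G)⁻¹ * s * y ∈ (S : Subgroup G) := (mem_normalizer_iff''.1 hy s).1 hs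
    show s * ((y : G) * (x : G) * (y : G)⁻¹) = (y : G) * (x : G) * (y : G)⁻¹ * s
    calc s * ((y : G) * (x : G) * (y : G)⁻¹) = (y : G) * (((y : G)⁻¹ * s * y) * (x : G)) * (y : G)⁻¹ := by group
      _ = (y : G) * ((x : G) * ((y : G)⁻¹ * s * y)) * (y : G)⁻¹ := by
        rw [show (y : G)⁻¹ * s * y * (x : G) = (x : G) * ((y : G)⁻¹ * s * y) from
          mem_centralizer_iff.1 hx _ hs']
      _ = _ := by group⟩
  have hcN : c ∈ N := mem_autN ⟨fun s hs => by rw [hcS s hs, mul_inv_cancel_right]; exact hs,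
    fun x hx => hcS x (h.le hx)⟩
  have hnil : Cfsg.HasNormalPComplement 2 ↥Cn := by
    obtain ⟨P⟩ : Nonempty (Sylow 2 ↥Cn) := inferInstance
    refine CfsgLib.Fusion.hasNormalPComplement_of_normalizer_le_centralizer P
      fun y _ => mem_centralizer_iff.2 fun z hz => ?_
    obtain ⟨k, hk⟩ := P.isPGroup' ⟨z, hz⟩
    have hzS : ((z : ↥N) : G) ∈ (S : Subgroup G) := mem_of_normalizes (k := k) (z : ↥N).2.1
      (by simpa using congrArg (fun w : ↥(P : Subgroup ↥Cn) => (((w : ↥Cn) : ↥N) : G)) hk)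
    exact Subtype.ext (Subtype.ext (mem_centralizer_iff.1 y.2 _ hzS))
  have h1 : (⟨c, hcN⟩ : ↥N) ∈ Cfsg.pPrimeCore 2 ↥N := by
    have hcC : (⟨c, hcN⟩ : ↥N) ∈ Cn := mem_centralizer_iff.2 fun s hs => (hcS s hs).symm
    have hR : (⟨_, hcC⟩ : ↥Cn) ∈ Cfsg.pPrimeCore 2 ↥Cn := by
      haveI := CfsgLib.Fusion.pResidual_normal (G := ↥Cn) (p := 2)
      refine CfsgLib.Coprime.le_pPrimeCore_of_not_dvd Nat.prime_two
        (CfsgLib.Fusion.hasNormalPComplement_iff_not_dvd.1 hnil)
        (CfsgLib.Fusion.mem_pResidual (Nat.coprime_two_right.2 ?_))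
      rwa [Subgroup.orderOf_mk, Subgroup.orderOf_mk]
    have := mem_map_of_mem Cn.subtype hR
    rw [CfsgLib.Coprime.pPrimeCore_map_subtype_eq Nat.prime_two Cn] at this
    exact this.1
  set C := centralizer ({u} : Set G) with hC
  have hle : N ≤ C := fun y hy => mem_centralizer_singleton_iff.2 (mem_centralizer_iff.1 hy.2 u hu).symm
  haveI hKn : (Cfsg.pPrimeCore 2 ↥C).Normal := by
    rw [CfsgLib.Coprime.pPrimeCore_eq_piCore Nat.prime_two]; infer_instance
  let φ : ↥N →* ↥C ⧸ Cfsg.pPrimeCore 2 ↥C := (QuotientGroup.mk' _).comp (Subgroup.inclusion hle)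
  have hφ : Function.Surjective φ := fun y => by
    obtain ⟨z, rfl⟩ := QuotientGroup.mk'_surjective _ y
    obtain ⟨o', ⟨oC, hoC, rfl⟩, c', hc', e⟩ :=
      h.exists_core_mul_autN hu hu1 (mem_centralizer_singleton_iff.1 z.2)
    refine ⟨⟨c', hc'⟩, ?_⟩
    have hz : z = oC * ⟨c', hle hc'⟩ := Subtype.ext e
    show QuotientGroup.mk' _ (⟨c', hle hc'⟩ : ↥C) = _
    rw [hz, map_mul, (show QuotientGroup.mk' _ oC = 1 from (QuotientGroup.eq_one_iff oC).2 hoC), one_mul]
  have h2 := CfsgLib.Coprime.map_pPrimeCore_le hφ 2 (mem_map_of_mem φ h1)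
  rw [CfsgLib.Coprime.pPrimeCore_quotient_eq_bot Nat.prime_two, mem_bot] at h2
  exact ⟨_, (QuotientGroup.eq_one_iff _).1 h2, rfl⟩

/-- An element of the normalizer trivial modulo `U` lies in the core times `S`. -/
theorem mem_sup_of_trivMod {u : G} (hu : u ∈ U) (hu1 : u ≠ 1) {n : ↥(autN S U)}
    (hn : TrivMod S U (n : G)) : (n : G) ∈ coreC u ⊔ (S : Subgroup G) := by
  set d := ordCompl[2] (orderOf (n : G)) with hd
  set j := (orderOf (n : G)).factorization 2 with hj
  have hdodd : Odd d := Nat.odd_iff.2 (Nat.two_dvd_ne_zero.1 (Nat.not_dvd_ordCompl Nat.prime_two (orderOf_pos _).ne'))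
  have h1 : (n : G) ^ d ∈ (S : Subgroup G) := mem_of_normalizes (k := j) (pow_mem n.2.1 d) (by
    rw [← pow_mul, hd, hj, mul_comm, Nat.ordProj_mul_ordCompl_eq_self, pow_orderOf_eq_one])
  have hodd : Odd (orderOf ((n : G) ^ 2 ^ j)) := by
    rw [hj, orderOf_pow_of_dvd (pow_ne_zero _ two_ne_zero) (Nat.ordProj_dvd _ _)]
    exact hdodd
  have ha := (actsOn_of_autN n.2).pow (2 ^ j)
  have h2 : (n : G) ^ 2 ^ j ∈ coreC u := h.mem_coreC_of_centralizes hu hu1 hodd fun s hs =>
    h.centralizes_of_trivMod ha hodd ((actsOn_of_autN n.2).trivMod_pow hn _) hs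
  have hbez : ((2 ^ j : ℕ) : ℤ) * Nat.gcdA (2 ^ j) d + (d : ℤ) * Nat.gcdB (2 ^ j) d = 1 := by
    have := Nat.gcd_eq_gcd_ab (2 ^ j) d
    rw [(Nat.Coprime.pow_left j (Nat.coprime_two_left.2 hdodd)).gcd_eq_one] at this
    exact_mod_cast this.symm
  have hne : (n : G) = ((n : G) ^ (2 ^ j)) ^ Nat.gcdA (2 ^ j) d * ((n : G) ^ d) ^ Nat.gcdB (2 ^ j) d := by
    rw [← zpow_natCast (n : G) (2 ^ j), ← zpow_mul, ← zpow_natCast (n : G) d, ← zpow_mul, ← zpow_add,
      hbez, zpow_one]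
  rw [hne]
  exact mul_mem (zpow_mem (mem_sup_left h2) _) (zpow_mem (mem_sup_right h1) _)

/-- **Either all involution centralizers are two-nilpotent or the local hypothesis holds.** -/
theorem nilp_or_fiveLocal [IsSimpleGroup G] (hG : ¬ IsMulCommutative G) :
    Nilp G ∨ ∃ f : G, FiveLocal S U f := by
  haveI : Fact (Nat.Prime 2) := ⟨Nat.prime_two⟩
  by_cases hall : ∀ n : ↥(autN S U), cosetPerm S U n = 1
  · left
    intro t ht
    obtain ⟨k, hkU, hk1⟩ := h.exists_conj_mem ht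
    set u := k * t * k⁻¹ with hu
    set C := centralizer ({u} : Set G) with hC
    have hCnil : Cfsg.HasNormalPComplement 2 ↥C := by
      rw [CfsgLib.Fusion.hasNormalPComplement_iff_not_dvd]
      set K := Cfsg.pPrimeCore 2 ↥C with hK
      haveI : K.Normal := by
        rw [hK, CfsgLib.Coprime.pPrimeCore_eq_piCore Nat.prime_two]; infer_instance
      have hSC : (S : Subgroup G) ≤ C := h.le_centralizer hkU
      have hP : IsPGroup 2 (↥C ⧸ K) := by
        intro y
        obtain ⟨z, rfl⟩ := QuotientGroup.mk'_surjective K y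
        obtain ⟨o, ho, n, hn, e⟩ := h.exists_core_mul_autN hkU hk1 (mem_centralizer_singleton_iff.1 z.2)
        have hsup := h.mem_sup_of_trivMod hkU hk1 (n := ⟨n, hn⟩) ((cosetPerm_eq_one_iff _).1 (hall _))
        have hz : (z : G) ∈ coreC u ⊔ (S : Subgroup G) := e ▸ mul_mem (mem_sup_left ho) hsup
        have hz' : z ∈ K ⊔ (S : Subgroup G).subgroupOf C := by
          have : coreC u ⊔ (S : Subgroup G) = (K ⊔ (S : Subgroup G).subgroupOf C).map C.subtype := by
            rw [Subgroup.map_sup, subgroupOf_map_subtype, inf_eq_left.2 hSC]; rfl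
          rw [this] at hz
          obtain ⟨z', hz', hze⟩ := hz
          rwa [← Subtype.ext hze]
        obtain ⟨p, hp, s, hs, rfl⟩ := mem_sup_of_normal_left.1 hz'
        obtain ⟨i, hi⟩ := S.isPGroup' ⟨s, hs⟩
        refine ⟨i, ?_⟩
        rw [map_mul, (show QuotientGroup.mk' K p = 1 from (QuotientGroup.eq_one_iff p).2 hp), one_mul, ← map_pow]
        have : s ^ 2 ^ i = 1 := Subtype.ext (by simpa using congrArg Subtype.val hi)
        rw [this, map_one]
      exact fun hd => CfsgLib.Coprime.pPrimeCore_not_dvd Nat.prime_two (hd.trans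
        (card_dvd_of_le (CfsgLib.Fusion.pResidual_le_of_isPGroup_quotient K hP)))
    refine CfsgLib.Fusion.hasNormalPComplement_of_injective
      (MonoidHom.mk' (fun y : ↥(centralizer ({t} : Set G)) => (⟨k * (y : G) * k⁻¹,
        mem_centralizer_singleton_iff.2 (by
          rw [hu]
          calc k * (y : G) * k⁻¹ * (k * t * k⁻¹) = k * ((y : G) * t) * k⁻¹ := by group
            _ = k * (t * (y : G)) * k⁻¹ := by rw [mem_centralizer_singleton_iff.1 y.2]
            _ = _ := by group)⟩ : ↥C)) fun a b => Subtype.ext (by push_cast; group))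
      (fun a b e => Subtype.ext (mul_left_cancel (mul_right_cancel (congrArg Subtype.val e)))) hCnil
  · right
    simp only [not_forall] at hall
    obtain ⟨n, hn⟩ := hall
    obtain ⟨k, hk, m, hm⟩ := h.exists_odd_rep n
    set f : ↥(autN S U) := n ^ 2 ^ k with hf
    have hf1 : cosetPerm S U f ≠ 1 := fun e => hn (by rw [← hm, ← map_pow, ← hf, e, one_pow])
    have hfodd : Odd (orderOf (f : G)) := by rw [hf, SubmonoidClass.coe_pow]; exact hk
    refine ⟨f, h, hfodd, fun u hu hu1 => ?_, (actsOn_of_autN f.2).map, (actsOn_of_autN f.2).fix,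
      fun x hx hxU hmem => hf1 (h.cosetPerm_eq_one_of_fix f (x := ⟨x, hx⟩) hxU ?_), fun u hu hu1 g hg => ?_⟩
    · have hodd5 : Odd (orderOf ((f : G) ^ 5)) := hfodd.of_dvd_nat (orderOf_pow_dvd 5)
      have ht : TrivMod S U ((f : G) ^ 5) := by
        have := (cosetPerm_eq_one_iff (f ^ 5)).1 (by rw [map_pow]; exact h.cosetPerm_pow_five f)
        simpa using this
      exact h.mem_coreC_of_centralizes hu hu1 hodd5 fun s hs =>
        h.centralizes_of_trivMod ((actsOn_of_autN f.2).pow 5) hodd5 ht hs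
    · refine (cosetPerm_fix_iff f _).2 ?_
      have e : x⁻¹ * ((f : G) * x * (f : G)⁻¹) = x⁻¹ * ((f : G) * x * (f : G)⁻¹ * x⁻¹ * x) := by group
      show x⁻¹ * ((f : G) * x * (f : G)⁻¹) ∈ U
      rw [e, ← h.central _ hmem x hx, inv_mul_cancel_left]
      exact hmem
    · obtain ⟨o, ho, n', hn', e⟩ := h.exists_core_mul_autN hu hu1 (mem_centralizer_singleton_iff.1 hg)
      obtain ⟨i, hi⟩ := h.exists_pow_cosetPerm hf1 ⟨n', hn'⟩
      have hsup := h.mem_sup_of_trivMod hu hu1 (n := (f ^ i)⁻¹ * ⟨n', hn'⟩) ((cosetPerm_eq_one_iff _).1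
        (by rw [map_mul, map_inv, hi, inv_mul_cancel]))
      have hn'' : n' ∈ coreC u ⊔ ((S : Subgroup G) ⊔ zpowers (f : G)) := by
        have h1 : ((f : G) ^ i) ∈ coreC u ⊔ ((S : Subgroup G) ⊔ zpowers (f : G)) :=
          mem_sup_right (mem_sup_right (pow_mem (mem_zpowers _) i))
        have h2 := (sup_le_sup_left (le_sup_left : (S : Subgroup G) ≤ _ ⊔ zpowers (f : G)) (coreC u)) hsup
        have := mul_mem h1 h2
        push_cast at this
        rwa [mul_inv_cancel_left] at this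
      rw [e]
      exact mul_mem (mem_sup_left ho) hn''

end UFour

end CfsgLib.TwoNilp
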