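import Cfsg.Agent.Lib.CIT.TwoNilp.UFour.Structure

/-!
# Sign characters of the Sylow subgroup and the fusion classes outside its center
-/

set_option autoImplicit false
set_option linter.style.haveILetI false

open Subgroup Finset
open scoped commutatorElement

namespace CfsgLib.TwoNilp

universe u

variable {G : Type u} [Group G]

/-- The data of the fusion automorphism. -/
structure Twist (S : Sylow 2 G) (U : Subgroup G) where
  α : ↥(S : Subgroup G) →* ↥(S : Subgroup G)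
  conj : ∀ x : ↥(S : Subgroup G), IsConj (x : G) (α x)
  fpf : ∀ x : ↥(S : Subgroup G), (x : G) ∉ U → ((x⁻¹ * α x : ↥(S : Subgroup G)) : G) ∉ U
  cube : ∃ s : ↥(S : Subgroup G), ∀ x, α (α (α x)) = s * x * s⁻¹
  fusion : ∀ x y : ↥(S : Subgroup G), IsConj (x : G) y →
    ∃ s : ↥(S : Subgroup G), y = s * x * s⁻¹ ∨ y = s * α x * s⁻¹ ∨ y = s * α (α x) * s⁻¹

/-- The sign characters of a Sylow subgroup. -/
abbrev Sgn (S : Sylow 2 G) : Type u := ↥(S : Subgroup G) →* ℤˣ

variable [Finite G] {S : Sylow 2 G} {U : Subgroup G}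



theorem exists_not_mem (h : UFour S U) : ∃ x : ↥(S : Subgroup G), (x : G) ∉ U := by
  by_contra hc
  simp only [not_exists, not_not] at hc
  have : Nat.card (S : Subgroup G) ≤ Nat.card U :=
    Nat.card_le_card_of_injective (fun x => (⟨x, hc x⟩ : U))
      fun a b e => Subtype.ext (congrArg (fun z : U => (z : G)) e)
  rw [h.cardS, h.cardU] at this
  omega

theorem sign_eq_one (h : UFour S U) (μ : (Sgn S)) (x : ↥(S : Subgroup G)) (hx : (x : G) ∈ U) : μ x = 1 := by
  obtain ⟨a, ha⟩ := exists_not_mem h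
  obtain ⟨b, hb, hab⟩ := h.comm_surj a a.2 ha x hx
  have : x = ⁅a, (⟨b, hb⟩ : ↥(S : Subgroup G))⁆ := Subtype.ext hab.symm
  rw [this, commutatorElement_def, map_mul, map_mul, map_mul, map_inv, map_inv, mul_comm (μ a),
    mul_inv_cancel_right, mul_inv_cancel]

theorem exists_sign (h : UFour S U) {x : ↥(S : Subgroup G)} (hx : (x : G) ∉ U) : ∃ μ : (Sgn S), μ x = -1 := by
  classical
  set U' := U.subgroupOf (S : Subgroup G) with hU'
  obtain ⟨M, hM1, ⟨⟨hUM, hxM⟩, hmax⟩⟩ :=
    Finite.exists_le_maximal (p := fun M : Subgroup ↥(S : Subgroup G) => U' ≤ M ∧ x ∉ M) (a := U')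
      ⟨le_rfl, fun hm => hx (mem_subgroupOf.1 hm)⟩
  haveI : M.Normal := ⟨fun m hm g => by
    have h1 : ⁅g, m⁆ ∈ M := hUM (mem_subgroupOf.2 (h.comm_mem g g.2 m m.2))
    have h2 := mul_mem h1 hm
    rwa [commutatorElement_def, inv_mul_cancel_right] at h2⟩
  have hkey : ∀ y, y ∉ M → x * y⁻¹ ∈ M := by
    intro y hy
    have hxs : x ∈ M ⊔ zpowers y := by
      by_contra hxs
      exact hy (hmax ⟨hUM.trans le_sup_left, hxs⟩ le_sup_left (mem_sup_right (mem_zpowers y)))
    obtain ⟨m, hm, z, hz, rfl⟩ := mem_sup_of_normal_left.1 hxs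
    obtain ⟨i, rfl⟩ := mem_zpowers_iff.1 hz
    have hy2 : y * y ∈ M := hUM (mem_subgroupOf.2 (h.sq_mem y y.2))
    rcases Int.even_or_odd i with ⟨j, rfl⟩ | ⟨j, rfl⟩
    · exfalso
      refine hxM (mul_mem hm ?_)
      rw [← two_mul, zpow_mul, show y ^ (2 : ℤ) = y * y from zpow_two y]
      exact zpow_mem hy2 j
    · rw [zpow_add_one, ← mul_assoc, mul_inv_cancel_right, zpow_mul,
        show y ^ (2 : ℤ) = y * y from zpow_two y]
      exact mul_mem hm (zpow_mem hy2 j)
  refine ⟨MonoidHom.mk' (fun y => if y ∈ M then 1 else -1) ?_, by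
    rw [MonoidHom.mk'_apply, if_neg hxM]⟩
  intro a b
  by_cases ha : a ∈ M <;> by_cases hb : b ∈ M
  · simp [ha, hb, mul_mem ha hb]
  · have : a * b ∉ M := fun hh => hb (by have := mul_mem (inv_mem ha) hh; rwa [inv_mul_cancel_left] at this)
    simp [ha, hb, this]
  · have : a * b ∉ M := fun hh => ha (by have := mul_mem hh (inv_mem hb); rwa [mul_inv_cancel_right] at this)
    simp [ha, hb, this]
  · have : a * b ∈ M := by
      have e1 := mul_mem (inv_mem (hkey a ha)) (hkey b⁻¹ (fun hh => hb (inv_inv b ▸ inv_mem hh)))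
      rwa [mul_inv_rev, inv_inv, inv_inv, mul_assoc, inv_mul_cancel_left] at e1
    simp [ha, hb, this]

theorem mem_of_sign (h : UFour S U) {x : ↥(S : Subgroup G)} (hx : ∀ μ : (Sgn S), μ x = 1) : (x : G) ∈ U := by
  by_contra hc
  obtain ⟨μ, hμ⟩ := exists_sign h hc
  rw [hx μ] at hμ
  exact absurd hμ (by decide)

theorem sign_conj (μ : (Sgn S)) (s x : ↥(S : Subgroup G)) : μ (s * x * s⁻¹) = μ x := by
  rw [map_mul, map_mul, map_inv, mul_comm (μ s), mul_inv_cancel_right]

/-- The rotated sign character. -/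
def Twist.rot (T : Twist S U) (μ : (Sgn S)) : (Sgn S) := μ.comp T.α

theorem Twist.rot_apply (T : Twist S U) (μ : (Sgn S)) (x : ↥(S : Subgroup G)) : T.rot μ x = μ (T.α x) := rfl

theorem Twist.rot_cube (T : Twist S U) (μ : (Sgn S)) : T.rot (T.rot (T.rot μ)) = μ := by
  obtain ⟨s, hs⟩ := T.cube
  ext x
  simp only [T.rot_apply]
  rw [hs, sign_conj]

theorem Twist.eq_one_of_rot (h : UFour S U) (T : Twist S U) {μ : (Sgn S)} (hμ : T.rot μ = μ) : μ = 1 := by
  ext x
  set w := x * T.α x * T.α (T.α x) with hw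
  have hwU : (w : G) ∈ U := by
    by_contra hc
    refine T.fpf w hc (mem_of_sign h fun ν => ?_)
    obtain ⟨s, hs⟩ := T.cube
    rw [hw, map_mul, map_inv, map_mul T.α, map_mul T.α, hs, map_mul, map_mul, map_mul ν, map_mul ν,
      sign_conj]
    simp [mul_comm, mul_left_comm]
  have h1 := sign_eq_one h μ w hwU
  have e : ∀ y, μ (T.α y) = μ y := fun y => DFunLike.congr_fun hμ y
  rw [hw, map_mul, map_mul, e, e, e] at h1
  simp only [MonoidHom.one_apply, Units.val_one]
  rcases Int.units_eq_one_or (μ x) with e' | e' <;> rw [e'] at h1 ⊢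
  · rfl
  · exact absurd h1 (by decide)

theorem Twist.rot_ne (h : UFour S U) (T : Twist S U) {μ : (Sgn S)} (hμ : μ ≠ 1) :
    T.rot μ ≠ μ ∧ T.rot (T.rot μ) ≠ μ ∧ T.rot (T.rot μ) ≠ T.rot μ := by
  have h1 : T.rot μ ≠ μ := fun e => hμ (T.eq_one_of_rot h e)
  refine ⟨h1, fun e => h1 ?_, fun e => h1 ?_⟩
  · conv_rhs => rw [← T.rot_cube μ, e]
  · have := congrArg T.rot e
    rwa [T.rot_cube, e, eq_comm] at this

/-- The sum over the orbit of a sign character. -/
def Twist.psi (T : Twist S U) (μ : (Sgn S)) (x : ↥(S : Subgroup G)) : ℤ :=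
  (μ x : ℤ) + (T.rot μ x : ℤ) + (T.rot (T.rot μ) x : ℤ)

/-- The class function attached to a sign character. -/
def Twist.wt (T : Twist S U) (μ : (Sgn S)) (x : ↥(S : Subgroup G)) : ℤ := 3 - T.psi μ x

theorem Twist.wt_mem (h : UFour S U) (T : Twist S U) (μ : (Sgn S)) {x : ↥(S : Subgroup G)} (hx : (x : G) ∈ U) :
    T.wt μ x = 0 := by
  simp only [Twist.wt, Twist.psi, sign_eq_one h _ x hx, Units.val_one]
  norm_num

theorem Twist.wt_one (T : Twist S U) (x : ↥(S : Subgroup G)) : T.wt 1 x = 0 := by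
  simp [Twist.wt, Twist.psi, Twist.rot]

theorem Twist.wt_fusion (T : Twist S U) (μ : (Sgn S)) {x y : ↥(S : Subgroup G)} (hxy : IsConj (x : G) y) :
    T.wt μ x = T.wt μ y := by
  have hrot : ∀ z, T.psi μ (T.α z) = T.psi μ z := fun z => by
    have e : (T.rot (T.rot μ)) (T.α z) = μ z := DFunLike.congr_fun (T.rot_cube μ) z
    simp only [Twist.psi]
    rw [e, ← T.rot_apply μ z, ← T.rot_apply (T.rot μ) z]
    ring
  have hcj : ∀ s z, T.psi μ (s * z * s⁻¹) = T.psi μ z := fun s z => by simp only [Twist.psi, sign_conj]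
  obtain ⟨s, rfl | rfl | rfl⟩ := T.fusion x y hxy <;> simp only [Twist.wt, hcj, hrot]

/-- Orthogonality of sign characters. -/
theorem sum_sign [Fintype ↥(S : Subgroup G)] {μ : (Sgn S)} (hμ : μ ≠ 1) :
    ∑ x : ↥(S : Subgroup G), (μ x : ℤ) = 0 := by
  obtain ⟨a, ha⟩ : ∃ a, μ a ≠ 1 := by
    by_contra hc
    simp only [not_exists, not_not] at hc
    exact hμ (MonoidHom.ext hc)
  have e : ∑ x, ((μ (a * x) : ℤˣ) : ℤ) = ∑ x, (μ x : ℤ) :=
    Fintype.sum_equiv (Equiv.mulLeft a) _ _ (fun x => rfl)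
  simp only [map_mul, Units.val_mul, (Int.units_eq_one_or (μ a)).resolve_left ha, Units.val_neg,
    Units.val_one, neg_one_mul, sum_neg_distrib] at e
  omega

theorem sum_sign_mul [Fintype ↥(S : Subgroup G)] [DecidableEq (Sgn S)] (h : UFour S U) (μ ν : (Sgn S)) :
    ∑ x : ↥(S : Subgroup G), (μ x : ℤ) * (ν x : ℤ) = if μ = ν then 64 else 0 := by
  have e : ∀ x : ↥(S : Subgroup G), (μ x : ℤ) * (ν x : ℤ) = (((μ * ν⁻¹ : (Sgn S)) x : ℤˣ) : ℤ) := fun x => by
    rw [MonoidHom.mul_apply, MonoidHom.inv_apply, Int.units_inv_eq_self, Units.val_mul]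
  split_ifs with hh
  · subst hh
    simp only [e, mul_inv_cancel, MonoidHom.one_apply, Units.val_one, sum_const, card_univ, nsmul_one]
    rw [← Nat.card_eq_fintype_card, h.cardS]
    rfl
  · simp only [e]
    exact sum_sign fun e' => hh (mul_inv_eq_one.1 e')

theorem Twist.sum_wt_mul [Fintype ↥(S : Subgroup G)] [DecidableEq (Sgn S)] (h : UFour S U) (T : Twist S U)
    {μ ν : (Sgn S)} (hμ : μ ≠ 1) (hν : ν ≠ 1) :
    ∑ x : ↥(S : Subgroup G), T.wt μ x * T.wt ν x =
      64 * (9 + if ν = μ ∨ ν = T.rot μ ∨ ν = T.rot (T.rot μ) then 3 else 0) := by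
  have hne : ∀ κ : (Sgn S), κ ≠ 1 → T.rot κ ≠ 1 := fun κ hκ e => hκ (by
    rw [← T.rot_cube κ, e]; ext x; simp [Twist.rot])
  have hpsi : ∀ κ : (Sgn S), κ ≠ 1 → ∑ x, T.psi κ x = 0 := fun κ hκ => by
    simp only [Twist.psi, sum_add_distrib, sum_sign hκ, sum_sign (hne κ hκ),
      sum_sign (hne _ (hne κ hκ)), add_zero]
  have hpp : ∑ x, T.psi μ x * T.psi ν x =
      64 * if ν = μ ∨ ν = T.rot μ ∨ ν = T.rot (T.rot μ) then 3 else 0 := by
    obtain ⟨a1, a2, a3⟩ := T.rot_ne h hμ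
    simp only [Twist.psi, add_mul, mul_add, sum_add_distrib, sum_sign_mul h]
    by_cases c0 : ν = μ
    · subst c0
      simp [a1, a2, a3, Ne.symm a1, Ne.symm a2, Ne.symm a3]
    by_cases c1 : ν = T.rot μ
    · subst c1
      simp [T.rot_cube, a1, a2, a3, Ne.symm a1, Ne.symm a2, Ne.symm a3]
    by_cases c2 : ν = T.rot (T.rot μ)
    · subst c2
      simp [T.rot_cube, a1, a2, a3, Ne.symm a1, Ne.symm a2, Ne.symm a3]
    have d : ∀ {κ κ' : (Sgn S)}, T.rot κ = κ' → κ = T.rot (T.rot κ') := fun e => by rw [← e, T.rot_cube]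
    have b10 : μ ≠ T.rot ν := fun e => c2 (d e.symm)
    have b20 : μ ≠ T.rot (T.rot ν) := fun e => c1 (by rw [e, T.rot_cube])
    have b11 : T.rot μ ≠ T.rot ν := fun e => c0 (by
      have := congrArg (fun κ => T.rot (T.rot κ)) e; simpa [T.rot_cube] using this.symm)
    have b12 : T.rot μ ≠ T.rot (T.rot ν) := fun e => c2 (by rw [e, T.rot_cube])
    have b21 : T.rot (T.rot μ) ≠ T.rot ν := fun e => c1 (by
      have := congrArg (fun κ => T.rot (T.rot κ)) e; simpa [T.rot_cube] using this.symm)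
    have b22 : T.rot (T.rot μ) ≠ T.rot (T.rot ν) := fun e => c0 (by
      have := congrArg T.rot e; simpa [T.rot_cube] using this.symm)
    simp [c0, c1, c2, Ne.symm c0, Ne.symm c1, Ne.symm c2, b10, b20, b11, b12, b21, b22]
  simp only [Twist.wt, sub_mul, mul_sub, sum_sub_distrib, ← mul_sum, ← sum_mul, hpsi μ hμ, hpsi ν hν, hpp,
    sum_const, card_univ, ← Nat.card_eq_fintype_card, h.cardS]
  ring

theorem card_sign [Fintype ↥(S : Subgroup G)] [Fintype (Sgn S)] (h : UFour S U) : Fintype.card (Sgn S) = 16 := by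
  classical
  have h2 : ∀ x : ↥(S : Subgroup G),
      ∑ μ : (Sgn S), (μ x : ℤ) = if (x : G) ∈ U then (Fintype.card (Sgn S) : ℤ) else 0 := by
    intro x
    split_ifs with hx
    · simp [sign_eq_one h _ x hx]
    · obtain ⟨ν, hν⟩ := exists_sign h hx
      have e : ∑ μ : (Sgn S), (((ν * μ : (Sgn S)) x : ℤˣ) : ℤ) = ∑ μ : (Sgn S), (μ x : ℤ) :=
        Fintype.sum_equiv (Equiv.mulLeft ν) _ _ (fun μ => rfl)
      simp only [MonoidHom.mul_apply, Units.val_mul, hν, Units.val_neg, Units.val_one, neg_one_mul,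
        sum_neg_distrib] at e
      omega
  have e1 : ∑ x : ↥(S : Subgroup G), ∑ μ : (Sgn S), (μ x : ℤ) = 64 := by
    rw [sum_comm, sum_eq_single_of_mem (1 : (Sgn S)) (mem_univ _) (fun μ _ hμ => sum_sign hμ)]
    simp only [MonoidHom.one_apply, Units.val_one, sum_const, card_univ, nsmul_one]
    rw [← Nat.card_eq_fintype_card, h.cardS]
    rfl
  simp only [h2, ← sum_filter, sum_const, nsmul_eq_mul] at e1
  have hU : ((univ.filter fun x : ↥(S : Subgroup G) => (x : G) ∈ U).card) = 4 := by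
    rw [← Fintype.card_subtype, ← Nat.card_eq_fintype_card, ← h.cardU]
    exact Nat.card_congr ⟨fun x => ⟨x.1, x.2⟩, fun u => ⟨⟨u, h.le u.2⟩, u.2⟩, fun _ => rfl, fun _ => rfl⟩
  rw [hU] at e1
  push_cast at e1
  omega

theorem Twist.sum_wt_all [Fintype ↥(S : Subgroup G)] [Fintype (Sgn S)] (h : UFour S U) (T : Twist S U)
    {x : ↥(S : Subgroup G)} (hx : (x : G) ∉ U) : ∑ μ : (Sgn S), T.wt μ x = 48 := by
  classical
  have hz : ∀ f : (Sgn S) → (Sgn S), Function.Bijective f → ∑ μ : (Sgn S), ((f μ) x : ℤ) = 0 := by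
    intro f hf
    rw [hf.sum_comp (fun μ : (Sgn S) => (μ x : ℤ))]
    obtain ⟨ν, hν⟩ := exists_sign h hx
    have e : ∑ μ : (Sgn S), (((ν * μ : (Sgn S)) x : ℤˣ) : ℤ) = ∑ μ : (Sgn S), (μ x : ℤ) :=
      Fintype.sum_equiv (Equiv.mulLeft ν) _ _ (fun μ => rfl)
    simp only [MonoidHom.mul_apply, Units.val_mul, hν, Units.val_neg, Units.val_one, neg_one_mul,
      sum_neg_distrib] at e
    omega
  have hr : Function.Bijective T.rot := Finite.injective_iff_bijective.1 fun a b e => by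
    rw [← T.rot_cube a, e, T.rot_cube]
  simp only [Twist.wt, Twist.psi, sum_sub_distrib, sum_add_distrib]
  rw [show ∑ μ : (Sgn S), (μ x : ℤ) = 0 from hz id Function.bijective_id, hz _ hr,
    show ∑ μ : (Sgn S), ((T.rot (T.rot μ)) x : ℤ) = 0 from hz (fun μ => T.rot (T.rot μ)) (hr.comp hr)]
  simp [card_sign h]

/-- An element outside `U` has twelve conjugates in `S`. -/
theorem Twist.card_conj [Fintype ↥(S : Subgroup G)]
    [DecidablePred fun p : G × G => IsConj p.1 p.2] (h : UFour S U) (T : Twist S U)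
    {x : ↥(S : Subgroup G)} (hx : (x : G) ∉ U) :
    (univ.filter fun y : ↥(S : Subgroup G) => (fun p : G × G => IsConj p.1 p.2) ((x : G), (y : G))).card = 12 := by
  classical
  let e : Fin 3 → ↥(S : Subgroup G) := ![x, T.α x, T.α (T.α x)]
  let U' := U.subgroupOf (S : Subgroup G)
  haveI : Fintype U' := Fintype.ofFinite _
  have hU' : Fintype.card U' = 4 := by
    rw [← Nat.card_eq_fintype_card, Nat.card_congr (subgroupOfEquivOfLe h.le).toEquiv, h.cardU]
  have he : ∀ i, IsConj (x : G) (e i) := fun i => by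
    fin_cases i
    · exact IsConj.refl _
    · exact T.conj x
    · exact (T.conj x).trans (T.conj _)
  have hnU : ∀ i, ((e i : ↥(S : Subgroup G)) : G) ∉ U := fun i hi => by
    obtain ⟨c, hc⟩ := isConj_iff.1 (he i).symm
    exact hx (hc ▸ h.mem_of_conj hi (hc.symm ▸ x.2))
  have hcomm : ∀ (y : ↥(S : Subgroup G)), (y : G) ∉ U → ∀ u : U',
      ∃ s : ↥(S : Subgroup G), s * y * s⁻¹ = (u : ↥(S : Subgroup G)) * y := by
    intro y hy u
    obtain ⟨s, hs, hse⟩ := h.comm_surj y y.2 hy _ (inv_mem (mem_subgroupOf.1 u.2))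
    refine ⟨⟨s, hs⟩, Subtype.ext ?_⟩
    have e' : ⁅s, (y : G)⁆ = ((u : ↥(S : Subgroup G)) : G) := by
      rw [← commutatorElement_inv, hse, inv_inv]
    push_cast
    rw [← e', commutatorElement_def, inv_mul_cancel_right]
  have hinj : Function.Injective fun p : Fin 3 × U' => ((p.2 : ↥(S : Subgroup G)) * e p.1) := by
    rintro ⟨i, u⟩ ⟨j, v⟩ huv
    have hs : ∀ μ : (Sgn S), μ (e i) = μ (e j) := fun μ => by
      have := congrArg μ huv
      simp only [map_mul] at this
      rwa [sign_eq_one h μ _ (mem_subgroupOf.1 u.2), sign_eq_one h μ _ (mem_subgroupOf.1 v.2), one_mul,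
        one_mul] at this
    have hstep : ∀ μ : (Sgn S), μ x = μ (T.α x) → μ x⁻¹ * μ (T.α x) = 1 := fun μ e' => by
      rw [map_inv, ← e', inv_mul_cancel]
    obtain ⟨s, hs3⟩ := T.cube
    have hij : i = j := by
      by_contra hne
      have hfix : ∀ μ : (Sgn S), μ x = μ (T.α x) := by
        fin_cases i <;> fin_cases j <;> first | exact absurd rfl hne | skip
        · exact fun μ => hs μ
        · intro μ
          have h1 : T.rot μ x = T.rot μ (T.α (T.α x)) := hs (T.rot μ)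
          simp only [T.rot_apply, hs3, map_mul T.α, map_inv T.α, sign_conj] at h1
          exact h1.symm
        · exact fun μ => (hs μ).symm
        · intro μ
          have h1 : T.rot (T.rot μ) (T.α x) = T.rot (T.rot μ) (T.α (T.α x)) := hs _
          simp only [T.rot_apply, hs3, map_mul T.α, map_inv T.α, sign_conj] at h1
          exact h1
        · intro μ
          have h1 : T.rot μ (T.α (T.α x)) = T.rot μ x := hs (T.rot μ)
          simp only [T.rot_apply, hs3, map_mul T.α, map_inv T.α, sign_conj] at h1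
          exact h1
        · intro μ
          have h1 : T.rot (T.rot μ) (T.α (T.α x)) = T.rot (T.rot μ) (T.α x) := hs _
          simp only [T.rot_apply, hs3, map_mul T.α, map_inv T.α, sign_conj] at h1
          exact h1.symm
      exact T.fpf x hx (mem_of_sign h fun μ => by rw [map_mul]; exact hstep μ (hfix μ))
    subst hij
    exact Prod.ext rfl (Subtype.ext (mul_right_cancel huv))
  rw [show (12 : ℕ) = (univ.image fun p : Fin 3 × U' => ((p.2 : ↥(S : Subgroup G)) * e p.1)).card by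
    rw [card_image_of_injective _ hinj, card_univ, Fintype.card_prod, hU', Fintype.card_fin]]
  congr 1
  ext y
  simp only [mem_filter, mem_univ, true_and, mem_image, Prod.exists]
  constructor
  · intro hxy
    obtain ⟨s, hs⟩ := T.fusion x y hxy
    obtain ⟨i, hi⟩ : ∃ i, y = s * e i * s⁻¹ := by
      rcases hs with hs | hs | hs
      exacts [⟨0, hs⟩, ⟨1, hs⟩, ⟨2, hs⟩]
    refine ⟨i, ⟨⁅s, e i⁆, mem_subgroupOf.2 (h.comm_mem s s.2 (e i) (e i).2)⟩, ?_⟩
    rw [hi]
    show ⁅s, e i⁆ * e i = _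
    rw [commutatorElement_def, inv_mul_cancel_right]
  · rintro ⟨i, u, rfl⟩
    obtain ⟨s, hs⟩ := hcomm (e i) (hnU i) u
    rw [← hs]
    exact (he i).trans (isConj_iff.2 ⟨s, rfl⟩)

end CfsgLib.TwoNilp
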