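import Cfsg.Agent.Lib.CIT.TwoNilp.UFour.Fusion
import Cfsg.Agent.Lib.CIT.TwoNilp.UFour.Signs
import Cfsg.Agent.Lib.Block.PairSolvable.Basic

/-!
# Class functions supported on the sections of the elements of order four
-/

set_option autoImplicit false
set_option linter.style.haveILetI false

open Subgroup Finset
open scoped ComplexConjugate commutatorElement

namespace CfsgLib.TwoNilp

open Cfsg CfsgLib.Char CfsgLib.Block

universe u

variable {G : Type u} [Group G] [Fintype G] {S : Sylow 2 G} {U : Subgroup G}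

/-- Functions on `S` vanishing on `U` and constant on fused elements. -/
def Inv (S : Sylow 2 G) (U : Subgroup G) (F : ↥(S : Subgroup G) → ℤ) : Prop :=
  (∀ x : ↥(S : Subgroup G), (x : G) ∈ U → F x = 0) ∧
    ∀ x y : ↥(S : Subgroup G), IsConj (x : G) y → F x = F y

open scoped _root_.Classical in
/-- The class function taking the value `F x` on the section of `x`. -/
noncomputable def secLift (S : Sylow 2 G) (U : Subgroup G) (F : ↥(S : Subgroup G) → ℤ) (g : G) : ℂ :=
  if h : ∃ x : ↥(S : Subgroup G), (x : G) ∉ U ∧ ∃ z, IsPPart 2 g z ∧ IsConj (x : G) z then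
    (F h.choose : ℂ) else 0

theorem secLift_eq {F : ↥(S : Subgroup G) → ℤ} (hF : Inv S U F) {g z : G} {x : ↥(S : Subgroup G)}
    (hx : (x : G) ∉ U) (hz : IsPPart 2 g z) (hxz : IsConj (x : G) z) : secLift S U F g = (F x : ℂ) := by
  have hex : ∃ x : ↥(S : Subgroup G), (x : G) ∉ U ∧ ∃ z, IsPPart 2 g z ∧ IsConj (x : G) z :=
    ⟨x, hx, z, hz, hxz⟩
  rw [secLift, dif_pos hex]
  obtain ⟨-, z', hz', hxz'⟩ := hex.choose_spec
  rw [hF.2 _ x (hxz'.trans (isPPart_unique Nat.prime_two hz hz' ▸ hxz).symm)]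

theorem secLift_eq_zero {F : ↥(S : Subgroup G) → ℤ} {g : G}
    (h : ¬ ∃ x : ↥(S : Subgroup G), (x : G) ∉ U ∧ ∃ z, IsPPart 2 g z ∧ IsConj (x : G) z) :
    secLift S U F g = 0 := by rw [secLift, dif_neg h]

theorem isClassFunction_secLift {F : ↥(S : Subgroup G) → ℤ} (hF : Inv S U F) :
    IsClassFunction G (secLift S U F) := by
  intro g k
  by_cases hex : ∃ x : ↥(S : Subgroup G), (x : G) ∉ U ∧ ∃ z, IsPPart 2 g z ∧ IsConj (x : G) z
  · obtain ⟨x, hx, z, hz, hxz⟩ := hex
    rw [secLift_eq hF hx hz hxz, secLift_eq hF hx (isPPart_conj hz k) (hxz.trans (isConj_iff.2 ⟨k, rfl⟩))]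
  · rw [secLift_eq_zero hex, secLift_eq_zero]
    rintro ⟨x, hx, z, hz, hxz⟩
    refine hex ⟨x, hx, k⁻¹ * z * k, ?_, hxz.trans (isConj_iff.2 ⟨k⁻¹, by group⟩)⟩
    have := isPPart_conj hz k⁻¹
    rwa [inv_inv, show k⁻¹ * (k * g * k⁻¹) * k = g by group] at this

theorem secLift_mul {F F' : ↥(S : Subgroup G) → ℤ} (hF : Inv S U F) (hF' : Inv S U F') (g : G) :
    secLift S U F g * conj (secLift S U F' g) = secLift S U (fun x => F x * F' x) g := by
  have hFF : Inv S U (fun x => F x * F' x) :=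
    ⟨fun x hx => by simp only [hF.1 x hx, zero_mul], fun x y hxy => by
      simp only [hF.2 x y hxy, hF'.2 x y hxy]⟩
  by_cases hex : ∃ x : ↥(S : Subgroup G), (x : G) ∉ U ∧ ∃ z, IsPPart 2 g z ∧ IsConj (x : G) z
  · obtain ⟨x, hx, z, hz, hxz⟩ := hex
    rw [secLift_eq hF hx hz hxz, secLift_eq hF' hx hz hxz, secLift_eq hFF hx hz hxz]
    simp
  · simp only [secLift_eq_zero hex, zero_mul]

theorem secLift_one {F : ↥(S : Subgroup G) → ℤ} : secLift S U F 1 = 0 := by
  refine secLift_eq_zero ?_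
  rintro ⟨x, hx, z, hz, hxz⟩
  rw [isPPart_unique Nat.prime_two hz (isPPart_one_of_not_dvd (by simp)), isConj_one_left] at hxz
  exact hx (hxz ▸ one_mem U)

theorem secLift_invol (h : UFour S U) {F : ↥(S : Subgroup G) → ℤ} {g : G} (hg : orderOf g = 2) :
    secLift S U F g = 0 := by
  refine secLift_eq_zero ?_
  rintro ⟨x, hx, z, hz, hxz⟩
  rw [isPPart_unique Nat.prime_two hz ⟨1, mul_one g, Commute.one_right g, ⟨1, by rw [hg, pow_one]⟩,
    by simp⟩] at hxz
  obtain ⟨k, hk⟩ := isConj_iff.1 hxz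
  exact hx (h.orderOf_mem x.2 ((MulEquiv.orderOf_eq (MulAut.conj k) (x : G)).symm.trans ((congrArg orderOf hk).trans hg)))

/-- No product of two involutions has two-part of order four. -/
theorem secLift_mul_invol (h : UFour S U) (hI : Nilp G) {F : ↥(S : Subgroup G) → ℤ} {z w : G}
    (hz : z * z = 1) (hw : w * w = 1) : secLift S U F (z * w) = 0 := by
  refine secLift_eq_zero ?_
  rintro ⟨x, hx, t, ht, hxt⟩
  obtain ⟨y, hy, hty, ⟨j, hj⟩, hyr⟩ := ht
  have hinv : IsPPart 2 (z * w)⁻¹ t⁻¹ := ⟨y⁻¹, by rw [← hy, ← mul_inv_rev, hty.eq],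
    hty.inv_inv, ⟨j, by rw [orderOf_inv, hj]⟩, by rwa [orderOf_inv]⟩
  have hzi : z⁻¹ = z := inv_eq_of_mul_eq_one_right hz
  have hcj := isPPart_conj (⟨y, hy, hty, ⟨j, hj⟩, hyr⟩ : IsPPart 2 (z * w) t) z
  rw [show z * (z * w) * z⁻¹ = (z * w)⁻¹ by
    rw [hzi, mul_inv_rev, hzi, inv_eq_of_mul_eq_one_right hw, ← mul_assoc, hz, one_mul]] at hcj
  have ht' : z * t * z⁻¹ = t⁻¹ := isPPart_unique Nat.prime_two hcj hinv
  obtain ⟨k, hk⟩ := isConj_iff.1 hxt
  set c := k⁻¹ * z * k with hc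
  have hcx : c * (x : G) * c⁻¹ = (x : G)⁻¹ := by
    rw [← hk] at ht'
    calc c * (x : G) * c⁻¹ = k⁻¹ * (z * (k * x * k⁻¹) * z⁻¹) * k := by rw [hc]; group
      _ = _ := by rw [ht']; group
  have hcc : c * c = 1 := by
    calc c * c = k⁻¹ * (z * z) * k := by rw [hc]; group
      _ = 1 := by rw [hz, mul_one, inv_mul_cancel]
  have hu := h.sq_mem x x.2
  have hu1 := h.sq_ne_one x.2 hx
  have hcu : c * ((x : G) * x) = (x : G) * x * c := by
    refine mul_inv_eq_iff_eq_mul.1 ?_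
    calc c * ((x : G) * x) * c⁻¹ = (c * (x : G) * c⁻¹) * (c * (x : G) * c⁻¹) := by group
      _ = ((x : G) * x)⁻¹ := by rw [hcx, mul_inv_rev]
      _ = (x : G) * x := inv_eq_of_mul_eq_one_right ((h.mem_iff _ (h.le hu)).1 hu)
  obtain ⟨s, hs, hss, hsx⟩ := h.inner_of_commute hI hu hu1 hcu
  have h1 := hsx x x.2 (by rw [hcx]; exact inv_mem x.2)
  rw [hcx, ← h.central s ((h.mem_iff s hs).2 (hss hcc)) x x.2, mul_inv_cancel_right] at h1
  exact hu1 (inv_eq_iff_mul_eq_one.1 h1)

variable [Fintype (IrrCharacter G)] [DecidableEq G] {M : Ideal AlgInt} [M.IsMaximal]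

/-- The coefficient formula. -/
theorem inner_secLift (hM : IsPModular 2 M) (h : UFour S U) (hI : Nilp G) (T : Twist S U)
    [Fintype ↥(S : Subgroup G)] {F : ↥(S : Subgroup G) → ℤ} (hF : Inv S U F) (θ : IrrCharacter G)
    [Decidable (θ ∈ principalBlock M G)] :
    (192 : ℂ) * classInner (secLift S U F) (θ : G → ℂ) =
      if θ ∈ principalBlock M G then ∑ x : ↥(S : Subgroup G), (F x : ℂ) * conj ((θ : G → ℂ) x) else 0 := by
  classical
  haveI : Fact (Nat.Prime 2) := ⟨Nat.prime_two⟩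
  let sec : ↥(S : Subgroup G) → Finset G := fun x =>
    univ.filter fun g => ∃ z, IsPPart 2 g z ∧ IsConj (x : G) z
  have step1 : ∑ x : ↥(S : Subgroup G), (F x : ℂ) * ∑ g ∈ sec x, conj ((θ : G → ℂ) g) =
      12 * ∑ g : G, secLift S U F g * conj ((θ : G → ℂ) g) := by
    simp only [sec, mul_sum, sum_filter]
    rw [sum_comm]
    refine sum_congr rfl fun g _ => ?_
    simp only [mul_ite, mul_zero]
    rw [← sum_filter, ← sum_mul]
    by_cases hex : ∃ x : ↥(S : Subgroup G), (x : G) ∉ U ∧ ∃ z, IsPPart 2 g z ∧ IsConj (x : G) z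
    · obtain ⟨x₀, hx₀, z₀, hz₀, hxz₀⟩ := hex
      rw [secLift_eq hF hx₀ hz₀ hxz₀]
      have hset : (univ.filter fun x : ↥(S : Subgroup G) => ∃ z, IsPPart 2 g z ∧ IsConj (x : G) z) =
          univ.filter fun y : ↥(S : Subgroup G) =>
            (fun p : G × G => IsConj p.1 p.2) ((x₀ : G), (y : G)) := by
        ext x
        simp only [mem_filter, mem_univ, true_and]
        exact ⟨fun ⟨z, hz, hxz⟩ => hxz₀.trans ((isPPart_unique Nat.prime_two hz hz₀ ▸ hxz).symm),
          fun hx => ⟨z₀, hz₀, hx.symm.trans hxz₀⟩⟩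
      rw [hset, sum_congr rfl (g := fun _ => (F x₀ : ℂ)) (fun x hx => by
        rw [hF.2 x₀ x (mem_filter.1 hx).2]), sum_const, T.card_conj h hx₀]
      simp only [nsmul_eq_mul, Nat.cast_ofNat]
      ring
    · rw [secLift_eq_zero hex, zero_mul, mul_zero, sum_eq_zero fun x hx => ?_, zero_mul]
      have hxU : (x : G) ∈ U := by
        by_contra hxU
        exact hex ⟨x, hxU, (mem_filter.1 hx).2⟩
      rw [hF.1 x hxU, Int.cast_zero]
  have step2 : ∀ x : ↥(S : Subgroup G), (F x : ℂ) * (16 * ∑ g ∈ sec x, conj ((θ : G → ℂ) g)) =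
      (F x : ℂ) * ((Nat.card G : ℂ) *
        if θ ∈ principalBlock M G then conj ((θ : G → ℂ) x) else 0) := by
    intro x
    by_cases hxU : (x : G) ∈ U
    · rw [hF.1 x hxU, Int.cast_zero, zero_mul, zero_mul]
    congr 1
    set C := centralizer ({(x : G)} : Set G) with hCdef
    haveI : Fintype C := Fintype.ofFinite _
    have hC : ∀ t : G, t ∈ C ↔ Commute t (x : G) := fun t => mem_centralizer_singleton_iff
    have hxk : ∃ k : ℕ, orderOf (x : G) = 2 ^ k := by
      obtain ⟨k, hk⟩ := S.isPGroup'.exists_card_eq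
      obtain ⟨l, -, hl⟩ := (Nat.dvd_prime_pow Nat.prime_two).1 (hk ▸ orderOf_dvd_natCard x)
      exact ⟨l, by rw [Subgroup.orderOf_coe]; exact hl⟩
    have hn : Cfsg.HasNormalPComplement 2 C := by
      have hu := h.sq_mem x x.2
      refine CfsgLib.Fusion.hasNormalPComplement_of_le ?_
        (hI _ (h.orderOf_eq_two hu (h.sq_ne_one x.2 hxU)))
      intro t ht
      exact mem_centralizer_singleton_iff.2 (((hC t).1 ht).mul_right ((hC t).1 ht))
    have hm := PairSolvable.card_regular_mul (p := 2) hn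
    rw [h.two_part_centralizer x.2 hxU] at hm
    set m := (univ.filter fun c : C => ¬ 2 ∣ orderOf c).card with hmdef
    have hm0 : (m : ℂ) ≠ 0 := Nat.cast_ne_zero.2 fun h0 => by
      rw [h0, zero_mul] at hm; exact Nat.card_pos.ne' hm.symm
    have hsec : ∑ c ∈ univ.filter (fun c : C => ¬ 2 ∣ orderOf c), (θ : G → ℂ) ((x : G) * c) =
        (m : ℂ) * if θ ∈ principalBlock M G then (θ : G → ℂ) x else 0 := by
      by_cases hθ : θ ∈ principalBlock M G
      · rw [if_pos hθ, hmdef, ← nsmul_eq_mul, ← sum_const]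
        exact sum_congr rfl fun c hc =>
          PairSolvable.principal_value_eq hM hxk hC hn hθ (mem_filter.1 hc).2
      · rw [if_neg hθ, mul_zero]
        exact PairSolvable.sum_section_eq_zero hM hxk hC hn hθ
    have hs := PairSolvable.sum_section Nat.prime_two hxk hC (isClassFunction_irr θ)
    rw [hsec, ← hm, Nat.cast_mul] at hs
    have e := congrArg conj hs
    simp only [map_mul, map_sum, map_natCast, apply_ite conj, map_zero] at e
    push_cast at e
    apply mul_left_cancel₀ hm0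
    show (m : ℂ) * (16 * ∑ g ∈ sec x, conj ((θ : G → ℂ) g)) = _
    rw [← mul_assoc, mul_left_comm (m : ℂ) (Nat.card G : ℂ), ← e]
    refine congrArg _ (Finset.sum_congr (Finset.ext fun g => ?_) fun _ _ => rfl)
    simp only [sec, Finset.mem_filter]
  have hsum := congrArg (fun t : ℂ => 16 * t) step1
  simp only [mul_sum (a := (16 : ℂ)) (s := (univ : Finset ↥(S : Subgroup G))), mul_left_comm (16 : ℂ)] at hsum
  rw [sum_congr rfl fun x _ => step2 x] at hsum
  have hG : (Nat.card G : ℂ) ≠ 0 := Nat.cast_ne_zero.2 Nat.card_pos.ne'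
  apply mul_left_cancel₀ hG
  rw [classInner, mul_left_comm (192 : ℂ), ← mul_assoc, mul_inv_cancel₀ hG, one_mul]
  have e2 : (Nat.card G : ℂ) * (if θ ∈ principalBlock M G then
      ∑ x : ↥(S : Subgroup G), (F x : ℂ) * conj ((θ : G → ℂ) x) else 0) =
      ∑ x : ↥(S : Subgroup G), (F x : ℂ) * ((Nat.card G : ℂ) *
        if θ ∈ principalBlock M G then conj ((θ : G → ℂ) x) else 0) := by
    by_cases hθ : θ ∈ principalBlock M G
    · simp only [if_pos hθ, mul_sum]
      exact sum_congr rfl fun x _ => by ring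
    · simp [if_neg hθ]
  rw [e2, hsum]
  simp only [mul_sum]
  exact sum_congr rfl fun g _ => by ring

end CfsgLib.TwoNilp
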