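import Cfsg.Agent.Lib.CIT.TwoNilp.Basic
import Cfsg.Agent.Lib.SU.UnitalModel

/-!
# Sylow subgroups of the type of the unitary group over sixteen elements
-/

set_option autoImplicit false
set_option linter.style.haveILetI false

open Subgroup
open scoped commutatorElement

namespace CfsgLib.TwoNilp

universe u

/-- `S` is a Sylow subgroup of order `64` with center `U` of order four containing all involutions, commutators
and squares, and every element outside `U` has all of `U` as commutators. -/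
structure UFour {G : Type u} [Group G] (S : Sylow 2 G) (U : Subgroup G) : Prop where
  le : U ≤ (S : Subgroup G)
  cardS : Nat.card (S : Subgroup G) = 64
  cardU : Nat.card U = 4
  mem_iff : ∀ x ∈ (S : Subgroup G), (x ∈ U ↔ x * x = 1)
  central : ∀ u ∈ U, ∀ x ∈ (S : Subgroup G), x * u = u * x
  sq_mem : ∀ x ∈ (S : Subgroup G), x * x ∈ U
  comm_mem : ∀ x ∈ (S : Subgroup G), ∀ y ∈ (S : Subgroup G), ⁅x, y⁆ ∈ U
  comm_surj : ∀ x ∈ (S : Subgroup G), x ∉ U → ∀ u ∈ U, ∃ y ∈ (S : Subgroup G), ⁅x, y⁆ = u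

variable {G : Type u} [Group G] [Finite G]

theorem uFour_of_mulEquiv {F : Type*} [Field F] [Fintype F] (hF : Fintype.card F = 16)
    (P : Sylow 2 (Cfsg.PSU 3 F 4)) (S : Sylow 2 G)
    (e : ↥(S : Subgroup G) ≃* ↥(P : Subgroup (Cfsg.PSU 3 F 4))) :
    UFour S ((center ↥(S : Subgroup G)).map (S : Subgroup G).subtype) := by
  haveI : Fact (Nat.Prime 2) := ⟨Nat.prime_two⟩
  haveI : CharP F 2 := charP_of_card_eq_prime_pow (f := 4) (by rw [hF]; norm_num)
  obtain ⟨W', -⟩ := CfsgLib.SU.unital_sylow_psu (n := 2) (by norm_num) (by rw [hF]; norm_num) P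
  have W : CfsgLib.SU.Unital ↥(S : Subgroup G) F := W'.congr e
  have hN : Nat.card F = 4 ^ 2 := by rw [Nat.card_eq_fintype_card, hF]; norm_num
  have hU : ∀ x : ↥(S : Subgroup G),
      (x : G) ∈ (center ↥(S : Subgroup G)).map (S : Subgroup G).subtype ↔ W.pi x = 0 := fun x => by
    rw [mem_map, ← W.mem_center_iff]
    constructor
    · rintro ⟨y, hy, he⟩; exact Subtype.coe_injective he ▸ hy
    · exact fun h => ⟨x, h, rfl⟩
  refine ⟨map_subtype_le _, (W.card_eq (q := 4) hN).trans (by norm_num), ?_, ?_, ?_, ?_, ?_, ?_⟩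
  · rw [card_map_of_injective (S : Subgroup G).subtype_injective, W.card_center_eq (q := 4) hN]
  · intro x hx
    rw [hU ⟨x, hx⟩, ← W.mul_self_eq_one_iff]
    exact ⟨fun h => congrArg Subtype.val h, fun h => Subtype.ext h⟩
  · rintro _ ⟨u, hu, rfl⟩ x hx
    exact congrArg Subtype.val (mem_center_iff.1 hu ⟨x, hx⟩)
  · intro x hx
    exact (hU (⟨x, hx⟩ * ⟨x, hx⟩)).2 (W.pi_mul_self _)
  · intro x hx y hy
    refine (hU ⁅(⟨x, hx⟩ : ↥(S : Subgroup G)), ⟨y, hy⟩⁆).2 ?_
    exact W.mem_commutator_iff.1 (commutator_mem_commutator (mem_top _) (mem_top _))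
  · intro x hx hxU u hu
    have hu' : u ∈ (S : Subgroup G) := map_subtype_le _ hu
    set x' : ↥(S : Subgroup G) := ⟨x, hx⟩
    have hne : W.pi x' ≠ 0 := fun h => hxU ((hU x').2 h)
    have hne' : W.bar (W.pi x') ≠ 0 := fun h => hne ((map_eq_zero W.bar).1 h)
    have hu0 : W.pi ⟨u, hu'⟩ = 0 := (hU _).1 hu
    set k := W.tau ⟨u, hu'⟩
    have hk : W.bar k = k := W.tau_fixed hu0
    obtain ⟨v, hv⟩ := CfsgLib.SU.HermAut.exists_trace_one W.bar W.bar_bar W.exists_ne
    obtain ⟨y, hy⟩ := W.exists_pi (k * v / W.bar (W.pi x'))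
    refine ⟨y, y.2, congrArg Subtype.val (?_ : ⁅x', y⁆ = ⟨u, hu'⟩)⟩
    have hpc : W.pi ⁅x', y⁆ = 0 :=
      W.mem_commutator_iff.1 (commutator_mem_commutator (mem_top _) (mem_top _))
    refine W.coord_ext _ _ (hpc.trans hu0.symm) ?_
    have heq : x' * y = ⁅x', y⁆ * (y * x') := by rw [commutatorElement_def]; group
    have h1 := congrArg W.tau heq
    rw [W.tau_mul, W.tau_mul ⁅x', y⁆, hpc, map_zero, mul_zero, add_zero, W.tau_mul] at h1
    have h2 : W.pi y * W.bar (W.pi x') = k * v := by rw [hy, div_mul_cancel₀ _ hne']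
    have h3 : W.pi x' * W.bar (W.pi y) = k * W.bar v := by
      have h := congrArg W.bar h2
      rw [map_mul, map_mul, W.bar_bar, hk] at h
      rw [mul_comm]; exact h
    rw [h2, h3] at h1
    show W.tau ⁅x', y⁆ = k
    linear_combination -h1 + k * hv + (-(k * W.bar v)) * (CharTwo.two_eq_zero : (2 : F) = 0)

namespace UFour

variable {S : Sylow 2 G} {U : Subgroup G} (h : UFour S U)

include h

theorem orderOf_mem {t : G} (ht : t ∈ (S : Subgroup G)) (h2 : orderOf t = 2) : t ∈ U :=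
  (h.mem_iff t ht).2 (by rw [← sq, ← h2, pow_orderOf_eq_one])

theorem orderOf_eq_two {u : G} (hu : u ∈ U) (h1 : u ≠ 1) : orderOf u = 2 :=
  orderOf_eq_prime (by rw [sq]; exact (h.mem_iff u (h.le hu)).1 hu) h1

theorem ne_one {x : G} (hxU : x ∉ U) : x ≠ 1 := fun e => hxU (e ▸ one_mem U)

theorem sq_ne_one {x : G} (hx : x ∈ (S : Subgroup G)) (hxU : x ∉ U) : x * x ≠ 1 :=
  fun e => hxU ((h.mem_iff x hx).2 e)

theorem mem_of_conj {x g : G} (hx : x ∈ U) (hg : g * x * g⁻¹ ∈ (S : Subgroup G)) : g * x * g⁻¹ ∈ U := by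
  refine (h.mem_iff _ hg).2 ?_
  rw [show g * x * g⁻¹ * (g * x * g⁻¹) = g * (x * x) * g⁻¹ by group, (h.mem_iff x (h.le hx)).1 hx,
    mul_one, mul_inv_cancel]

theorem stronglyClosed : Cfsg.IsStronglyClosed U (S : Subgroup G) :=
  ⟨h.le, fun _ hx _ hg => h.mem_of_conj hx hg⟩

theorem le_centralizer {u : G} (hu : u ∈ U) : (S : Subgroup G) ≤ centralizer ({u} : Set G) :=
  fun x hx => mem_centralizer_singleton_iff.2 (h.central u hu x hx)

/-- The intersection of `S` with the centralizer of an element outside `U` has order sixteen. -/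
theorem card_inf_centralizer {x : G} (hx : x ∈ (S : Subgroup G)) (hxU : x ∉ U) :
    Nat.card ↥((S : Subgroup G) ⊓ centralizer ({x} : Set G)) = 16 := by
  let f : ↥(S : Subgroup G) →* ↥U := MonoidHom.mk' (fun s => ⟨⁅x, (s : G)⁆, h.comm_mem x hx s s.2⟩)
    fun a b => Subtype.ext (by
      show ⁅x, ((a * b : ↥(S : Subgroup G)) : G)⁆ = ⁅x, (a : G)⁆ * ⁅x, (b : G)⁆
      rw [Subgroup.coe_mul, show ⁅x, (a : G) * (b : G)⁆ = ⁅x, (a : G)⁆ * ((a : G) * ⁅x, (b : G)⁆ * (a : G)⁻¹) by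
        simp only [commutatorElement_def]; group]
      exact congrArg (⁅x, (a : G)⁆ * ·) (mul_inv_eq_iff_eq_mul.2
        (h.central _ (h.comm_mem x hx b b.2) a a.2)))
  have hf : Function.Surjective f := fun u => by
    obtain ⟨y, hy, he⟩ := h.comm_surj x hx hxU u u.2
    exact ⟨⟨y, hy⟩, Subtype.ext he⟩
  have hk : f.ker = ((S : Subgroup G) ⊓ centralizer ({x} : Set G)).subgroupOf (S : Subgroup G) := by
    ext s
    rw [MonoidHom.mem_ker, mem_subgroupOf, mem_inf, mem_centralizer_singleton_iff, Subtype.ext_iff]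
    show ⁅x, (s : G)⁆ = 1 ↔ _
    rw [commutatorElement_eq_one_iff_mul_comm]
    exact ⟨fun e => ⟨s.2, e.symm⟩, fun e => e.2.symm⟩
  have h1 := f.ker.index_mul_card
  rw [index_ker, MonoidHom.range_eq_top_of_surjective f hf, card_top, h.cardU, h.cardS, hk,
    Nat.card_congr (subgroupOfEquivOfLe inf_le_left).toEquiv] at h1
  omega

/-- The Sylow subgroups of the centralizer of an element outside `U` have order sixteen. -/
theorem two_part_centralizer {x : G} (hx : x ∈ (S : Subgroup G)) (hxU : x ∉ U) :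
    2 ^ (Nat.card ↥(centralizer ({x} : Set G))).factorization 2 = 16 := by
  haveI : Fact (Nat.Prime 2) := ⟨Nat.prime_two⟩
  set C := centralizer ({x} : Set G) with hC
  obtain ⟨P⟩ : Nonempty (Sylow 2 ↥C) := inferInstance
  have hlow : 16 ∣ Nat.card ↥C := by
    rw [← h.card_inf_centralizer hx hxU]; exact card_dvd_of_le inf_le_right
  have hP := P.card_eq_multiplicity
  have hzC : x ∈ C := mem_centralizer_singleton_iff.2 rfl
  set Q : Subgroup G := (P : Subgroup ↥C).map C.subtype with hQ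
  have hQC : Q ≤ C := map_subtype_le _
  have hxQ : x ∈ Q := by
    have hcen : ∀ c : ↥C, c * ⟨x, hzC⟩ = ⟨x, hzC⟩ * c := fun c =>
      Subtype.ext (mem_centralizer_singleton_iff.1 c.2)
    haveI : (zpowers (⟨x, hzC⟩ : ↥C)).Normal := ⟨fun m hm k => by
      have h2 : m ∈ center ↥C := zpowers_le.2 (mem_center_iff.2 hcen) hm
      rw [mem_center_iff.1 h2 k, mul_inv_cancel_right]
      exact hm⟩
    obtain ⟨n, hn⟩ := S.isPGroup' ⟨x, hx⟩
    have hp : IsPGroup 2 ↥(zpowers (⟨x, hzC⟩ : ↥C)) := fun ⟨y, hy⟩ => ⟨n, by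
      obtain ⟨i, rfl⟩ := hy
      refine Subtype.ext (Subtype.ext ?_)
      push_cast
      rw [← zpow_natCast, ← zpow_mul, mul_comm, zpow_mul, zpow_natCast,
        show x ^ 2 ^ n = 1 from congrArg Subtype.val hn, one_zpow]⟩
    obtain ⟨P', hP'⟩ := hp.exists_le_sylow
    obtain ⟨g, hg⟩ := MulAction.exists_smul_eq ↥C P' P
    refine ⟨⟨x, hzC⟩, ?_, rfl⟩
    rw [← hg]
    show (⟨x, hzC⟩ : ↥C) ∈ ((g • P' : Sylow 2 ↥C) : Subgroup ↥C)
    rw [Sylow.coe_subgroup_smul, Subgroup.mem_smul_pointwise_iff_exists]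
    exact ⟨_, hP' (mem_zpowers _), by
      show g * ⟨x, hzC⟩ * g⁻¹ = _
      rw [hcen g, mul_inv_cancel_right]⟩
  obtain ⟨R, hR⟩ := (P.isPGroup'.map C.subtype).exists_le_sylow
  obtain ⟨g, rfl⟩ := MulAction.exists_smul_eq G S R
  have hmem : ∀ y ∈ Q, g⁻¹ * y * g ∈ (S : Subgroup G) := fun y hy => by
    have := hR hy
    rw [Sylow.coe_subgroup_smul, Subgroup.mem_smul_pointwise_iff_exists] at this
    obtain ⟨s, hs, rfl⟩ := this
    show g⁻¹ * (g * s * g⁻¹) * g ∈ _
    rwa [show g⁻¹ * (g * s * g⁻¹) * g = s by group]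
  have hxU' : g⁻¹ * x * g ∉ U := fun hu => h.sq_ne_one hx hxU (by
    have e := (h.mem_iff _ (h.le hu)).1 hu
    calc x * x = g * (g⁻¹ * x * g * (g⁻¹ * x * g)) * g⁻¹ := by group
      _ = 1 := by rw [e, mul_one, mul_inv_cancel])
  have hle : Q.map (MulAut.conj g⁻¹).toMonoidHom ≤
      (S : Subgroup G) ⊓ centralizer ({g⁻¹ * x * g} : Set G) := by
    rintro _ ⟨y, hy, rfl⟩
    show g⁻¹ * y * g⁻¹⁻¹ ∈ _
    rw [inv_inv]
    refine ⟨hmem y hy, mem_centralizer_singleton_iff.2 ?_⟩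
    have := mem_centralizer_singleton_iff.1 (hQC hy)
    calc g⁻¹ * y * g * (g⁻¹ * x * g) = g⁻¹ * (y * x) * g := by group
      _ = g⁻¹ * x * g * (g⁻¹ * y * g) := by rw [this]; group
  have hup : Nat.card ↥(P : Subgroup ↥C) ∣ 16 := by
    rw [← h.card_inf_centralizer (hmem x hxQ) hxU',
      ← card_map_of_injective C.subtype_injective (K := (P : Subgroup ↥C)),
      ← card_map_of_injective (f := (MulAut.conj g⁻¹).toMonoidHom) (MulAut.conj g⁻¹).injective]
    exact card_dvd_of_le hle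
  refine Nat.dvd_antisymm (hP ▸ hup) ?_
  have h4 : 4 ≤ (Nat.card ↥C).factorization 2 :=
    (Nat.prime_two.pow_dvd_iff_le_factorization Nat.card_pos.ne').1 (by simpa using hlow)
  exact pow_dvd_pow 2 h4

end UFour

end CfsgLib.TwoNilp
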